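import Cfsg.Agent.H660.RR.Crd_m3
import Cfsg.Agent.H694.RG.Trans_m3
import Cfsg.Agent.H165.WL.Tool
import Cfsg.Agent.H378.OmD4
import Cfsg.Agent.H169.RG.Toral
import Cfsg.Agent.H400.TwoExcTabE_m3
import Cfsg.Agent.H916.RG.Pair_m3
import Cfsg.Agent.H305.SepJ1
import Cfsg.Agent.H413.JOneSpec
import Cfsg.Agent.H147.Gen.Outer_m3
import Cfsg.Agent.S2065
import Cfsg.Agent.H895.RG.Pair
import Cfsg.Agent.H867.Gen.FiTwentyTwo_m3
import Cfsg.Agent.H878.EPX.FiK
import Cfsg.Agent.FastGrp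
import Cfsg.Agent.Prune
set_option linter.all false

section
prune_inst 0x7ffcfefbefb8bddfffff7e7ffefddffe39d1dfffefdffb4bffedf3ffbbdf236f3be5fbaf1de4d8ff9e56e0b630b87853fbffeeffef6fdc7ffffd5ff45ffbee0ff5f7bf8931d79c340f7e6fffe3f17fee7f3fffffffffffffffffffffffffffffffffffffffff

-- part: H694/RG/EngP
section
prune_inst 0x4000002200000018001020001c4242000102004b000020c0044204c00c4020010e21b020041210308c440038000000100000003800000000080001180080000044028208a108000000002000000000000000000000000000000000000000000000000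
set_option linter.all false
open scoped Cfsg.Agent.FastGrp

-- part: H368/RG/Engine2
section
/-!
# S3509: the engine, second form (helper368)

* `Good N M`     : `M < N` quasisimple, `M/Z(M)` not alternating;
* `Dead Ω D p M` : commuting `p'`-elements of prime order of `C_D(M)` never cover together with the points fixed by `M`
  (`dead_lr` : `M` contains a long root element; `dead_self` : `C_D(M) ≤ ⟨y⟩`, `y ∈ M`);
* `UsefulBy Ω N D p M y` : `M` good and dead, centralised by `y`, normalised by the elements of `C_D(y)` of order prime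
  to the order of `y`;
* `engine2` : no cover, from (B) `O_p(C_N(s)) = 1`, (M3) normality for members of equal prime, (S1) no cover by not
  useful `p'`-elements, (S2) no mixed cover without useful elements;
* `engine2_one` : (S1) and (S2) replaced by: commuting not useful `p'`-elements of prime order do not cover.
-/

set_option autoImplicit false
open Cfsg

namespace Cfsg.Agent.H368.RG

open MulAction Cfsg.Agent.H106.RC Cfsg.Agent.H380.RC Cfsg.Agent.H873.RG

/-- `M < N` quasisimple, `M/Z(M)` not alternating -/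
structure Good {G : Type} [Group G] (N M : Subgroup G) : Prop where
  le : M ≤ N
  ne : M ≠ N
  perf : ⁅M, M⁆ = M
  quot : ∃ (S' : Type) (_ : Group S') (_ : Finite S') (π : M →* S'),
    Function.Surjective π ∧ π.ker ≤ Subgroup.center M ∧ NSA S'

/-- a `p'`-element of prime order of `D` -/
def PPr {G : Type*} [Group G] (D : Subgroup G) (p : ℕ) (z : G) : Prop :=
  z ∈ D ∧ z ≠ 1 ∧ ∃ r : ℕ, r.Prime ∧ r ≠ p ∧ z ^ r = 1

/-- commuting `p'`-elements of prime order of `C_D(M)` never cover together with the points fixed by `M` -/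
def Dead {G : Type} [Group G] (Ω : Type) [MulAction G Ω] (D : Subgroup G) (p : ℕ) (M : Subgroup G) : Prop :=
  ∀ (κ : Type) [Finite κ] (z : κ → G), (∀ k, PPr D p (z k) ∧ ∀ m ∈ M, z k * m = m * z k) →
    (∀ k l, z k * z l = z l * z k) → ¬ ∀ ω : Ω, M ≤ stabilizer G ω ∨ ∃ k, z k • ω = ω

/-- `y` is useful by means of `M` -/
structure UsefulBy {G : Type} [Group G] (Ω : Type) [MulAction G Ω] (N D : Subgroup G) (p : ℕ) (M : Subgroup G) (y : G) :
    Prop where
  good : Good N M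
  dead : Dead Ω D p M
  cent : ∀ m ∈ M, y * m = m * y
  norm : ∀ c ∈ D, c * y = y * c → (orderOf c).Coprime (orderOf y) → c ∈ Subgroup.normalizer (M : Set G)

section lemmas

variable {G : Type*} [Group G]

theorem mem_normalizer_of_comm {M : Subgroup G} {y : G} (h : ∀ m ∈ M, y * m = m * y) :
    y ∈ Subgroup.normalizer (M : Set G) := by
  rw [Subgroup.mem_normalizer_iff]
  intro m
  constructor
  · intro hm
    rw [h m hm, mul_inv_cancel_right]
    exact hm
  · intro hm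
    have h1 := h _ hm
    have h2 : y * m * y⁻¹ = m := by
      have h3 : y * (y * m * y⁻¹) = y * m := by rw [h1]; group
      exact mul_left_cancel h3
    rwa [h2] at hm

theorem pCore_bot_of_normal [Finite G] {p : ℕ} {C C' : Subgroup G} (hle : C' ≤ C)
    (hn : ∀ c ∈ C, ∀ z ∈ C', c * z * c⁻¹ ∈ C') (h : pCore p ↥C = ⊥) : pCore p ↥C' = ⊥ := by
  have hX : (C'.subgroupOf C).Normal := by
    refine ⟨fun z hz c => ?_⟩
    rw [Subgroup.mem_subgroupOf] at hz ⊢
    rw [Subgroup.coe_mul, Subgroup.coe_mul, Subgroup.coe_inv]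
    exact hn c c.2 z hz
  have h1 := Cfsg.Agent.Lib.Cores.map_subtype_pCore p hX
  rw [h, inf_bot_eq, Subgroup.map_eq_bot_iff_of_injective _ (Subgroup.subtype_injective _)] at h1
  have h2 := Cfsg.Agent.Lib.Cores.map_equiv_pCore (Subgroup.subgroupOfEquivOfLe hle) p
  rw [← h2, h1, Subgroup.map_bot]

/-- the subgroup generated by the elements of `C` of order prime to `n` -/
def cop (C : Subgroup G) (n : ℕ) : Subgroup G := Subgroup.closure {c | c ∈ C ∧ (orderOf c).Coprime n}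

theorem cop_le (C : Subgroup G) (n : ℕ) : cop C n ≤ C := by
  rw [cop, Subgroup.closure_le]
  exact fun c hc => hc.1

theorem mem_cop {C : Subgroup G} {n : ℕ} {c : G} (hc : c ∈ C) (h : (orderOf c).Coprime n) : c ∈ cop C n :=
  Subgroup.subset_closure ⟨hc, h⟩

theorem cop_conj {C : Subgroup G} {n : ℕ} {c z : G} (hc : c ∈ C) (hz : z ∈ cop C n) : c * z * c⁻¹ ∈ cop C n := by
  have h : cop C n ≤ (cop C n).comap (MulAut.conj c).toMonoidHom := by
    conv_lhs => rw [cop]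
    rw [Subgroup.closure_le]
    rintro d ⟨hd, h1⟩
    show c * d * c⁻¹ ∈ cop C n
    refine mem_cop (C.mul_mem (C.mul_mem hc hd) (C.inv_mem hc)) ?_
    have h2 : orderOf (c * d * c⁻¹) = orderOf d := by
      have := orderOf_injective (MulAut.conj c).toMonoidHom (MulAut.conj c).injective d
      exact this
    rwa [h2]
  exact h hz

end lemmas

section abs

variable {G Ω : Type} [Group G] [Finite G] [MulAction G Ω] {N D : Subgroup G}

/-- a quasisimple group with a long root element is dead -/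
theorem dead_lr [Nonempty Ω] (hE : Env G Ω N) {p : ℕ} {V : G → Prop} {U : G → Subgroup G} (hL : LRData D p V U)
    {M : Subgroup G} {v : G} (hvM : v ∈ M) (hv : V v) : Dead Ω D p M := by
  classical
  intro κ _ z hz hc hcov
  choose r hr using fun k => (hz k).1.2.2
  refine kill_lr hE hL hv (x := z) (r := r) (fun k => (hz k).1.1) (fun k => (hz k).1.2.1) (fun k => (hr k).1)
    (fun k => (hr k).2.1) (fun k => (hr k).2.2) hc (fun k => (hz k).2 v hvM) (fun ω => ?_)
  rcases hcov ω with h | h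
  · exact Or.inl (h hvM)
  · exact Or.inr h

end abs

end Cfsg.Agent.H368.RG
end

-- part: H368/RG/Engine3
section
/-!
# S3509: the engine, third form (helper368)

* `dead_one` : `C_D(M) ≤ ⟨y⟩`, `1 ≠ v ∈ M`, `v ∈ [U, y]`, `U` commutes with `v`;
* `engine3` : `engine2` with the primes of the members kept (all but one), and a class `X` of elements which are
  excluded separately (`hX` : no member of a cover; `hX2` : not in the normal closure of the member of order `p`).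
* `kill_mixed` : a mixed cover, `v` a long root element commuting with all members of order `≠ p`, and an element of
  prime order `≠ p` of the normal closure `K` commuting with `v`, or `x i₀` a long root element, or `v ∈ K`.
-/

set_option autoImplicit false
open Cfsg

namespace Cfsg.Agent.H368.RG

open MulAction Cfsg.Agent.H106.RC Cfsg.Agent.H380.RC Cfsg.Agent.H873.RG

section abs

variable {G Ω : Type} [Group G] [Finite G] [MulAction G Ω] {N D : Subgroup G}

omit [Finite G] in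
/-- every element of prime order of `⟨y⟩`, `y` of prime order, generates `⟨y⟩` -/
theorem mem_zpowers_prime {y z : G} {t : ℕ} (ht : t.Prime) (hyt : y ^ t = 1) (hy1 : y ≠ 1)
    (hz : z ∈ Subgroup.zpowers y) (hz1 : z ≠ 1) : y ∈ Subgroup.zpowers z := by
  have hyo : orderOf y = t := orderOf_eq_prime hyt hy1 (hp := ⟨ht⟩)
  have hp : Fact (Nat.card (Subgroup.zpowers y)).Prime := ⟨by rw [Nat.card_zpowers, hyo]; exact ht⟩
  have h4 : (⟨z, hz⟩ : Subgroup.zpowers y) ≠ 1 := fun h => hz1 (congrArg Subtype.val h)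
  have h5 := mem_zpowers_of_prime_card (p := Nat.card (Subgroup.zpowers y)) (g := (⟨z, hz⟩ : Subgroup.zpowers y))
    (g' := ⟨y, Subgroup.mem_zpowers y⟩) rfl h4
  obtain ⟨a, ha⟩ := Subgroup.mem_zpowers_iff.1 h5
  refine Subgroup.mem_zpowers_iff.2 ⟨a, ?_⟩
  have := congrArg Subtype.val ha
  simpa using this

/-- the normal closure of the member `i₀` in the centraliser of the other members -/
def KK {ι : Type} (N : Subgroup G) (x : ι → G) (i₀ : ι) : Subgroup G :=
  nclo (N ⊓ ⨅ i : {i // i ≠ i₀}, Subgroup.centralizer {x i}) (x i₀)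

omit [Finite G] in
theorem KK_comm {ι : Type} {x : ι → G} {i₀ : ι} (hN : x i₀ ∈ N) (hc : ∀ i, x i₀ * x i = x i * x i₀) {y : G}
    (hy : y ∈ KK N x i₀) {i : ι} (hi : i ≠ i₀) : y * x i = x i * y := by
  have huC : x i₀ ∈ N ⊓ ⨅ i : {i // i ≠ i₀}, Subgroup.centralizer {x i} :=
    ⟨hN, Subgroup.mem_iInf.2 fun j => Subgroup.mem_centralizer_singleton_iff.2 (hc j)⟩
  exact Subgroup.mem_centralizer_singleton_iff.1 ((Subgroup.mem_iInf.1 (nclo_le huC hy).2) ⟨i, hi⟩)

omit [Finite G] in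
/-- every point fixed by no other member is fixed by `K` -/
theorem KK_cov {ι : Type} {x : ι → G} {i₀ : ι} (hcov : Cov Ω x) {y : G} (hy : y ∈ KK N x i₀) (ω : Ω) :
    (∃ j, j ≠ i₀ ∧ x j • ω = ω) ∨ y • ω = ω := by
  have hCx : ∀ c ∈ N ⊓ ⨅ i : {i // i ≠ i₀}, Subgroup.centralizer {x i}, ∀ j, j ≠ i₀ → c * x j = x j * c :=
    fun c hc j hj => Subgroup.mem_centralizer_singleton_iff.1 ((Subgroup.mem_iInf.1 hc.2) ⟨j, hj⟩)
  refine nclo_fix (F := _) (u := x i₀) (P := fun ω => ∃ j, j ≠ i₀ ∧ x j • ω = ω) ?_ ?_ hy ω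
  · rintro c hc ω ⟨j, hj, h⟩
    refine ⟨j, hj, ?_⟩
    rw [← mul_smul, ← hCx c hc j hj, mul_smul] at h
    exact MulAction.injective c h
  · intro ω
    obtain ⟨j, h⟩ := hcov ω
    by_cases hji : j = i₀
    · right; rw [← hji]; exact h
    · exact Or.inl ⟨j, hji, h⟩

/-- **Kill of a mixed cover** by a long root element `v` commuting with all members of order `≠ p`: if `v ∈ K`, or some
element of prime order `≠ p` of `K` commutes with `v`. (If `x i₀` is a long root element: `v := x i₀`.) -/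
theorem kill_mixed [Nonempty Ω] {ι : Type} [Finite ι] (hE : Env G Ω N) {p : ℕ} {V : G → Prop}
    {U : G → Subgroup G} (hL : LRData D p V U) {x : ι → G} {r : ι → ℕ} (hx : PF x r) (hcov : Cov Ω x)
    (hD : ∀ i, x i ∈ D) {i₀ : ι} (hi₀ : r i₀ = p) (huN : x i₀ ∈ N) {v : G} (hv : V v)
    (hxv : ∀ i, i ≠ i₀ → x i * v = v * x i)
    (h : v ∈ KK N x i₀ ∨ ∃ y ∈ KK N x i₀, PPr D p y ∧ y * v = v * y) : False := by
  classical
  have hrne : ∀ i, i ≠ i₀ → r i ≠ p := fun i hi h => hi (hx.inj (h.trans hi₀.symm))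
  rcases h with h | ⟨y, hy, hyP, hyv⟩
  · refine kill_lr hE hL hv (ι := {i // i ≠ i₀}) (x := fun i => x i) (r := fun i => r i) (fun i => hD i)
      (fun i => hx.ne i) (fun i => hx.prime i) (fun i => hrne i i.2) (fun i => hx.pow i) (fun i j => hx.comm i j)
      (fun i => hxv i i.2) (fun ω => ?_)
    rcases KK_cov hcov h ω with ⟨j, hj, h1⟩ | h1
    · exact Or.inr ⟨⟨j, hj⟩, h1⟩
    · exact Or.inl h1
  · obtain ⟨hyD, hy1, t, ht, htp, hyt⟩ := hyP
    refine kill_lr hE hL hv (ι := Option {i // i ≠ i₀}) (x := fun o => o.elim y fun i => x i)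
      (r := fun o => o.elim t fun i => r i) ?_ ?_ ?_ ?_ ?_ ?_ ?_ ?_
    · rintro (_ | j)
      · exact hyD
      · exact hD j
    · rintro (_ | j)
      · exact hy1
      · exact hx.ne j
    · rintro (_ | j)
      · exact ht
      · exact hx.prime j
    · rintro (_ | j)
      · exact htp
      · exact hrne j j.2
    · rintro (_ | j)
      · exact hyt
      · exact hx.pow j
    · rintro (_ | i) (_ | j)
      · rfl
      · exact KK_comm huN (fun i => hx.comm i₀ i) hy j.2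
      · exact (KK_comm huN (fun i => hx.comm i₀ i) hy i.2).symm
      · exact hx.comm i j
    · rintro (_ | j)
      · exact hyv
      · exact hxv j j.2
    · intro ω
      right
      rcases KK_cov hcov hy ω with ⟨j, hj, h1⟩ | h1
      · exact ⟨some ⟨j, hj⟩, h1⟩
      · exact ⟨none, h1⟩

end abs

end Cfsg.Agent.H368.RG
end

-- part: H694/RG/EngP
section
/-!
# S3509: the second engine of helper368 with a predicate of useful elements; transport (helper694)

* `DeadAt Ω D p M y` : as `Dead`, only for elements commuting with `y` (remark of helper338); `dead_at`, `deadAt_self`,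
  `deadAt_one`; `UsBy` : as `H368.RG.UsefulBy` with `DeadAt`;
* `engineP`  : as `H368.RG.engine2`; `P` any predicate, `P y → ∃ M, UsBy .. M y` for the `p'`-elements of prime order;
* `NearPF`   : commuting `p'`-elements of prime orders, the primes are different with one exception;
* `engineP1` : `engineP` with one input `hS` for `NearPF` families;
* `UsY ι I p M y` : `y` is useful by means of `M`, everything in `Y`; `DeadY`, `DeadYAt`, `DeadY.at`, `deadY_lr`, `deadY_self`,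
  `deadY_one`, `deadYAt_self`, `deadYAt_one`;
* `usBy` : transport of `UsY`; `nclo_rep` : transport of normal closures;
* `engineYP`, `engineYP1` : the engines with all data in `Y`, `P : Y → Prop`;
* `engineYPN` : the numbers: bounds `B r` for the centralizers depending on the prime `r`;
* `engineYPX` : the same with a class `X` of elements excluded separately; `kill_lrY`, `kill_mixedY`.
-/

set_option autoImplicit false
set_option linter.unusedSectionVars false
open Cfsg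

namespace Cfsg.Agent.H694.RG

open MulAction Subgroup Cfsg.Agent.H106.RC Cfsg.Agent.H327.RG Cfsg.Agent.H368.RG Cfsg.Agent.H873.RG Cfsg.Agent.H380.RC
open Cfsg.Agent.H28.GenF (InD)
open scoped commutatorElement

/-- commuting nontrivial elements of prime orders `≠ p`, the primes are different, with the exception of one member -/
structure NearPF {ι : Type} {G : Type*} [Group G] (p : ℕ) (z : ι → G) (r : ι → ℕ) : Prop where
  prime : ∀ i, (r i).Prime
  nep : ∀ i, r i ≠ p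
  ne : ∀ i, z i ≠ 1
  pow : ∀ i, z i ^ r i = 1
  comm : ∀ i j, z i * z j = z j * z i
  inj : ∃ o : Option ι, ∀ i j, some i ≠ o → some j ≠ o → r i = r j → i = j

section abs

variable {G Ω : Type} [Group G] [Finite G] [MulAction G Ω] {N D : Subgroup G}

/-- commuting `p'`-elements of prime order of `C_D(M)` commuting with `y` never cover together with the points fixed by
`M` -/
def DeadAt {G : Type} [Group G] (Ω : Type) [MulAction G Ω] (D : Subgroup G) (p : ℕ) (M : Subgroup G) (y : G) : Prop :=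
  ∀ (κ : Type) [Finite κ] (z : κ → G), (∀ k, PPr D p (z k) ∧ (∀ m ∈ M, z k * m = m * z k) ∧ z k * y = y * z k) →
    (∀ k l, z k * z l = z l * z k) → ¬ ∀ ω : Ω, M ≤ stabilizer G ω ∨ ∃ k, z k • ω = ω

/-- `y` is useful by means of `M` -/
structure UsBy {G : Type} [Group G] (Ω : Type) [MulAction G Ω] (N D : Subgroup G) (p : ℕ) (M : Subgroup G) (y : G) :
    Prop where
  good : Good N M
  dead : DeadAt Ω D p M y
  cent : ∀ m ∈ M, y * m = m * y
  norm : ∀ c ∈ D, c * y = y * c → (orderOf c).Coprime (orderOf y) → c ∈ Subgroup.normalizer (M : Set G)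

omit [Finite G] in
theorem dead_at {p : ℕ} {M : Subgroup G} (h : Dead Ω D p M) (y : G) : DeadAt Ω D p M y :=
  fun κ _ z hz hc => h κ z (fun k => ⟨(hz k).1, (hz k).2.1⟩) hc

omit [Finite G] in
/-- `C_D(M) ∩ C_D(y) ≤ ⟨y⟩` (elements of prime order) and the rule for one element -/
theorem deadAt_one [Nonempty Ω] (hE : Env G Ω N) {p : ℕ} {M : Subgroup G} {y : G} {t : ℕ} (ht : t.Prime) (hyt : y ^ t = 1)
    (hy1 : y ≠ 1) (hc : ∀ z, PPr D p z → (∀ m ∈ M, z * m = m * z) → z * y = y * z → z ∈ Subgroup.zpowers y)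
    {v : G} (hvM : v ∈ M) (hv : v ≠ 1)
    {U : Subgroup G} (hU : ∀ u ∈ U, u * v = v * u) (hvU : v ∈ cmm U y) : DeadAt Ω D p M y := by
  intro κ _ z hz _ hcov
  refine not_cov_one hE (x := y) (y := v) (U := U) (fun ω => ?_) hU hv hvU
  rcases hcov ω with h | ⟨k, hk⟩
  · exact Or.inl (h hvM)
  · right
    have h1 : z k ∈ stabilizer G ω := hk
    have h2 : Subgroup.zpowers (z k) ≤ stabilizer G ω := by rwa [Subgroup.zpowers_le]
    exact h2 (mem_zpowers_prime ht hyt hy1 (hc _ (hz k).1 (hz k).2.1 (hz k).2.2) (hz k).1.2.1)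

omit [Finite G] in
/-- a member useful by `M`: the whole family normalises `M` -/
theorem norm_allW {ι : Type} {p : ℕ} {x : ι → G} {r : ι → ℕ} (hx : PF x r) (hD : ∀ i, x i ∈ D) {i₁ : ι} {M : Subgroup G}
    (hU : UsBy Ω N D p M (x i₁)) (i : ι) : x i ∈ Subgroup.normalizer (M : Set G) := by
  by_cases hi : i = i₁
  · subst hi
    exact mem_normalizer_of_comm hU.cent
  · refine hU.norm _ (hD i) (hx.comm i i₁) ?_
    rw [orderOf_eq_prime (hx.pow i) (hx.ne i) (hp := ⟨hx.prime i⟩),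
      orderOf_eq_prime (hx.pow i₁) (hx.ne i₁) (hp := ⟨hx.prime i₁⟩), Nat.coprime_primes (hx.prime i) (hx.prime i₁)]
    exact fun h => hi (hx.inj h)

/-- **One useful member, the element of order `p` does not centralise `M`.** -/
theorem case_dropW {S ι : Type} [Group S] [Finite S] [Finite ι] (e : N ≃* S)
    (hIH : IHx (Nat.card S)) {p : ℕ} {x : ι → G} {r : ι → ℕ} (hx : PF x r) (hcov : Cov Ω x) (hD : ∀ i, x i ∈ D)
    {M : Subgroup G} (hG : Good N M) {y₀ : G} (hy₀ : ∀ i, x i * y₀ = y₀ * x i) (hdead : DeadAt Ω D p M y₀)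
    (hnx : ∀ i, x i ∈ Subgroup.normalizer (M : Set G))
    (hp : ∀ i, (∀ m ∈ M, x i * m = m * x i) → r i ≠ p) : False := by
  obtain ⟨S', _, _, π, hπ, hker, hNSA⟩ := hG.quot
  have h1 : ∀ ω : Ω, False ∨ M ≤ stabilizer G ω ∨ ∃ j, (∀ m ∈ M, x j * m = m * x j) ∧ x j • ω = ω :=
    fun ω => mstep hIH e hG.le hG.ne hG.perf π hπ hker hNSA hx hnx (P := fun _ => False) (fun _ _ _ h => h)
      (fun ω => Or.inr (hcov ω)) ω
  refine hdead {j // ∀ m ∈ M, x j * m = m * x j} (fun j => x j)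
    (fun j => ⟨⟨hD j, hx.ne j, r j, hx.prime j, hp j j.2, hx.pow j⟩, j.2, hy₀ j⟩) (fun i j => hx.comm i j) (fun ω => ?_)
  rcases h1 ω with h | h | ⟨j, hj, h⟩
  · exact h.elim
  · exact Or.inl h
  · exact Or.inr ⟨⟨j, hj⟩, h⟩

/-- **The end of the mixed cases**: `y` centralises `M`, the `x j` (`j ≠ i₀`) normalise `M`, together they cover. -/
theorem finishW {S ι : Type} [Group S] [Finite S] [Finite ι] (e : N ≃* S)
    (hIH : IHx (Nat.card S)) {p : ℕ} {x : ι → G} {r : ι → ℕ} (hx : PF x r) (hD : ∀ i, x i ∈ D) {i₀ : ι}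
    (hrne : ∀ i, i ≠ i₀ → r i ≠ p) {M : Subgroup G} (hG : Good N M) {y₀ : G} (hy₀ : ∀ i, i ≠ i₀ → x i * y₀ = y₀ * x i)
    (hdead : DeadAt Ω D p M y₀) {y : G} (hy : PPr D p y) (hyy : y * y₀ = y₀ * y)
    (hyM : ∀ m ∈ M, y * m = m * y) (hyx : ∀ i, i ≠ i₀ → y * x i = x i * y)
    (hnx : ∀ i, i ≠ i₀ → x i ∈ Subgroup.normalizer (M : Set G))
    (hcov : ∀ ω : Ω, (∃ j, j ≠ i₀ ∧ x j • ω = ω) ∨ y • ω = ω) : False := by
  obtain ⟨S', _, _, π, hπ, hker, hNSA⟩ := hG.quot
  have hx' : PF (fun j : {j // j ≠ i₀} => x j) (fun j => r j) :=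
    ⟨fun i => hx.prime i, fun i j h => Subtype.ext (hx.inj h), fun i => hx.pow i, fun i => hx.ne i,
      fun i j => hx.comm i j⟩
  have h3 : ∀ ω : Ω, y • ω = ω ∨ M ≤ stabilizer G ω ∨
      ∃ j : {j // j ≠ i₀}, (∀ m ∈ M, x j * m = m * x j) ∧ x j • ω = ω := by
    refine fun ω => mstep hIH e hG.le hG.ne hG.perf π hπ hker hNSA hx' (fun i => hnx i i.2)
      (P := fun ω => y • ω = ω) ?_ ?_ ω
    · intro m hm ω h
      rw [← mul_smul, hyM m hm, mul_smul] at h
      exact MulAction.injective m h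
    · intro ω
      rcases hcov ω with ⟨j, hj, h⟩ | h
      · exact Or.inr ⟨⟨j, hj⟩, h⟩
      · exact Or.inl h
  refine hdead (Option {j : {j // j ≠ i₀} // ∀ m ∈ M, x j * m = m * x j}) (fun o => o.elim y fun j => x j.1) ?_ ?_ ?_
  · rintro (_ | j)
    · exact ⟨hy, hyM, hyy⟩
    · exact ⟨⟨hD _, hx.ne _, r j.1, hx.prime _, hrne _ j.1.2, hx.pow _⟩, j.2, hy₀ _ j.1.2⟩
  · rintro (_ | i) (_ | j)
    · rfl
    · exact hyx j.1 j.1.2
    · exact (hyx i.1 i.1.2).symm
    · exact hx.comm i.1 j.1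
  · intro ω
    rcases h3 ω with h | h | ⟨j, hj, h⟩
    · exact Or.inr ⟨none, h⟩
    · exact Or.inl h
    · exact Or.inr ⟨some ⟨j, hj⟩, h⟩

/-- **One useful member, the element of order `p` centralises `M`.** -/
theorem case_centW {S ι : Type} [Group S] [Finite S] [Finite ι] (e : N ≃* S) (hIH : IHx (Nat.card S))
    {p : ℕ} (hp : p.Prime) (hND : N ≤ D) (hpN : ∀ u ∈ D, u ^ p = 1 → u ∈ N)
    (hB : ∀ s ∈ D, (∃ m : ℕ, m.Coprime p ∧ s ^ m = 1) → pCore p ↥(N ⊓ Subgroup.centralizer {s}) = ⊥)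
    {x : ι → G} {r : ι → ℕ} (hx : PF x r) (hcov : Cov Ω x) (hD : ∀ i, x i ∈ D)
    {i₀ i₁ : ι} (hi₀ : r i₀ = p) (hi₁ : i₁ ≠ i₀) {M : Subgroup G} (hU : UsBy Ω N D p M (x i₁))
    (hu : ∀ m ∈ M, x i₀ * m = m * x i₀) : False := by
  classical
  have hrne : ∀ i, i ≠ i₀ → r i ≠ p := fun i hi h => hi (hx.inj (h.trans hi₀.symm))
  have huN : x i₀ ∈ N := hpN _ (hD i₀) (by rw [← hi₀]; exact hx.pow i₀)
  let J : Set ι := {j | j ≠ i₀}
  obtain ⟨s, hsD, hsm, hsc⟩ := exists_s hx hp J (fun i hi => hrne i hi) D hD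
  set C : Subgroup G := N ⊓ Subgroup.centralizer {s} with hCdef
  have hCx : ∀ c ∈ C, ∀ j ∈ J, c * x j = x j * c := fun c hc =>
    (hsc c).1 (Subgroup.mem_centralizer_singleton_iff.1 hc.2)
  set C' : Subgroup G := cop C (orderOf (x i₁)) with hC'def
  have hC'M : ∀ c ∈ C', c ∈ Subgroup.normalizer (M : Set G) := by
    have h : C' ≤ Subgroup.normalizer (M : Set G) := by
      rw [hC'def, cop, Subgroup.closure_le]
      rintro c ⟨hc, h1⟩
      exact hU.norm c (hND hc.1) (hCx c hc i₁ hi₁) h1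
    exact fun c hc => h hc
  have hC'C : C' ≤ C := cop_le _ _
  have hC'p : pCore p ↥C' = ⊥ := pCore_bot_of_normal hC'C (fun c hc z hz => cop_conj hc hz) (hB s hsD hsm)
  set F : Subgroup G := C' ⊓ Subgroup.centralizer (M : Set G) with hFdef
  have hFM : ∀ c ∈ F, ∀ m ∈ M, c * m = m * c := fun c hc m hm =>
    ((Subgroup.mem_centralizer_iff.1 hc.2) m hm).symm
  have huC : x i₀ ∈ C := by
    refine ⟨huN, ?_⟩
    exact Subgroup.mem_centralizer_singleton_iff.2 ((hsc _).2 fun i _ => hx.comm i₀ i)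
  have huF : x i₀ ∈ F := by
    refine ⟨mem_cop huC ?_, ?_⟩
    · rw [orderOf_eq_prime (hx.pow i₀) (hx.ne i₀) (hp := ⟨hx.prime i₀⟩),
        orderOf_eq_prime (hx.pow i₁) (hx.ne i₁) (hp := ⟨hx.prime i₁⟩), Nat.coprime_primes (hx.prime i₀) (hx.prime i₁)]
      exact fun h => hi₁ (hx.inj h).symm
    · exact Subgroup.mem_centralizer_iff.2 fun m hm => (hu m hm).symm
  obtain ⟨y, hyK, hy1, t, ht, htp, hyt⟩ := exists_y (C := C') (F := F) inf_le_left hC'p (by
    intro c hc z hz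
    exact ⟨C'.mul_mem (C'.mul_mem hc hz.1) (C'.inv_mem hc), Subgroup.mem_centralizer_iff.2 fun m hm =>
      (normalizer_cent (hC'M c hc) (hFM z hz) m hm).symm⟩) huF (hx.ne i₀)
  have hyF : y ∈ F := nclo_le huF hyK
  refine finishW e hIH hx hD hrne hU.good (y₀ := x i₁) (fun i _ => hx.comm i i₁) hU.dead (y := y)
    ⟨hND (hC'C hyF.1).1, hy1, t, ht, htp, hyt⟩ (hCx y (hC'C hyF.1) i₁ hi₁) (hFM y hyF)
    (fun i hi => hCx y (hC'C hyF.1) i hi) (fun i _ => norm_allW hx hD hU i) (fun ω => ?_)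
  refine nclo_fix (F := F) (u := x i₀) (P := fun ω => ∃ j, j ≠ i₀ ∧ x j • ω = ω) ?_ ?_ hyK ω
  · rintro c hc ω ⟨j, hj, h⟩
    refine ⟨j, hj, ?_⟩
    rw [← mul_smul, ← hCx c (hC'C hc.1) j hj, mul_smul] at h
    exact MulAction.injective c h
  · intro ω
    obtain ⟨j, h⟩ := hcov ω
    by_cases hji : j = i₀
    · right; rw [← hji]; exact h
    · exact Or.inl ⟨j, hji, h⟩

/-- **The engine, second form, `P` a predicate of useful elements.** -/
theorem engineP {S ι : Type} [Group S] [Finite S] [Finite ι] (e : N ≃* S)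
    (hIH : IHx (Nat.card S)) {p : ℕ} (hp : p.Prime) (hND : N ≤ D) (hpN : ∀ u ∈ D, u ^ p = 1 → u ∈ N)
    (hB : ∀ s ∈ D, (∃ m : ℕ, m.Coprime p ∧ s ^ m = 1) → pCore p ↥(N ⊓ Subgroup.centralizer {s}) = ⊥)
    (P : G → Prop) (hP : ∀ y, PPr D p y → P y → ∃ M, UsBy Ω N D p M y)
    (hM3 : ∀ (y x : G) (t : ℕ), t.Prime → t ≠ p → y ∈ N → y ≠ 1 → y ^ t = 1 → x ∈ D → x ≠ 1 → x ^ t = 1 → y * x = x * y →
      P y → ¬ P x → ∃ M, UsBy Ω N D p M y ∧ x ∈ Subgroup.normalizer (M : Set G))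
    (hS1 : ∀ (x : ι → G) (r : ι → ℕ), PF x r → (∀ i, x i ∈ D) → (∀ i, r i ≠ p) → (∀ i, ¬ P (x i)) → ¬ Cov Ω x)
    (hS2 : ∀ (x : ι → G) (r : ι → ℕ) (i₀ : ι), PF x r → (∀ i, x i ∈ D) → r i₀ = p → x i₀ ∈ N →
      (∀ i, i ≠ i₀ → ¬ P (x i)) →
      (∀ y ∈ nclo (N ⊓ ⨅ i : {i // i ≠ i₀}, Subgroup.centralizer {x i}) (x i₀), PPr D p y → ¬ P y) →
      ¬ Cov Ω x)
    {x : ι → G} {r : ι → ℕ} (hx : PF x r) (hcov : Cov Ω x) (hD : ∀ i, x i ∈ D) : False := by
  classical
  by_cases hpi : ∃ i, r i = p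
  · obtain ⟨i₀, hi₀⟩ := hpi
    have hrne : ∀ i, i ≠ i₀ → r i ≠ p := fun i hi h => hi (hx.inj (h.trans hi₀.symm))
    have huN : x i₀ ∈ N := hpN _ (hD i₀) (by rw [← hi₀]; exact hx.pow i₀)
    by_cases hU : ∃ i, i ≠ i₀ ∧ P (x i)
    · obtain ⟨i₁, hi₁, hPi⟩ := hU
      obtain ⟨M, hM⟩ := hP (x i₁) ⟨hD i₁, hx.ne i₁, r i₁, hx.prime i₁, hrne i₁ hi₁, hx.pow i₁⟩ hPi
      by_cases hu : ∀ m ∈ M, x i₀ * m = m * x i₀
      · exact case_centW e hIH hp hND hpN hB hx hcov hD hi₀ hi₁ hM hu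
      · exact case_dropW e hIH hx hcov hD hM.good (fun i => hx.comm i i₁) hM.dead (norm_allW hx hD hM)
          fun i hi => hrne i fun h => hu (by rw [← h]; exact hi)
    · push Not at hU
      by_contra _
      refine hS2 x r i₀ hx hD hi₀ huN hU (fun y hyK hyP hyU => ?_) hcov
      set C : Subgroup G := N ⊓ ⨅ i : {i // i ≠ i₀}, Subgroup.centralizer {x i} with hCdef
      have hCx : ∀ c ∈ C, ∀ j, j ≠ i₀ → c * x j = x j * c := fun c hc j hj =>
        Subgroup.mem_centralizer_singleton_iff.1 ((Subgroup.mem_iInf.1 hc.2) ⟨j, hj⟩)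
      have huC : x i₀ ∈ C := ⟨huN, Subgroup.mem_iInf.2 fun j => Subgroup.mem_centralizer_singleton_iff.2 (hx.comm i₀ j)⟩
      have hyC : y ∈ C := nclo_le huC hyK
      obtain ⟨-, hy1, t, ht, htp, hyt⟩ := id hyP
      have h2 : ∀ ω : Ω, (∃ j, j ≠ i₀ ∧ x j • ω = ω) ∨ y • ω = ω := by
        refine fun ω => nclo_fix (F := C) (u := x i₀) (P := fun ω => ∃ j, j ≠ i₀ ∧ x j • ω = ω) ?_ ?_ hyK ω
        · rintro c hc ω ⟨j, hj, h⟩
          refine ⟨j, hj, ?_⟩
          rw [← mul_smul, ← hCx c hc j hj, mul_smul] at h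
          exact MulAction.injective c h
        · intro ω
          obtain ⟨j, h⟩ := hcov ω
          by_cases hji : j = i₀
          · right; rw [← hji]; exact h
          · exact Or.inl ⟨j, hji, h⟩
      by_cases hti : ∃ i₁, i₁ ≠ i₀ ∧ r i₁ = t
      · obtain ⟨i₁, hi₁, hrt⟩ := hti
        obtain ⟨M, hM, hx1⟩ := hM3 y (x i₁) t ht htp hyC.1 hy1 hyt (hD i₁) (hx.ne i₁) (by rw [← hrt]; exact hx.pow i₁)
          (hCx y hyC i₁ hi₁) hyU (hU i₁ hi₁)
        refine finishW e hIH hx hD hrne hM.good (fun i hi => (hCx y hyC i hi).symm) hM.dead hyP rfl hM.cent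
          (fun i hi => hCx y hyC i hi) (fun i hi => ?_) h2
        by_cases h : i = i₁
        · rw [h]; exact hx1
        · refine hM.norm _ (hD i) (hCx y hyC i hi).symm ?_
          rw [orderOf_eq_prime (hx.pow i) (hx.ne i) (hp := ⟨hx.prime i⟩), orderOf_eq_prime hyt hy1 (hp := ⟨ht⟩),
            Nat.coprime_primes (hx.prime i) ht, ← hrt]
          exact fun h' => h (hx.inj h')
      · push Not at hti
        obtain ⟨M, hM⟩ := hP y hyP hyU
        refine finishW e hIH hx hD hrne hM.good (fun i hi => (hCx y hyC i hi).symm) hM.dead hyP rfl hM.cent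
          (fun i hi => hCx y hyC i hi) (fun i hi => ?_) h2
        refine hM.norm _ (hD i) (hCx y hyC i hi).symm ?_
        rw [orderOf_eq_prime (hx.pow i) (hx.ne i) (hp := ⟨hx.prime i⟩), orderOf_eq_prime hyt hy1 (hp := ⟨ht⟩),
          Nat.coprime_primes (hx.prime i) ht]
        exact hti i hi
  · push Not at hpi
    by_cases hU : ∃ i, P (x i)
    · obtain ⟨i₁, hPi⟩ := hU
      obtain ⟨M, hM⟩ := hP (x i₁) ⟨hD i₁, hx.ne i₁, r i₁, hx.prime i₁, hpi i₁, hx.pow i₁⟩ hPi
      exact case_dropW e hIH hx hcov hD hM.good (fun i => hx.comm i i₁) hM.dead (norm_allW hx hD hM) fun i _ => hpi i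
    · push Not at hU
      exact hS1 x r hx hD hpi hU hcov

/-- a mixed cover without useful members: exchange of the element of order `p` -/
theorem exchange {ι : Type} [Finite ι] {p : ℕ} (hp : p.Prime) (hND : N ≤ D)
    (hB : ∀ s ∈ D, (∃ m : ℕ, m.Coprime p ∧ s ^ m = 1) → pCore p ↥(N ⊓ Subgroup.centralizer {s}) = ⊥)
    (P : G → Prop) {x : ι → G} {r : ι → ℕ} {i₀ : ι} (hx : PF x r) (hD : ∀ i, x i ∈ D) (hi₀ : r i₀ = p) (huN : x i₀ ∈ N)
    (hU : ∀ i, i ≠ i₀ → ¬ P (x i))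
    (hyU : ∀ y ∈ nclo (N ⊓ ⨅ i : {i // i ≠ i₀}, Subgroup.centralizer {x i}) (x i₀), PPr D p y → ¬ P y)
    (hcov : Cov Ω x) : ∃ (z : ι → G) (r' : ι → ℕ), (∀ i, z i ∈ D ∧ ¬ P (z i)) ∧ NearPF p z r' ∧
      (∀ i, i ≠ i₀ → z i = x i ∧ r' i = r i) ∧ Cov Ω z := by
  classical
  have hrne : ∀ i, i ≠ i₀ → r i ≠ p := fun i hi h => hi (hx.inj (h.trans hi₀.symm))
  obtain ⟨s, hsD, hsm, hsc⟩ := exists_s hx hp {i | i ≠ i₀} (fun i hi => hrne i hi) D hD
  set C : Subgroup G := N ⊓ ⨅ i : {i // i ≠ i₀}, Subgroup.centralizer {x i} with hCdef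
  have hCs : C = N ⊓ Subgroup.centralizer {s} := by
    ext c
    rw [hCdef, Subgroup.mem_inf, Subgroup.mem_inf, Subgroup.mem_iInf, Subgroup.mem_centralizer_singleton_iff, hsc]
    refine and_congr Iff.rfl ⟨fun h i hi => Subgroup.mem_centralizer_singleton_iff.1 (h ⟨i, hi⟩),
      fun h i => Subgroup.mem_centralizer_singleton_iff.2 (h i i.2)⟩
  have hCx : ∀ c ∈ C, ∀ j, j ≠ i₀ → c * x j = x j * c := fun c hc j hj =>
    Subgroup.mem_centralizer_singleton_iff.1 ((Subgroup.mem_iInf.1 hc.2) ⟨j, hj⟩)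
  have huC : x i₀ ∈ C := ⟨huN, Subgroup.mem_iInf.2 fun j => Subgroup.mem_centralizer_singleton_iff.2 (hx.comm i₀ j)⟩
  obtain ⟨y, hyK, hy1, t, ht, htp, hyt⟩ := exists_y (C := C) (F := C) le_rfl (by rw [hCs]; exact hB s hsD hsm)
    (fun c hc z hz => C.mul_mem (C.mul_mem hc hz) (C.inv_mem hc)) huC (hx.ne i₀)
  have hyC : y ∈ C := nclo_le huC hyK
  have hyP : PPr D p y := ⟨hND hyC.1, hy1, t, ht, htp, hyt⟩
  refine ⟨Function.update x i₀ y, Function.update r i₀ t, fun i => ?_,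
    ⟨fun i => ?_, fun i => ?_, fun i => ?_, fun i => ?_, fun i j => ?_, some i₀, fun i j hi hj hij => ?_⟩,
    fun i hi => ⟨Function.update_of_ne hi _ _, Function.update_of_ne hi _ _⟩, fun ω => ?_⟩
  · by_cases hi : i = i₀
    · subst hi
      rw [Function.update_self]
      exact ⟨hND hyC.1, hyU y hyK hyP⟩
    · rw [Function.update_of_ne hi]
      exact ⟨hD i, hU i hi⟩
  · by_cases hi : i = i₀
    · subst hi
      rw [Function.update_self]
      exact ht
    · rw [Function.update_of_ne hi]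
      exact hx.prime i
  · by_cases hi : i = i₀
    · subst hi
      rw [Function.update_self]
      exact htp
    · rw [Function.update_of_ne hi]
      exact hrne i hi
  · by_cases hi : i = i₀
    · subst hi
      rw [Function.update_self]
      exact hy1
    · rw [Function.update_of_ne hi]
      exact hx.ne i
  · by_cases hi : i = i₀
    · subst hi
      rw [Function.update_self, Function.update_self]
      exact hyt
    · rw [Function.update_of_ne hi, Function.update_of_ne hi]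
      exact hx.pow i
  · by_cases hi : i = i₀ <;> by_cases hj : j = i₀
    · rw [hi, hj]
    · rw [hi, Function.update_self, Function.update_of_ne hj]
      exact hCx y hyC j hj
    · rw [hj, Function.update_self, Function.update_of_ne hi]
      exact (hCx y hyC i hi).symm
    · rw [Function.update_of_ne hi, Function.update_of_ne hj]
      exact hx.comm i j
  · have hi' : i ≠ i₀ := fun h => hi (by rw [h])
    have hj' : j ≠ i₀ := fun h => hj (by rw [h])
    rw [Function.update_of_ne hi', Function.update_of_ne hj'] at hij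
    exact hx.inj hij
  · have h2 : (∃ j, j ≠ i₀ ∧ x j • ω = ω) ∨ y • ω = ω := by
      refine nclo_fix (F := C) (u := x i₀) (P := fun ω => ∃ j, j ≠ i₀ ∧ x j • ω = ω) ?_ ?_ hyK ω
      · rintro c hc ω ⟨j, hj, h⟩
        refine ⟨j, hj, ?_⟩
        rw [← mul_smul, ← hCx c hc j hj, mul_smul] at h
        exact MulAction.injective c h
      · intro ω
        obtain ⟨j, h⟩ := hcov ω
        by_cases hji : j = i₀
        · right; rw [← hji]; exact h
        · exact Or.inl ⟨j, hji, h⟩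
    rcases h2 with ⟨j, hj, h⟩ | h
    · exact ⟨j, by rwa [Function.update_of_ne hj]⟩
    · exact ⟨i₀, by rwa [Function.update_self]⟩

/-- **The engine with one input for the families without useful members.** -/
theorem engineP1 {S ι : Type} [Group S] [Finite S] [Finite ι] (e : N ≃* S)
    (hIH : IHx (Nat.card S)) {p : ℕ} (hp : p.Prime) (hND : N ≤ D) (hpN : ∀ u ∈ D, u ^ p = 1 → u ∈ N)
    (hB : ∀ s ∈ D, (∃ m : ℕ, m.Coprime p ∧ s ^ m = 1) → pCore p ↥(N ⊓ Subgroup.centralizer {s}) = ⊥)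
    (P : G → Prop) (hP : ∀ y, PPr D p y → P y → ∃ M, UsBy Ω N D p M y)
    (hM3 : ∀ (y x : G) (t : ℕ), t.Prime → t ≠ p → y ∈ N → y ≠ 1 → y ^ t = 1 → x ∈ D → x ≠ 1 → x ^ t = 1 → y * x = x * y →
      P y → ¬ P x → ∃ M, UsBy Ω N D p M y ∧ x ∈ Subgroup.normalizer (M : Set G))
    (hS : ∀ (z : ι → G) (r : ι → ℕ), (∀ i, z i ∈ D ∧ ¬ P (z i)) → NearPF p z r → ¬ Cov Ω z)
    {x : ι → G} {r : ι → ℕ} (hx : PF x r) (hcov : Cov Ω x) (hD : ∀ i, x i ∈ D) : False := by
  refine engineP e hIH hp hND hpN hB P hP hM3 ?_ ?_ hx hcov hD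
  · intro x r hx hD hrp hU
    exact hS x r (fun i => ⟨hD i, hU i⟩) ⟨hx.prime, hrp, hx.ne, hx.pow, hx.comm, none, fun i j _ _ h => hx.inj h⟩
  · intro x r i₀ hx hD hi₀ huN hU hyU hcov
    obtain ⟨z, r', h1, h2, -, h3⟩ := exchange hp hND hB P hx hD hi₀ huN hU hyU hcov
    exact hS z r' h1 h2 h3

end abs

/-! ### the data in `Y` -/

section Y

variable {G Ω : Type} [Group G] [Finite G] [MulAction G Ω] {N : Subgroup G} {Y K₀ : Type} [Group Y] [Group K₀]
  {ι : K₀ →* Y} {σ : MulAut Y} (hF : Fr ι σ) {p : ℕ} {V : Y → Prop} {U : Y → Subgroup Y}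
  (hE : Env G Ω N) (e : N ≃* K₀)

/-- `M` is dead for every `G`, `Ω` -/
def DeadY (ι : K₀ →* Y) (p : ℕ) (M : Subgroup Y) : Prop :=
  ∀ (G Ω : Type) [Group G] [Finite G] [MulAction G Ω] [Nonempty Ω] (N : Subgroup G) (hE : Env G Ω N) (e : N ≃* K₀),
    Dead Ω (DG hE e ι) p (lf e ι M)

/-- `M` is dead at `y` for every `G`, `Ω` -/
def DeadYAt (ι : K₀ →* Y) (p : ℕ) (M : Subgroup Y) (y : Y) : Prop :=
  ∀ (G Ω : Type) [Group G] [Finite G] [MulAction G Ω] [Nonempty Ω] (N : Subgroup G) (hE : Env G Ω N) (e : N ≃* K₀) (g : G),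
    Rep hE e ι g y → DeadAt Ω (DG hE e ι) p (lf e ι M) g

theorem DeadY.at {M : Subgroup Y} (h : DeadY ι p M) (y : Y) : DeadYAt ι p M y :=
  fun G Ω _ _ _ _ N hE e g _ => dead_at (h G Ω N hE e) g

/-- `y` is useful by means of `M`, in `Y` (`I = Y^σ`) -/
structure UsY (ι : K₀ →* Y) (I : Subgroup Y) (p : ℕ) (M : Subgroup Y) (y : Y) : Prop where
  le : M ≤ ι.range
  ne : M ≠ ι.range
  perf : ⁅M, M⁆ = M
  quot : ∃ (S' : Type) (_ : Group S') (_ : Finite S') (π : M →* S'),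
    Function.Surjective π ∧ π.ker ≤ Subgroup.center M ∧ NSA S'
  dead : DeadYAt ι p M y
  cent : ∀ m ∈ M, y * m = m * y
  norm : ∀ c ∈ I, c * y = y * c → (orderOf c).Coprime (orderOf y) → c ∈ Subgroup.normalizer (M : Set Y)

include hF in
theorem Rep.orderOf {g : G} {y : Y} (h : Rep hE e ι g y) : orderOf g = orderOf y := by
  apply Nat.dvd_antisymm
  · exact orderOf_dvd_of_pow_eq_one ((Rep.pow_eq_one hF h _).2 (pow_orderOf_eq_one y))
  · exact orderOf_dvd_of_pow_eq_one ((Rep.pow_eq_one hF h _).1 (pow_orderOf_eq_one g))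

include hF in
/-- transport of normalisers -/
theorem Rep.normalizer {M : Subgroup Y} (hM : M ≤ ι.range) {c : G} {z : Y} (hz : Rep hE e ι c z)
    (h1 : z ∈ Subgroup.normalizer (M : Set Y)) : c ∈ Subgroup.normalizer (lf e ι M : Set G) := by
  rw [mem_normalizer_iff] at h1 ⊢
  intro m
  constructor
  · intro hm
    have hr : Rep hE e ι m (ι (e ⟨m, lf_le _ hm⟩)) := rep_coe _
    have h2 := (Rep.mem_lf hF hM hr).1 hm
    exact (Rep.mem_lf hF hM ((hz.mul hr).mul hz.inv)).2 ((h1 _).1 h2)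
  · intro hm
    have hr : Rep hE e ι (c * m * c⁻¹) (ι (e ⟨_, lf_le _ hm⟩)) := rep_coe _
    have h2 := (Rep.mem_lf hF hM hr).1 hm
    have h3 : m = c⁻¹ * (c * m * c⁻¹) * c⁻¹⁻¹ := by group
    have h4 := (hz.inv.mul hr).mul hz.inv.inv
    rw [← h3] at h4
    refine (Rep.mem_lf hF hM h4).2 ((h1 _).2 ?_)
    have h5 : z * (z⁻¹ * ι (e ⟨_, lf_le _ hm⟩) * z⁻¹⁻¹) * z⁻¹ = ι (e ⟨_, lf_le _ hm⟩) := by group
    rwa [h5]

include hF in
/-- transport of `PPr` -/
theorem Rep.ppr {g : G} {y : Y} (h : Rep hE e ι g y) : PPr (DG hE e ι) p g ↔ PPr (fixedSubgroup σ) p y := by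
  constructor
  · rintro ⟨-, h1, r, h2, h3, h4⟩
    exact ⟨Rep.fix hF h, fun h5 => h1 ((Rep.eq_one hF h).2 h5), r, h2, h3, (Rep.pow_eq_one hF h r).1 h4⟩
  · rintro ⟨-, h1, r, h2, h3, h4⟩
    exact ⟨⟨y, h⟩, fun h5 => h1 ((Rep.eq_one hF h).1 h5), r, h2, h3, (Rep.pow_eq_one hF h r).2 h4⟩

include hF in
/-- **Transport of useful elements.** -/
theorem usBy [Nonempty Ω] {g : G} {y : Y} (hy : Rep hE e ι g y) {M : Subgroup Y}
    (h : UsY ι (fixedSubgroup σ) p M y) : UsBy Ω N (DG hE e ι) p (lf e ι M) g := by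
  obtain ⟨hMN, hMne, hperf, ⟨S', i1, i2, π, hπ, hker, hNSA⟩, hdead, hcen, hnorm⟩ := h
  refine ⟨⟨lf_le M, ?_, ?_, ⟨S', i1, i2, π.comp (lfEquiv e hF.inj hMN).toMonoidHom, ?_, ?_, hNSA⟩⟩,
    hdead G Ω N hE e g hy, ?_, ?_⟩
  · intro hN
    apply hMne
    refine le_antisymm hMN ?_
    rintro _ ⟨a, rfl⟩
    have h1 : (e.symm a : G) ∈ lf e ι M := by rw [hN]; exact (e.symm a).2
    exact (Rep.mem_lf hF hMN (rep_symm (hE := hE) a)).1 h1
  · exact perfect_equiv (lfEquiv e hF.inj hMN) hperf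
  · exact hπ.comp (lfEquiv e hF.inj hMN).surjective
  · intro m hm
    have h1 : lfEquiv e hF.inj hMN m ∈ π.ker := hm
    have h2 := hker h1
    rw [mem_center_iff] at h2 ⊢
    intro m'
    apply (lfEquiv e hF.inj hMN).injective
    rw [map_mul, map_mul]
    exact h2 _
  · intro m hm
    have hr : Rep hE e ι m (ι (e ⟨m, lf_le _ hm⟩)) := rep_coe _
    exact (Rep.comm hF hy hr).2 (hcen _ ((Rep.mem_lf hF hMN hr).1 hm))
  · rintro c ⟨z, hz⟩ hcg hcop
    have hz' : Rep hE e ι c z := hz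
    refine Rep.normalizer hF hE e hMN hz' (hnorm z (Rep.fix hF hz') ((Rep.comm hF hz' hy).1 hcg) ?_)
    rwa [Rep.orderOf hF hE e hz', Rep.orderOf hF hE e hy] at hcop

include hF in
/-- a quasisimple group with a long root element is dead -/
theorem deadY_lr (h : LRData (fixedSubgroup σ) p V U) (hv1 : ∀ v, V v → v ∈ ι.range) (hv2 : ∀ v, V v → U v ≤ ι.range)
    (hc : ∀ s ∈ fixedSubgroup σ, (∃ m : ℕ, m.Coprime p ∧ s ^ m = 1) → pCore p ↥(ι.range ⊓ centralizer {s}) = ⊥)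
    (hpm : ∀ y ∈ fixedSubgroup σ, y ^ p = 1 → y ∈ ι.range) {M : Subgroup Y} {v : Y} (hvM : v ∈ M) (hv : V v) :
    DeadY ι p M := by
  intro G Ω _ _ _ _ N hE e
  obtain ⟨a, ha⟩ := hv1 v hv
  refine dead_lr hE (lrData hF hE e ⟨h, hv1, hv2, hpm, hc⟩) (v := (e.symm a : G)) (mem_lf.2 ⟨a, ?_, rfl⟩) ⟨a, rfl, ?_⟩
  · rw [ha]; exact hvM
  · rw [ha]; exact hv

include hF in
theorem YData.dead (h : YData ι (fixedSubgroup σ) p V U) {M : Subgroup Y} {v : Y} (hvM : v ∈ M) (hv : V v) :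
    DeadY ι p M := deadY_lr hF h.lr h.vmem h.ule h.core h.pmem hvM hv

include hF in
/-- transport of `[U, y]` -/
theorem cmm_rep {U : Subgroup Y} {g : G} {y : Y} (hr : Rep hE e ι g y) (hU : U ≤ ι.range) {z : Y} (hz : z ∈ cmm U y) :
    ∃ c ∈ cmm (lf e ι U) g, Rep hE e ι c z := by
  induction hz using Subgroup.closure_induction with
  | mem z hz =>
    obtain ⟨u, hu, rfl⟩ := hz
    obtain ⟨b, rfl⟩ := hU hu
    have hb : Rep hE e ι (e.symm b : G) (ι b) := rep_symm b
    exact ⟨_, mem_cmm (mem_lf.2 ⟨b, hu, rfl⟩), ((hb.mul hr).mul hb.inv).mul hr.inv⟩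
  | one => exact ⟨1, one_mem _, Rep.one⟩
  | mul z z' _ _ ih ih' =>
    obtain ⟨c, hc, h3⟩ := ih
    obtain ⟨c', hc', h4⟩ := ih'
    exact ⟨c * c', mul_mem hc hc', h3.mul h4⟩
  | inv z _ ih =>
    obtain ⟨c, hc, h3⟩ := ih
    exact ⟨c⁻¹, inv_mem hc, h3.inv⟩

include hF in
theorem rep_zpowersW {M : Subgroup Y} {g : G} {y : Y} (hr : Rep hE e ι g y) {t : ℕ} (ht : 0 < t) (hyt : y ^ t = 1)
    (hc : ∀ z, PPr (fixedSubgroup σ) p z → (∀ m ∈ M, z * m = m * z) → z * y = y * z → z ∈ Subgroup.zpowers y)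
    (hM : M ≤ ι.range) :
    ∀ z, PPr (DG hE e ι) p z → (∀ m ∈ lf e ι M, z * m = m * z) → z * g = g * z → z ∈ Subgroup.zpowers g := by
  intro z hzP hz hzg
  obtain ⟨w, hw⟩ := hzP.1
  have hw' : Rep hE e ι z w := hw
  have h1 := hc w ((Rep.ppr hF hE e hw').1 hzP) (fun m hm => by
    obtain ⟨b, rfl⟩ := hM hm
    exact (Rep.comm hF hw' (rep_symm (hE := hE) b)).1 (hz _ (mem_lf.2 ⟨b, hm, rfl⟩))) ((Rep.comm hF hw' hr).1 hzg)
  have h2 : IsOfFinOrder y := isOfFinOrder_iff_pow_eq_one.2 ⟨t, ht, hyt⟩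
  obtain ⟨n, hn⟩ := (h2.mem_powers_iff_mem_zpowers.2 h1)
  have h4 : z = g ^ n := by
    apply Rep.inj hF hw'
    have h3 := hr.pow n
    have hn' : y ^ n = w := hn
    rwa [hn'] at h3
  rw [h4]
  exact Subgroup.npow_mem_zpowers _ n

include hF in
/-- `C_I(M) ∩ C_I(y) ≤ ⟨y⟩` (elements of prime order) and the rule for one element -/
theorem deadYAt_one {M : Subgroup Y} (hM : M ≤ ι.range) {y : Y} {t : ℕ} (ht : t.Prime)
    (hyt : y ^ t = 1) (hy1 : y ≠ 1)
    (hc : ∀ z, PPr (fixedSubgroup σ) p z → (∀ m ∈ M, z * m = m * z) → z * y = y * z → z ∈ Subgroup.zpowers y)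
    {v : Y} (hvM : v ∈ M) (hv : v ≠ 1) {U : Subgroup Y} (hUι : U ≤ ι.range) (hU : ∀ u ∈ U, u * v = v * u)
    (hvU : v ∈ cmm U y) : DeadYAt ι p M y := by
  intro G Ω _ _ _ _ N hE e g hr
  obtain ⟨b, rfl⟩ := hM hvM
  have hrv : Rep hE e ι (e.symm b : G) (ι b) := rep_symm b
  refine deadAt_one hE ht ((Rep.pow_eq_one hF hr t).2 hyt) (fun h => hy1 ((Rep.eq_one hF hr).1 h))
    (rep_zpowersW hF hE e hr ht.pos hyt hc hM) (mem_lf.2 ⟨b, hvM, rfl⟩)
    (fun h => hv ((Rep.eq_one hF hrv).1 h)) (U := lf e ι U) ?_ ?_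
  · intro u hu
    have hru : Rep hE e ι u (ι (e ⟨u, lf_le _ hu⟩)) := rep_coe _
    exact (Rep.comm hF hru hrv).2 (hU _ ((Rep.mem_lf hF hUι hru).1 hu))
  · obtain ⟨c, hc1, hc2⟩ := cmm_rep hF hE e hr hUι hvU
    rwa [Rep.inj hF hrv hc2]

include hF in
/-- transport of normal closures -/
theorem nclo_rep {κ : Type} {x : κ → G} {x' : κ → Y} (hx : ∀ i, Rep hE e ι (x i) (x' i)) {i₀ : κ} {w : Y}
    (hw : w ∈ nclo (ι.range ⊓ ⨅ i : {i // i ≠ i₀}, centralizer {x' i}) (x' i₀)) :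
    ∃ g ∈ nclo (N ⊓ ⨅ i : {i // i ≠ i₀}, centralizer {x i}) (x i₀), Rep hE e ι g w := by
  unfold nclo at hw
  induction hw using Subgroup.closure_induction with
  | mem z hz =>
    obtain ⟨c, ⟨⟨a, rfl⟩, hc⟩, rfl⟩ := hz
    have hr : Rep hE e ι (e.symm a : G) (ι a) := rep_symm a
    refine ⟨(e.symm a : G) * x i₀ * (e.symm a : G)⁻¹, subset_closure ⟨_, ⟨(e.symm a).2, ?_⟩, rfl⟩, (hr.mul (hx i₀)).mul hr.inv⟩
    have hc' : ι a ∈ ⨅ i : {i // i ≠ i₀}, centralizer {x' i} := hc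
    exact mem_iInf.2 fun i => mem_centralizer_singleton_iff.2
      ((Rep.comm hF hr (hx i)).2 (mem_centralizer_singleton_iff.1 (mem_iInf.1 hc' i)))
  | one => exact ⟨1, one_mem _, Rep.one⟩
  | mul z z' _ _ ih ih' =>
    obtain ⟨c, hc, h3⟩ := ih
    obtain ⟨c', hc', h4⟩ := ih'
    exact ⟨c * c', mul_mem hc hc', h3.mul h4⟩
  | inv z _ ih =>
    obtain ⟨c, hc, h3⟩ := ih
    exact ⟨c⁻¹, inv_mem hc, h3.inv⟩

include hF in
theorem pf_rep {κ : Type} {x : κ → G} {x' : κ → Y} {r : κ → ℕ} (hx : ∀ i, Rep hE e ι (x i) (x' i)) (h : PF x r) :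
    PF x' r :=
  ⟨h.prime, h.inj, fun i => (Rep.pow_eq_one hF (hx i) _).1 (h.pow i), fun i h2 => h.ne i ((Rep.eq_one hF (hx i)).2 h2),
    fun i j => (Rep.comm hF (hx i) (hx j)).1 (h.comm i j)⟩

include hF in
theorem nearPF_rep {κ : Type} {x : κ → G} {x' : κ → Y} {r : κ → ℕ} (hx : ∀ i, Rep hE e ι (x i) (x' i))
    (h : NearPF p x r) : NearPF p x' r :=
  ⟨h.prime, h.nep, fun i h2 => h.ne i ((Rep.eq_one hF (hx i)).2 h2),
    fun i => (Rep.pow_eq_one hF (hx i) _).1 (h.pow i),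
    fun i j => (Rep.comm hF (hx i) (hx j)).1 (h.comm i j), h.inj⟩

include hF in
/-- **The engine with data in `Y`**, one input for the families without useful members -/
theorem engineYP1 [Finite K₀] [Nonempty Ω] (hp : p.Prime)
    (hpm : ∀ y ∈ fixedSubgroup σ, y ^ p = 1 → y ∈ ι.range)
    (hcore : ∀ s ∈ fixedSubgroup σ, (∃ m : ℕ, m.Coprime p ∧ s ^ m = 1) → pCore p ↥(ι.range ⊓ centralizer {s}) = ⊥)
    (hIH : IHx (Nat.card K₀)) (P : Y → Prop)
    (hP : ∀ y, PPr (fixedSubgroup σ) p y → P y → ∃ M, UsY ι (fixedSubgroup σ) p M y)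
    (hM3 : ∀ (y x : Y) (t : ℕ), t.Prime → t ≠ p → y ∈ ι.range → y ≠ 1 → y ^ t = 1 → x ∈ fixedSubgroup σ → x ≠ 1 →
      x ^ t = 1 → y * x = x * y → P y → ¬ P x →
      ∃ M, UsY ι (fixedSubgroup σ) p M y ∧ x ∈ Subgroup.normalizer (M : Set Y))
    {κ : Type} [Finite κ]
    (hS : ∀ (z : κ → G) (y : κ → Y) (r : κ → ℕ), (∀ i, Rep hE e ι (z i) (y i)) → (∀ i, y i ∈ fixedSubgroup σ) →
      NearPF p y r → (∀ i, ¬ P (y i)) → ¬ Cov Ω z)
    {x : κ → G} {r : κ → ℕ}
    (hx : PF x r) (hcov : Cov Ω x) (hD : ∀ i, act hE e (x i) ∈ InD ι) : False := by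
  classical
  refine engineP1 (Ω := Ω) (D := DG hE e ι) e hIH hp (le_DG hF) ?_ ?_ (fun g => ∃ y, Rep hE e ι g y ∧ P y)
    ?_ ?_ ?_ hx hcov hD
  · rintro u ⟨y, hy⟩ hu
    have hy' : Rep hE e ι u y := hy
    exact (Rep.mem_N hF hy').2 (hpm y (Rep.fix hF hy') ((Rep.pow_eq_one hF hy' p).1 hu))
  · rintro s ⟨y, hy⟩ ⟨m, hm, hsm⟩
    have hy' : Rep hE e ι s y := hy
    exact core hF hy' (hcore y (Rep.fix hF hy') ⟨m, hm, (Rep.pow_eq_one hF hy' m).1 hsm⟩)
  · rintro g hg ⟨y, hy, hPy⟩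
    obtain ⟨M, hM⟩ := hP y ((Rep.ppr hF hE e hy).1 hg) hPy
    exact ⟨_, usBy hF hE e hy hM⟩
  · rintro g x t ht htp hgN hg hgt ⟨x', hx'⟩ hx1 hxt hxg ⟨y, hy, hPy⟩ hPx
    have hx'' : Rep hE e ι x x' := hx'
    obtain ⟨M, hM, hn⟩ := hM3 y x' t ht htp ((Rep.mem_N hF hy).1 hgN) (fun h1 => hg ((Rep.eq_one hF hy).2 h1))
      ((Rep.pow_eq_one hF hy t).1 hgt) (Rep.fix hF hx'') (fun h1 => hx1 ((Rep.eq_one hF hx'').2 h1))
      ((Rep.pow_eq_one hF hx'' t).1 hxt) ((Rep.comm hF hy hx'').1 hxg) hPy (fun h1 => hPx ⟨x', hx'', h1⟩)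
    exact ⟨_, usBy hF hE e hy hM, Rep.normalizer hF hE e hM.le hx'' hn⟩
  · intro z r' hz hpf
    have h1 : ∀ i, ∃ y, Rep hE e ι (z i) y := fun i => (hz i).1
    choose y hy using h1
    exact hS z y r' hy (fun i => Rep.fix hF (hy i)) (nearPF_rep hF hE e hy hpf) (fun i h2 => (hz i).2 ⟨y i, hy i, h2⟩)

include hF in
/-- **The character bound in `Y`.** -/
theorem not_cov_sum [Finite ↥(fixedSubgroup σ)] [Finite Ω] [Nonempty Ω] {d : ℕ} (hd0 : 0 < d)
    (hd : H514.DP.MinDeg K₀ d) {κ : Type} [Fintype κ] {z : κ → G} {y : κ → Y} {c : κ → ℕ}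
    (hy : ∀ i, Rep hE e ι (z i) (y i)) (hc : ∀ i, Nat.card ↥(fixedSubgroup σ ⊓ centralizer {y i}) ≤ c i)
    (hnum : ∑ i, (1 / ((d : ℝ) + 1) + √(c i : ℝ) / d) < 1) : ¬ Cov Ω z :=
  H368.RC.not_cov_env hE (H := DG hE e ι) (le_DG hF) hd0 (H368.RC.minDeg_surj hd e.symm.toMonoidHom e.symm.surjective)
    (fun i => ⟨y i, hy i⟩) (c := c) (fun i => (card_le hF (hy i)).trans (hc i)) hnum

/-- the bound for the fixed point ratio -/
noncomputable def fb (d b : ℕ) : ℝ := 1 / ((d : ℝ) + 1) + √(b : ℝ) / d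

theorem fb_nonneg (d b : ℕ) : 0 ≤ fb d b := by
  unfold fb
  positivity

include hF in
/-- **The numbers**: the bound `B r` for the centralizers depends on the prime `r`; one member is counted twice -/
theorem not_cov_near [Finite ↥(fixedSubgroup σ)] [Finite Ω] [Nonempty Ω] {d Bm : ℕ} (hd0 : 0 < d)
    (hd : H514.DP.MinDeg K₀ d) (P : Y → Prop) (B : ℕ → ℕ) (Q : Finset ℕ)
    (hB : ∀ r : ℕ, r.Prime → r ≠ p → ∀ y ∈ fixedSubgroup σ, y ≠ 1 → y ^ r = 1 → ¬ P y →
      r ∈ Q ∧ Nat.card ↥(fixedSubgroup σ ⊓ centralizer {y}) ≤ B r)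
    (hBm : ∀ r ∈ Q, B r ≤ Bm) (hnum : ∑ r ∈ Q, fb d (B r) + fb d Bm < 1)
    {κ : Type} [Finite κ] {z : κ → G} {y : κ → Y} {r : κ → ℕ} (hy : ∀ i, Rep hE e ι (z i) (y i))
    (hyI : ∀ i, y i ∈ fixedSubgroup σ) (hpf : NearPF p y r) (hP : ∀ i, ¬ P (y i)) : ¬ Cov Ω z := by
  classical
  have := Fintype.ofFinite κ
  have key : ∀ i, r i ∈ Q ∧ Nat.card ↥(fixedSubgroup σ ⊓ centralizer {y i}) ≤ B (r i) := fun i =>
    hB (r i) (hpf.prime i) (hpf.nep i) (y i) (hyI i) (hpf.ne i) (hpf.pow i) (hP i)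
  obtain ⟨o, ho⟩ := hpf.inj
  refine not_cov_sum hF hE e hd0 hd hy (c := fun i => B (r i)) (fun i => (key i).2) ?_
  have h1 : ∀ i, (1 / ((d : ℝ) + 1) + √((B (r i) : ℕ) : ℝ) / d) = fb d (B (r i)) := fun i => rfl
  simp only [h1]
  have hsub : ∀ s : Finset κ, (∀ i ∈ s, some i ≠ o) → ∑ i ∈ s, fb d (B (r i)) ≤ ∑ q ∈ Q, fb d (B q) := by
    intro s hs
    calc ∑ i ∈ s, fb d (B (r i)) = ∑ q ∈ s.image r, fb d (B q) := by
          rw [Finset.sum_image fun a ha b hb hab => ho a b (hs a ha) (hs b hb) hab]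
      _ ≤ ∑ q ∈ Q, fb d (B q) := by
          refine Finset.sum_le_sum_of_subset_of_nonneg ?_ fun _ _ _ => fb_nonneg _ _
          intro q hq
          obtain ⟨i, hi, rfl⟩ := Finset.mem_image.1 hq
          exact (key i).1
  rcases o with _ | i₀
  · have h2 := hsub Finset.univ (fun i _ => Option.some_ne_none i)
    have h3 := fb_nonneg d Bm
    linarith
  · rw [← Finset.add_sum_erase Finset.univ _ (Finset.mem_univ i₀)]
    have h2 := hsub (Finset.univ.erase i₀) (fun i hi h => Finset.ne_of_mem_erase hi (Option.some_injective _ h))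
    have h3 : fb d (B (r i₀)) ≤ fb d Bm := by
      unfold fb
      have h4 : √(B (r i₀) : ℝ) ≤ √(Bm : ℝ) := Real.sqrt_le_sqrt (by exact_mod_cast hBm _ (key i₀).1)
      have h5 : √(B (r i₀) : ℝ) / d ≤ √(Bm : ℝ) / d := div_le_div_of_nonneg_right h4 (Nat.cast_nonneg d)
      linarith
    linarith

include hF in
/-- **The engine with data in `Y` and numbers depending on the prime.** -/
theorem engineYPN [Finite ↥(fixedSubgroup σ)] [Finite K₀] [Finite Ω] [Nonempty Ω] (hp : p.Prime)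
    (hpm : ∀ y ∈ fixedSubgroup σ, y ^ p = 1 → y ∈ ι.range)
    (hcore : ∀ s ∈ fixedSubgroup σ, (∃ m : ℕ, m.Coprime p ∧ s ^ m = 1) → pCore p ↥(ι.range ⊓ centralizer {s}) = ⊥)
    (hIH : IHx (Nat.card K₀)) {d Bm : ℕ} (hd0 : 0 < d) (hd : H514.DP.MinDeg K₀ d) (P : Y → Prop)
    (hP : ∀ y, PPr (fixedSubgroup σ) p y → P y → ∃ M, UsY ι (fixedSubgroup σ) p M y)
    (hM3 : ∀ (y x : Y) (t : ℕ), t.Prime → t ≠ p → y ∈ ι.range → y ≠ 1 → y ^ t = 1 → x ∈ fixedSubgroup σ → x ≠ 1 →
      x ^ t = 1 → y * x = x * y → P y → ¬ P x →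
      ∃ M, UsY ι (fixedSubgroup σ) p M y ∧ x ∈ Subgroup.normalizer (M : Set Y))
    (B : ℕ → ℕ) (Q : Finset ℕ)
    (hB : ∀ r : ℕ, r.Prime → r ≠ p → ∀ y ∈ fixedSubgroup σ, y ≠ 1 → y ^ r = 1 → ¬ P y →
      r ∈ Q ∧ Nat.card ↥(fixedSubgroup σ ⊓ centralizer {y}) ≤ B r)
    (hBm : ∀ r ∈ Q, B r ≤ Bm) (hnum : ∑ r ∈ Q, fb d (B r) + fb d Bm < 1)
    {κ : Type} [Finite κ] {x : κ → G} {r : κ → ℕ}
    (hx : PF x r) (hcov : Cov Ω x) (hD : ∀ i, act hE e (x i) ∈ InD ι) : False :=
  engineYP1 hF hE e hp hpm hcore hIH P hP hM3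
    (fun _ _ _ hy hyI hpf hPy => not_cov_near hF hE e hd0 hd P B Q hB hBm hnum hy hyI hpf hPy) hx hcov hD

include hF in
/-- **Kill of a mixed cover** by a long root element `v`, in `Y`. -/
theorem kill_mixedY [Nonempty Ω] (h : YData ι (fixedSubgroup σ) p V U) {κ : Type} [Finite κ] {x : κ → G} {y : κ → Y}
    {r : κ → ℕ} (hy : ∀ i, Rep hE e ι (x i) (y i)) (hpf : PF y r) {i₀ : κ} (hi₀ : r i₀ = p)
    (hN : y i₀ ∈ ι.range) {v : Y} (hv : V v) (hyv : ∀ i, i ≠ i₀ → y i * v = v * y i)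
    (hv2 : v ∈ KK ι.range y i₀ ∨ ∃ w ∈ KK ι.range y i₀, PPr (fixedSubgroup σ) p w ∧ w * v = v * w) : ¬ Cov Ω x := by
  intro hcov
  obtain ⟨a, ha⟩ := h.vmem v hv
  have hg : Rep hE e ι (e.symm a : G) v := by rw [← ha]; exact rep_symm a
  have hpf' : PF x r := ⟨hpf.prime, hpf.inj, fun i => (Rep.pow_eq_one hF (hy i) _).2 (hpf.pow i),
    fun i h2 => hpf.ne i ((Rep.eq_one hF (hy i)).1 h2), fun i j => (Rep.comm hF (hy i) (hy j)).2 (hpf.comm i j)⟩
  refine kill_mixed hE (lrData hF hE e h) hpf' hcov (fun i => ⟨y i, hy i⟩) hi₀ ((Rep.mem_N hF (hy i₀)).2 hN)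
    (v := (e.symm a : G)) ⟨a, rfl, by rw [ha]; exact hv⟩ (fun i hi => (Rep.comm hF (hy i) hg).2 (hyv i hi)) ?_
  rcases hv2 with h1 | ⟨w, hw, hwP, hwv⟩
  · left
    obtain ⟨c, hc, hcr⟩ := nclo_rep hF hE e hy h1
    rwa [Rep.inj hF hg hcr]
  · right
    obtain ⟨c, hc, hcr⟩ := nclo_rep hF hE e hy hw
    exact ⟨c, hc, (Rep.ppr hF hE e hcr).2 hwP, (Rep.comm hF hcr hg).2 hwv⟩

end Y

end Cfsg.Agent.H694.RG
end

private theorem dce_a1ca8788a0e7 : _root_.True := by
  try have : _root_.True := by simp only [_root_.Cfsg.Agent.H368.RG.cop.eq_1]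
  exact _root_.True.intro
end

-- part: H165/WL/FG
section
set_option linter.all false
open scoped Cfsg.Agent.FastGrp

/-!
# S3509: stable subsystems for `F₄`, `G₂`, `³D₄` (helper165)

* `psi_F4`, `psi_G2` : the set of all long roots is stable under the Weyl group (types `D₄`, `A₂`);
* `psi_D4` : every `w · tri` (`w` in the Weyl group of type `D₄`) stabilises a subsystem of type `A₂` unless
  `θ⁴ - θ² + 1 = 0` on the root lattice.
-/

set_option autoImplicit false
set_option linter.unusedSectionVars false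

namespace Cfsg.Agent.H165.WL

open CoxeterSystem Cfsg Cfsg.Lie Cfsg.Lie.ChevalleyDatum
open Cfsg.Agent.ChevalleyStructure Cfsg.Agent.ChevalleyStructure.CoxeterGeom
open Cfsg.Agent.Tits.Roots Cfsg.Agent.Nodes.RGDChev Cfsg.Agent.ChevalleyStructure.Elts
open Cfsg.Agent.ChevalleyStructure.NPerm Cfsg.Agent.Nodes

universe v

/-- the roots of `F₄` -/
def TF : List (List ℤ) := [
  [-2, -4, -3, -2], [-2, -4, -3, -1], [-2, -4, -2, -1], [-2, -3, -2, -1], [-2, -2, -2, -1], [-2, -2, -1, -1],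
  [-2, -2, -1, 0], [-1, -3, -2, -1], [-1, -2, -2, -1], [-1, -2, -1, -1], [-1, -2, -1, 0], [-1, -1, -1, -1],
  [-1, -1, -1, 0], [-1, -1, 0, 0], [-1, 0, 0, 0], [0, -2, -2, -1], [0, -2, -1, -1], [0, -2, -1, 0],
  [0, -1, -1, -1], [0, -1, -1, 0], [0, -1, 0, 0], [0, 0, -1, -1], [0, 0, -1, 0], [0, 0, 0, -1], [0, 0, 0, 1],
  [0, 0, 1, 0], [0, 0, 1, 1], [0, 1, 0, 0], [0, 1, 1, 0], [0, 1, 1, 1], [0, 2, 1, 0], [0, 2, 1, 1],
  [0, 2, 2, 1], [1, 0, 0, 0], [1, 1, 0, 0], [1, 1, 1, 0], [1, 1, 1, 1], [1, 2, 1, 0], [1, 2, 1, 1],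
  [1, 2, 2, 1], [1, 3, 2, 1], [2, 2, 1, 0], [2, 2, 1, 1], [2, 2, 2, 1], [2, 3, 2, 1], [2, 4, 2, 1],
  [2, 4, 3, 1], [2, 4, 3, 2]]

/-- the long roots of `F₄` -/
def PF : List (List ℤ) := [
  [-2, -4, -3, -2], [-2, -4, -3, -1], [-2, -4, -2, -1], [-2, -2, -2, -1], [-2, -2, -1, -1], [-2, -2, -1, 0],
  [0, -2, -2, -1], [0, -2, -1, -1], [0, -2, -1, 0], [0, 0, -1, -1], [0, 0, -1, 0], [0, 0, 0, -1],
  [0, 0, 0, 1], [0, 0, 1, 0], [0, 0, 1, 1], [0, 2, 1, 0], [0, 2, 1, 1], [0, 2, 2, 1], [2, 2, 1, 0],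
  [2, 2, 1, 1], [2, 2, 2, 1], [2, 4, 2, 1], [2, 4, 3, 1], [2, 4, 3, 2]]

/-- the roots of `D₄` -/
def TD : List (List ℤ) := [
  [-1, -2, -1, -1], [-1, -1, -1, -1], [-1, -1, -1, 0], [-1, -1, 0, -1], [-1, -1, 0, 0], [-1, 0, 0, 0],
  [0, -1, -1, -1], [0, -1, -1, 0], [0, -1, 0, -1], [0, -1, 0, 0], [0, 0, -1, 0], [0, 0, 0, -1], [0, 0, 0, 1],
  [0, 0, 1, 0], [0, 1, 0, 0], [0, 1, 0, 1], [0, 1, 1, 0], [0, 1, 1, 1], [1, 0, 0, 0], [1, 1, 0, 0],
  [1, 1, 0, 1], [1, 1, 1, 0], [1, 1, 1, 1], [1, 2, 1, 1]]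

theorem tablF : Tabl chevF4 4 TF where
  len := by decide +kernel
  row := by
    have h : ∀ r < 48, (TF.getD r []).length = 4 ∧ ∀ i : Fin 4, (TF.getD r []).getD i 0 = vec chevF4 4 r i := by
      decide +kernel
    exact h

def LF : List ℕ := [46, 45, 43, 32, 42, 31, 41, 26, 30, 24, 25, 23, 22, 21, 17, 16, 6, 5, 15, 4, 2, 1, 0]
def LD : List ℕ := [22, 17, 20, 21, 15, 16, 19, 12, 14, 13, 18, 11, 9, 10, 5, 8, 4, 7, 3, 6, 2, 1, 0]

private noncomputable def _root_.Cfsg.Agent.KO941fbfb.k3 : ((x0 : @Nat) → ((x1 : @Nat) → @Decidable (@Eq.{1} @Nat @x0 @x1))) := @(fun (x0 : @Nat) (x1 : @Nat) => @Bool.rec.{1} @(fun (x2 : @Bool) => ((@Eq.{1} @Bool (@Nat.beq @x0 @x1) @x2) → @Decidable (@Eq.{1} @Nat @x0 @x1))) @(fun (x2 : @Eq.{1} @Bool (@Nat.beq @x0 @x1) @Bool.false) => @Decidable.isFalse (@Eq.{1} @Nat @x0 @x1) (@Nat.ne_of_beq_eq_false @x0 @x1 @x2)) @(fun (x2 : @Eq.{1} @Bool (@Nat.beq @x0 @x1) @Bool.true) => @Decidable.isTrue (@Eq.{1} @Nat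 @x0 @x1) (@Nat.eq_of_beq_eq_true @x0 @x1 @x2)) (@Nat.beq @x0 @x1) (@Eq.refl.{1} @Bool (@Nat.beq @x0 @x1)))
private theorem _root_.Cfsg.Agent.KO941fbfb.e3 : @Nat.decEq = @_root_.Cfsg.Agent.KO941fbfb.k3 := by delta _root_.Cfsg.Agent.KO941fbfb.k3; rfl'
private theorem _root_.Cfsg.Agent.KO941fbfb.e5.{ku, kv} {α : Type kv} {M : List α → Sort ku} (φ : ∀ l, M l) {z : M List.nil} {s : ∀ a l, M l → M (List.cons a l)} (h0 : φ List.nil = z) (hs : ∀ a l, φ (List.cons a l) = s a l (φ l)) (l : List α) : φ l = @List.rec α M z s l := List.rec h0 (fun a l ih => (hs a l).trans (congrArg (s a l) ih)) l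
private noncomputable def _root_.Cfsg.Agent.KO941fbfb.k11 : ((x0 : @Int) → ((x1 : @Int) → @Decidable (@Eq.{1} @Int @x0 @x1))) := @(fun (x0 : @Int) (x1 : @Int) => @Int.rec.{1} @(fun (x2 : @Int) => @Decidable (@Eq.{1} @Int @x2 @x1)) @(fun (x2 : @Nat) => @Int.rec.{1} @(fun (x3 : @Int) => @Decidable (@Eq.{1} @Int (@Int.ofNat @x2) @x3)) @(fun (x3 : @Nat) => @Decidable.rec.{1} (@Eq.{1} @Nat @x2 @x3) @(fun (x4 : @Decidable (@Eq.{1} @Nat @x2 @x3)) => @Decidable (@Eq.{1} @Int (@Int.ofNat @x2) (@Int.ofNat @x3))) @(fun (x4 : @Not (@Eq.{1} @Nat @x2 @x3)) => @Decidable.isFalse (@Eq.{1} @Int (@Int.ofNat @x2) (@Int.ofNat @x3)) (@Int.decEq._proof_2 @x2 @x3 @x4)) @(fun (x4 : @Eq.{1} @Nat @x2 @x3) => @Decidable.isTrue (@Eq.{1} @Int (@Int.ofNat @x2) (@Int.ofNat @x3)) (@Int.decEq._proof_1 @x2 @x3 @x4)) (@Cfsg.Agent.KO941fbfb.k3 @x2 @x3)) @(fun (x3 : @Nat) => @Decidable.isFalse (@Eq.{1} @Int (@Int.ofNat @x2) (@Int.negSucc @x3)) (@Int.decEq._proof_3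 @x2 @x3)) @x1) @(fun (x2 : @Nat) => @Int.rec.{1} @(fun (x3 : @Int) => @Decidable (@Eq.{1} @Int (@Int.negSucc @x2) @x3)) @(fun (x3 : @Nat) => @Decidable.isFalse (@Eq.{1} @Int (@Int.negSucc @x2) (@Int.ofNat @x3)) (@Int.decEq._proof_4 @x2 @x3)) @(fun (x3 : @Nat) => @Decidable.rec.{1} (@Eq.{1} @Nat @x2 @x3) @(fun (x4 : @Decidable (@Eq.{1} @Nat @x2 @x3)) => @Decidable (@Eq.{1} @Int (@Int.negSucc @x2) (@Int.negSucc @x3))) @(fun (x4 : @Not (@Eq.{1} @Nat @x2 @x3)) => @Decidable.isFalse (@Eq.{1} @Int (@Int.negSucc @x2) (@Int.negSucc @x3)) (@Int.decEq._proof_6 @x2 @x3 @x4)) @(fun (x4 : @Eq.{1} @Nat @x2 @x3) => @Decidable.isTrue (@Eq.{1} @Int (@Int.negSucc @x2) (@Int.negSucc @x3)) (@Int.decEq._proof_5 @x2 @x3 @x4)) (@Cfsg.Agent.KO941fbfb.k3 @x2 @x3)) @x1) @x0)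
private theorem _root_.Cfsg.Agent.KO941fbfb.e11 : @Int.decEq = @_root_.Cfsg.Agent.KO941fbfb.k11 := by delta _root_.Cfsg.Agent.KO941fbfb.k11; rewrite [← Cfsg.Agent.KO941fbfb.e3]; rfl'
private noncomputable def _root_.Cfsg.Agent.KO941fbfb.k13 : ((@Int) → ((@Int) → @Int)) := @(fun (x0 : @Int) (x1 : @Int) => @Int.rec.{1} @(fun (x2 : @Int) => @Int) @(fun (x2 : @Nat) => @Int.rec.{1} @(fun (x3 : @Int) => @Int) @(fun (x3 : @Nat) => @Int.ofNat (@Nat.add @x2 @x3)) @(fun (x3 : @Nat) => @Nat.rec.{1} @(fun (x4 : @Nat) => @Int) (@Int.ofNat (@Nat.sub @x2 (@Nat.succ @x3))) @(fun (x4 : @Nat) (x5 : @Int) => @Int.negSucc @x4) (@Nat.sub (@Nat.succ @x3) @x2)) @x1) @(fun (x2 : @Nat) => @Int.rec.{1} @(fun (x3 : @Int) => @Int) @(fun (x3 : @Nat) => @Nat.rec.{1} @(fun (x4 : @Nat) => @Int) (@Int.ofNat (@Nat.sub @x3 (@Nat.succ @x2))) @(fun (x4 : @Nat) (x5 : @Int) => @Int.negSucc @x4) (@Nat.sub (@Nat.succ @x2) @x3)) @(fun (x3 : @Nat) => @Int.negSucc (@Nat.succ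 (@Nat.add @x2 @x3))) @x1) @x0)
private theorem _root_.Cfsg.Agent.KO941fbfb.e13 : @Int.add = @_root_.Cfsg.Agent.KO941fbfb.k13 := by delta _root_.Cfsg.Agent.KO941fbfb.k13; rfl'
private noncomputable def _root_.Cfsg.Agent.KO941fbfb.k22.{ku0} : ((x0 : Sort (ku0+1)) → ((@List.{ku0} @x0) → ((x0 → @Bool) → @Bool))) := @(fun (x0 : Sort (ku0+1)) (x1 : @List.{ku0} @x0) (x2 : (x0 → @Bool)) => @List.rec.{(ku0+1), ku0} @x0 @(fun (x3 : @List.{ku0} @x0) => ((x0 → @Bool) → @Bool)) @(fun (x3 : (x0 → @Bool)) => @Bool.false) @(fun (x3 : x0) (x4 : @List.{ku0} @x0) (x5 : ((x0 → @Bool) → @Bool)) (x6 : (x0 → @Bool)) => @Bool.rec.{1} @(fun (x7 : @Bool) => @Bool) (@x5 @x6) @Bool.true (@x6 @x3)) @x1 @x2)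
private theorem _root_.Cfsg.Agent.KO941fbfb.e22.{ku0} : @List.any.{ku0} = @_root_.Cfsg.Agent.KO941fbfb.k22.{ku0} := by delta _root_.Cfsg.Agent.KO941fbfb.k22; funext a0 a1 a2; refine (congrFun (_root_.Cfsg.Agent.KO941fbfb.e5 (fun a1 a2 => @List.any.{ku0} a0 a1 a2) ?_ (fun c0 c1 => ?_) a1) a2 :) <;> (rfl')
private noncomputable def _root_.Cfsg.Agent.KO941fbfb.k23.{ku0} : ((x0 : Sort (ku0+1)) → ((@BEq.{ku0} @x0) → (x0 → ((@List.{ku0} @x0) → @Bool)))) := @(fun (x0 : Sort (ku0+1)) (x1 : @BEq.{ku0} @x0) (x2 : x0) (x3 : @List.{ku0} @x0) => @List.rec.{1, ku0} @x0 @(fun (x4 : @List.{ku0} @x0) => @Bool) @Bool.false @(fun (x4 : x0) (x5 : @List.{ku0} @x0) (x6 : @Bool) => @Bool.rec.{1} @(fun (x7 : @Bool) => @Bool) @x6 @Bool.true (@BEq.beq.{ku0} @x0 @x1 @x2 @x4)) @x3)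
private theorem _root_.Cfsg.Agent.KO941fbfb.e23.{ku0} : @List.elem.{ku0} = @_root_.Cfsg.Agent.KO941fbfb.k23.{ku0} := by delta _root_.Cfsg.Agent.KO941fbfb.k23; funext a0 a1 a2 a3; refine (_root_.Cfsg.Agent.KO941fbfb.e5 (fun a3 => @List.elem.{ku0} a0 a1 a2 a3) ?_ (fun c0 c1 => ?_) a3 :) <;> (rfl')
private noncomputable def _root_.Cfsg.Agent.KO941fbfb.k25.{ku0} : ((x0 : Sort (ku0+1)) → ((@BEq.{ku0} @x0) → ((@List.{ku0} @x0) → ((@List.{ku0} @x0) → @Bool)))) := @(fun (x0 : Sort (ku0+1)) (x1 : @BEq.{ku0} @x0) (x2 : @List.{ku0} @x0) (x3 : @List.{ku0} @x0) => @List.rec.{(ku0+1), ku0} @x0 @(fun (x4 : @List.{ku0} @x0) => ((@List.{ku0} @x0) → @Bool)) @(fun (x4 : @List.{ku0} @x0) => @List.rec.{1, ku0} @x0 @(fun (x5 : @List.{ku0} @x0) => @Bool) @Bool.true @(fun (x5 : x0) (x6 : @List.{ku0} @x0) (x7 : @Bool) => @Bool.false) @x4) @(fun (x4 : x0) (x5 : @List.{ku0} @x0) (x6 : ((@List.{ku0} @x0) → @Bool)) (x7 : @List.{ku0} @x0) => @List.rec.{1, ku0}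 @x0 @(fun (x8 : @List.{ku0} @x0) => @Bool) @Bool.false @(fun (x8 : x0) (x9 : @List.{ku0} @x0) (x10 : @Bool) => @Bool.rec.{1} @(fun (x11 : @Bool) => @Bool) @Bool.false (@x6 @x9) (@BEq.beq.{ku0} @x0 @x1 @x4 @x8)) @x7) @x2 @x3)
private theorem _root_.Cfsg.Agent.KO941fbfb.e25.{ku0} : @List.beq.{ku0} = @_root_.Cfsg.Agent.KO941fbfb.k25.{ku0} := by delta _root_.Cfsg.Agent.KO941fbfb.k25; funext a0 a1 a2 a3; refine (congrFun (_root_.Cfsg.Agent.KO941fbfb.e5 (fun a2 a3 => @List.beq.{ku0} a0 a1 a2 a3) ?_ (fun c0 c1 => ?_) a2) a3 :) <;> [(funext b0; (cases b0 with | @nil  => (rfl') | @cons b0_0 b0_1 => (rfl'))); (funext b0; (cases b0 with | @nil  => (rfl') | @cons b0_0 b0_1 => (rfl')))]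
private noncomputable def _root_.Cfsg.Agent.KO941fbfb.k27.{ku0, ku1, ku2} : ((x0 : Sort (ku0+1)) → ((x1 : Sort (ku1+1)) → ((x2 : Sort (ku2+1)) → ((x0 → (x1 → x2)) → ((@List.{ku0} @x0) → ((@List.{ku1} @x1) → @List.{ku2} @x2)))))) := @(fun (x0 : Sort (ku0+1)) (x1 : Sort (ku1+1)) (x2 : Sort (ku2+1)) (x3 : (x0 → (x1 → x2))) (x4 : @List.{ku0} @x0) (x5 : @List.{ku1} @x1) => @List.rec.{(max (ku1+1) (ku2+1)), ku0} @x0 @(fun (x6 : @List.{ku0} @x0) => ((@List.{ku1} @x1) → @List.{ku2} @x2)) @(fun (x6 : @List.{ku1} @x1) => @List.nil.{ku2} @x2) @(fun (x6 : x0) (x7 : @List.{ku0} @x0) (x8 : ((@List.{ku1} @x1) → @List.{ku2} @x2)) (x9 : @List.{ku1} @x1) => @List.rec.{(ku2+1), ku1} @x1 @(fun (x10 : @List.{ku1} @x1) => @List.{ku2} @x2) (@List.nil.{ku2} @x2) @(fun (x10 : x1) (x11 : @List.{ku1} @x1) (x12 : @List.{ku2} @x2) => @List.cons.{ku2} @x2 (@x3 @x6 @x10) (@x8 @x11)) @x9) @x4 @x5)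
private theorem _root_.Cfsg.Agent.KO941fbfb.e27.{ku0, ku1, ku2} : @List.zipWith.{ku0, ku1, ku2} = @_root_.Cfsg.Agent.KO941fbfb.k27.{ku0, ku1, ku2} := by delta _root_.Cfsg.Agent.KO941fbfb.k27; funext a0 a1 a2 a3 a4 a5; refine (congrFun (_root_.Cfsg.Agent.KO941fbfb.e5 (fun a4 a5 => @List.zipWith.{ku0, ku1, ku2} a0 a1 a2 a3 a4 a5) ?_ (fun c0 c1 => ?_) a4) a5 :) <;> [(funext b0; (rfl')); (funext b0; (cases b0 with | @nil  => (rfl') | @cons b0_0 b0_1 => (rfl')))]
private noncomputable def _root_.Cfsg.Agent.KO941fbfb.k28 : (by first | exact type_of% @Cfsg.Agent.H165.WL.addL | exact Unit : Sort _) := by first | (refine @Subtype.val _ (fun g => @Cfsg.Agent.H165.WL.addL = @g) (@Subtype.mk _ _ (@(fun (x0 : @List.{0} @Int) (x1 : @List.{0} @Int) => @Cfsg.Agent.KO941fbfb.k27.{0, 0, 0} @Int @Int @Int @(fun (x2 : @Int) (x3 : @Int) => @Cfsg.Agent.KO941fbfb.k13 @x2 @x3) @x0 @x1)) ?_); rewrite [← Cfsg.Agent.KO941fbfb.e13, ← Cfsg.Agent.KO941fbfb.e27.{0,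 0, 0}]; rfl') | exact @Cfsg.Agent.H165.WL.addL | exact ()
private theorem _root_.Cfsg.Agent.KO941fbfb.e28 : (by first | exact @Cfsg.Agent.H165.WL.addL = @_root_.Cfsg.Agent.KO941fbfb.k28 | exact True : Prop) := by first | (delta _root_.Cfsg.Agent.KO941fbfb.k28; exact @Subtype.property _ (fun g => @Cfsg.Agent.H165.WL.addL = @g) _) | rfl | trivial
private noncomputable def _root_.Cfsg.Agent.KO941fbfb.k29.{ku0} : ((x0 : Sort (ku0+1)) → ((@List.{ku0} @x0) → ((x0 → @Bool) → @Bool))) := @(fun (x0 : Sort (ku0+1)) (x1 : @List.{ku0} @x0) (x2 : (x0 → @Bool)) => @List.rec.{(ku0+1), ku0} @x0 @(fun (x3 : @List.{ku0} @x0) => ((x0 → @Bool) → @Bool)) @(fun (x3 : (x0 → @Bool)) => @Bool.true) @(fun (x3 : x0) (x4 : @List.{ku0} @x0) (x5 : ((x0 → @Bool) → @Bool)) (x6 : (x0 → @Bool)) => @Bool.rec.{1} @(fun (x7 : @Bool) => @Bool) @Bool.false (@x5 @x6) (@x6 @x3)) @x1 @x2)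
private theorem _root_.Cfsg.Agent.KO941fbfb.e29.{ku0} : @List.all.{ku0} = @_root_.Cfsg.Agent.KO941fbfb.k29.{ku0} := by delta _root_.Cfsg.Agent.KO941fbfb.k29; funext a0 a1 a2; refine (congrFun (_root_.Cfsg.Agent.KO941fbfb.e5 (fun a1 a2 => @List.all.{ku0} a0 a1 a2) ?_ (fun c0 c1 => ?_) a1) a2 :) <;> (rfl')
private noncomputable def _root_.Cfsg.Agent.KO941fbfb.k30 : (by first | exact type_of% @Cfsg.Agent.H165.WL.subL | exact Unit : Sort _) := by first | (refine @Subtype.val _ (fun g => @Cfsg.Agent.H165.WL.subL = @g) (@Subtype.mk _ _ (@(fun (x0 : @List.{0} @Int) (x1 : @List.{0} @Int) => @Cfsg.Agent.KO941fbfb.k27.{0, 0, 0} @Int @Int @Int @(fun (x2 : @Int) (x3 : @Int) => @Cfsg.Agent.KO941fbfb.k13 @x2 (@Int.rec.{1} @(fun (x4 : @Int) => @Int) @(fun (x4 : @Nat) => @Nat.rec.{1} @(fun (x5 : @Nat) => @Int) (@Int.ofNat (nat_lit 0)) @(fun (x5 : @Nat) (x6 : @Int) => @Int.negSucc @x5) @x4) @(fun (x4 : @Nat) => @Int.ofNat (@Nat.succ @x4)) @x3))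 @x0 @x1)) ?_); rewrite [← Cfsg.Agent.KO941fbfb.e13, ← Cfsg.Agent.KO941fbfb.e27.{0, 0, 0}]; rfl') | exact @Cfsg.Agent.H165.WL.subL | exact ()
private theorem _root_.Cfsg.Agent.KO941fbfb.e30 : (by first | exact @Cfsg.Agent.H165.WL.subL = @_root_.Cfsg.Agent.KO941fbfb.k30 | exact True : Prop) := by first | (delta _root_.Cfsg.Agent.KO941fbfb.k30; exact @Subtype.property _ (fun g => @Cfsg.Agent.H165.WL.subL = @g) _) | rfl | trivial
private noncomputable def _root_.Cfsg.Agent.KO941fbfb.k31.{ku0, ku1} : ((x0 : Sort (ku0+1)) → ((x1 : Sort (ku1+1)) → ((x0 → x1) → ((@List.{ku0} @x0) → @List.{ku1} @x1)))) := @(fun (x0 : Sort (ku0+1)) (x1 : Sort (ku1+1)) (x2 : (x0 → x1)) (x3 : @List.{ku0} @x0) => @List.rec.{(ku1+1), ku0} @x0 @(fun (x4 : @List.{ku0} @x0) => @List.{ku1} @x1) (@List.nil.{ku1} @x1) @(fun (x4 : x0) (x5 : @List.{ku0} @x0) (x6 : @List.{ku1} @x1) => @List.cons.{ku1} @x1 (@x2 @x4) @x6) @x3)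
private theorem _root_.Cfsg.Agent.KO941fbfb.e31.{ku0, ku1} : @List.map.{ku0, ku1} = @_root_.Cfsg.Agent.KO941fbfb.k31.{ku0, ku1} := by delta _root_.Cfsg.Agent.KO941fbfb.k31; funext a0 a1 a2 a3; refine (_root_.Cfsg.Agent.KO941fbfb.e5 (fun a3 => @List.map.{ku0, ku1} a0 a1 a2 a3) ?_ (fun c0 c1 => ?_) a3 :) <;> (rfl')
private noncomputable def _root_.Cfsg.Agent.KO941fbfb.k32 : (by first | exact type_of% @Cfsg.Agent.H165.WL.chk | exact Unit : Sort _) := by first | (refine @Subtype.val _ (fun g => @Cfsg.Agent.H165.WL.chk = @g) (@Subtype.mk _ _ (@(fun (x0 : @List.{0} (@List.{0} @Int)) (x1 : @List.{0} (@List.{0} @Int)) => @Bool.rec.{1} @(fun (x2 : @Bool) => @Bool) @Bool.false (@Cfsg.Agent.KO941fbfb.k22.{0} (@List.{0} @Int) @x1 @(fun (x2 : @List.{0} @Int) => @Cfsg.Agent.KO941fbfb.k22.{0} (@List.{0} @Int) @x1 @(fun (x3 : @List.{0} @Int) => @Cfsg.Agent.KO941fbfb.k23.{0} (@List.{0} @Int) (@BEq.mk.{0} (@List.{0} @Int) (@Cfsg.Agent.KO941fbfb.k25.{0}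 @Int (@BEq.mk.{0} @Int @(fun (x4 : @Int) (x5 : @Int) => @Decidable.rec.{1} (@Eq.{1} @Int @x4 @x5) @(fun (x6 : @Decidable (@Eq.{1} @Int @x4 @x5)) => @Bool) @(fun (x6 : @Not (@Eq.{1} @Int @x4 @x5)) => @Bool.false) @(fun (x6 : @Eq.{1} @Int @x4 @x5) => @Bool.true) (@Cfsg.Agent.KO941fbfb.k11 @x4 @x5))))) (@Cfsg.Agent.KO941fbfb.k28 @x2 @x3) @x0))) (@Bool.rec.{1} @(fun (x2 : @Bool) => @Bool) @Bool.false (@Cfsg.Agent.KO941fbfb.k29.{0} (@List.{0} @Int) @x1 @(fun (x2 : @List.{0} @Int) => @Cfsg.Agent.KO941fbfb.k29.{0} (@List.{0} @Int) @x1 @(fun (x3 : @List.{0} @Int) => @Bool.rec.{1} @(fun (x4 : @Bool) => @Bool) (@Cfsg.Agent.KO941fbfb.k22.{0} (@List.{0} @Int) @x1 @(fun (x4 : @List.{0} @Int) => @Bool.rec.{1} @(fun (x5 : @Bool) => @Bool) @Bool.false (@Bool.rec.{1} @(fun (x5 : @Bool) => @Bool) (@Cfsg.Agent.KO941fbfb.k23.{0} (@List.{0} @Int) (@BEq.mk.{0} (@List.{0} @Int) (@Cfsg.Agent.KO941fbfb.k25.{0} @Int (@BEq.mk.{0} @Int @(fun (x5 : @Int) (x6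 : @Int) => @Decidable.rec.{1} (@Eq.{1} @Int @x5 @x6) @(fun (x7 : @Decidable (@Eq.{1} @Int @x5 @x6)) => @Bool) @(fun (x7 : @Not (@Eq.{1} @Int @x5 @x6)) => @Bool.false) @(fun (x7 : @Eq.{1} @Int @x5 @x6) => @Bool.true) (@Cfsg.Agent.KO941fbfb.k11 @x5 @x6))))) (@Cfsg.Agent.KO941fbfb.k30 @x4 @x3) @x0) @Bool.true (@Cfsg.Agent.KO941fbfb.k23.{0} (@List.{0} @Int) (@BEq.mk.{0} (@List.{0} @Int) (@Cfsg.Agent.KO941fbfb.k25.{0} @Int (@BEq.mk.{0} @Int @(fun (x5 : @Int) (x6 : @Int) => @Decidable.rec.{1} (@Eq.{1} @Int @x5 @x6) @(fun (x7 : @Decidable (@Eq.{1} @Int @x5 @x6)) => @Bool) @(fun (x7 : @Not (@Eq.{1} @Int @x5 @x6)) => @Bool.false) @(fun (x7 : @Eq.{1} @Int @x5 @x6) => @Bool.true) (@Cfsg.Agent.KO941fbfb.k11 @x5 @x6))))) (@Cfsg.Agent.KO941fbfb.k28 @x4 @x3) @x0)) (@Bool.rec.{1} @(fun (x5 : @Bool) => @Bool) (@Cfsg.Agent.KO941fbfb.k23.{0} (@List.{0} @Int) (@BEq.mk.{0} (@List.{0} @Int) (@Cfsg.Agent.KO941fbfb.k25.{0} @Int (@BEq.mk.{0} @Int @(fun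 (x5 : @Int) (x6 : @Int) => @Decidable.rec.{1} (@Eq.{1} @Int @x5 @x6) @(fun (x7 : @Decidable (@Eq.{1} @Int @x5 @x6)) => @Bool) @(fun (x7 : @Not (@Eq.{1} @Int @x5 @x6)) => @Bool.false) @(fun (x7 : @Eq.{1} @Int @x5 @x6) => @Bool.true) (@Cfsg.Agent.KO941fbfb.k11 @x5 @x6))))) (@Cfsg.Agent.KO941fbfb.k30 @x2 @x4) @x0) @Bool.true (@Cfsg.Agent.KO941fbfb.k23.{0} (@List.{0} @Int) (@BEq.mk.{0} (@List.{0} @Int) (@Cfsg.Agent.KO941fbfb.k25.{0} @Int (@BEq.mk.{0} @Int @(fun (x5 : @Int) (x6 : @Int) => @Decidable.rec.{1} (@Eq.{1} @Int @x5 @x6) @(fun (x7 : @Decidable (@Eq.{1} @Int @x5 @x6)) => @Bool) @(fun (x7 : @Not (@Eq.{1} @Int @x5 @x6)) => @Bool.false) @(fun (x7 : @Eq.{1} @Int @x5 @x6) => @Bool.true) (@Cfsg.Agent.KO941fbfb.k11 @x5 @x6))))) (@Cfsg.Agent.KO941fbfb.k28 @x2 @x4) @x0)))) @Bool.true (@Bool.rec.{1} @(fun (x4 : @Bool) => @Bool) (@Cfsg.Agent.KO941fbfb.k23.{0} (@List.{0} @Int) (@BEq.mk.{0} (@List.{0} @Int) (@Cfsg.Agent.KO941fbfb.k25.{0}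 @Int (@BEq.mk.{0} @Int @(fun (x4 : @Int) (x5 : @Int) => @Decidable.rec.{1} (@Eq.{1} @Int @x4 @x5) @(fun (x6 : @Decidable (@Eq.{1} @Int @x4 @x5)) => @Bool) @(fun (x6 : @Not (@Eq.{1} @Int @x4 @x5)) => @Bool.false) @(fun (x6 : @Eq.{1} @Int @x4 @x5) => @Bool.true) (@Cfsg.Agent.KO941fbfb.k11 @x4 @x5))))) (@Cfsg.Agent.KO941fbfb.k30 @x2 @x3) @x0) @Bool.true (@Cfsg.Agent.KO941fbfb.k23.{0} (@List.{0} @Int) (@BEq.mk.{0} (@List.{0} @Int) (@Cfsg.Agent.KO941fbfb.k25.{0} @Int (@BEq.mk.{0} @Int @(fun (x4 : @Int) (x5 : @Int) => @Decidable.rec.{1} (@Eq.{1} @Int @x4 @x5) @(fun (x6 : @Decidable (@Eq.{1} @Int @x4 @x5)) => @Bool) @(fun (x6 : @Not (@Eq.{1} @Int @x4 @x5)) => @Bool.false) @(fun (x6 : @Eq.{1} @Int @x4 @x5) => @Bool.true) (@Cfsg.Agent.KO941fbfb.k11 @x4 @x5))))) (@Cfsg.Agent.KO941fbfb.k28 @x2 @x3) @x0))))) (@Bool.rec.{1} @(fun (x2 : @Bool) => @Bool) @Bool.false (@Cfsg.Agent.KO941fbfb.k29.{0} (@List.{0} @Int) @x1 @(fun (x2 : @List.{0} @Int)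 => @Cfsg.Agent.KO941fbfb.k29.{0} (@List.{0} @Int) @x1 @(fun (x3 : @List.{0} @Int) => @Bool.rec.{1} @(fun (x4 : @Bool) => @Bool) (@Cfsg.Agent.KO941fbfb.k23.{0} (@List.{0} @Int) (@BEq.mk.{0} (@List.{0} @Int) (@Cfsg.Agent.KO941fbfb.k25.{0} @Int (@BEq.mk.{0} @Int @(fun (x4 : @Int) (x5 : @Int) => @Decidable.rec.{1} (@Eq.{1} @Int @x4 @x5) @(fun (x6 : @Decidable (@Eq.{1} @Int @x4 @x5)) => @Bool) @(fun (x6 : @Not (@Eq.{1} @Int @x4 @x5)) => @Bool.false) @(fun (x6 : @Eq.{1} @Int @x4 @x5) => @Bool.true) (@Cfsg.Agent.KO941fbfb.k11 @x4 @x5))))) (@Cfsg.Agent.KO941fbfb.k28 @x2 @x3) @x1) @Bool.true (@Bool.rec.{1} @(fun (x4 : @Bool) => @Bool) @Bool.true @Bool.false (@Cfsg.Agent.KO941fbfb.k23.{0} (@List.{0} @Int) (@BEq.mk.{0} (@List.{0} @Int) (@Cfsg.Agent.KO941fbfb.k25.{0} @Int (@BEq.mk.{0} @Int @(fun (x4 : @Int) (x5 : @Int) => @Decidable.rec.{1} (@Eq.{1} @Int @x4 @x5) @(fun (x6 : @Decidable (@Eq.{1} @Int @x4 @x5)) => @Bool) @(fun (x6 : @Not (@Eq.{1}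 @Int @x4 @x5)) => @Bool.false) @(fun (x6 : @Eq.{1} @Int @x4 @x5) => @Bool.true) (@Cfsg.Agent.KO941fbfb.k11 @x4 @x5))))) (@Cfsg.Agent.KO941fbfb.k28 @x2 @x3) @x0))))) (@Cfsg.Agent.KO941fbfb.k29.{0} (@List.{0} @Int) @x1 @(fun (x2 : @List.{0} @Int) => @Bool.rec.{1} @(fun (x3 : @Bool) => @Bool) @Bool.false (@Cfsg.Agent.KO941fbfb.k23.{0} (@List.{0} @Int) (@BEq.mk.{0} (@List.{0} @Int) (@Cfsg.Agent.KO941fbfb.k25.{0} @Int (@BEq.mk.{0} @Int @(fun (x3 : @Int) (x4 : @Int) => @Decidable.rec.{1} (@Eq.{1} @Int @x3 @x4) @(fun (x5 : @Decidable (@Eq.{1} @Int @x3 @x4)) => @Bool) @(fun (x5 : @Not (@Eq.{1} @Int @x3 @x4)) => @Bool.false) @(fun (x5 : @Eq.{1} @Int @x3 @x4) => @Bool.true) (@Cfsg.Agent.KO941fbfb.k11 @x3 @x4))))) (@Cfsg.Agent.KO941fbfb.k31.{0, 0} @Int @Int @(fun (x3 : @Int) => @Int.rec.{1} @(fun (x4 : @Int) => @Int) @(fun (x4 : @Nat) => @Nat.rec.{1} @(fun (x5 : @Nat) => @Int) (@Int.ofNat (nat_lit 0)) @(fun (x5 : @Nat) (x6 : @Int) => @Int.negSucc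 @x5) @x4) @(fun (x4 : @Nat) => @Int.ofNat (@Nat.succ @x4)) @x3) @x2) @x1) (@Cfsg.Agent.KO941fbfb.k23.{0} (@List.{0} @Int) (@BEq.mk.{0} (@List.{0} @Int) (@Cfsg.Agent.KO941fbfb.k25.{0} @Int (@BEq.mk.{0} @Int @(fun (x3 : @Int) (x4 : @Int) => @Decidable.rec.{1} (@Eq.{1} @Int @x3 @x4) @(fun (x5 : @Decidable (@Eq.{1} @Int @x3 @x4)) => @Bool) @(fun (x5 : @Not (@Eq.{1} @Int @x3 @x4)) => @Bool.false) @(fun (x5 : @Eq.{1} @Int @x3 @x4) => @Bool.true) (@Cfsg.Agent.KO941fbfb.k11 @x3 @x4))))) @x2 @x0))))))) ?_); rewrite [← Cfsg.Agent.KO941fbfb.e31.{0, 0}, ← Cfsg.Agent.KO941fbfb.e30, ← Cfsg.Agent.KO941fbfb.e29.{0}, ← Cfsg.Agent.KO941fbfb.e28, ← Cfsg.Agent.KO941fbfb.e11, ← Cfsg.Agent.KO941fbfb.e25.{0}, ← Cfsg.Agent.KO941fbfb.e23.{0}, ← Cfsg.Agent.KO941fbfb.e22.{0}]; (try delta Cfsg.Agent.H165.WL.chk Cfsg.Agent.H165.WL.negL); (try generalize @Cfsg.Agent.H165.WL.addL = g0); (try generalize @Cfsg.Agent.H165.WL.subL = g1); rfl') | exact @Cfsg.Agent.H165.WL.chk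 | exact ()
private theorem _root_.Cfsg.Agent.KO941fbfb.e32 : (by first | exact @Cfsg.Agent.H165.WL.chk = @_root_.Cfsg.Agent.KO941fbfb.k32 | exact True : Prop) := by first | (delta _root_.Cfsg.Agent.KO941fbfb.k32; exact @Subtype.property _ (fun g => @Cfsg.Agent.H165.WL.chk = @g) _) | rfl | trivial

theorem chkF : chk TF PF = true := by (first | (rewrite [Cfsg.Agent.KO941fbfb.e32]; decide +kernel) | decide +kernel)
theorem chainF : chain chevF4 4 [chevF4.nroots - 1] LF = true := by decide +kernel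
theorem memF : ∀ v ∈ PF, v = TF.getD (chevF4.nroots - 1) [] ∨ ∃ r ∈ LF, v = TF.getD r [] := by decide +kernel
theorem chainD : chain chevD4 4 [chevD4.nroots - 1] LD = true := by decide +kernel
theorem memD : ∀ v ∈ TD, v = TD.getD (chevD4.nroots - 1) [] ∨ ∃ r ∈ LD, v = TD.getD r [] := by decide +kernel

/-- stability under the simple reflections, in terms of indices -/
def stab (D : ChevalleyDatum) (l : ℕ) (T P : List (List ℤ)) : Bool :=
  (List.range l).all fun i => (List.range D.nroots).all fun r =>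
    !(P.contains (T.getD r [])) || P.contains (T.getD (D.reflectRoot i r) [])

theorem stabF : stab chevF4 4 TF PF = true := by decide +kernel
section Long

variable {D : ChevalleyDatum} {l : ℕ} {M : CoxeterMatrix (Fin l)} (hp : IsType D l M) {W : Type v} [Group W]
  (cs : CoxeterSystem M W) {T P : List (List ℤ)}

/-- stability under the Weyl group -/
theorem stable_of (hT : Tabl D l T) (hPT : ∀ v ∈ P, v ∈ T)
    (hst : stab D l T P = true) (w : W) :
    ∀ v ∈ P, ∃ u ∈ P, rep cs hp.isCartan w (vf l v) = vf l u := by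
  have hs : ∀ i < l, ∀ r < D.nroots, T.getD r [] ∈ P → T.getD (D.reflectRoot i r) [] ∈ P := by
    intro i hi r hr h1
    unfold stab at hst
    rw [List.all_eq_true] at hst
    have h2 := hst i (List.mem_range.2 hi)
    rw [List.all_eq_true] at h2
    have h3 := h2 r (List.mem_range.2 hr)
    rw [Bool.or_eq_true, Bool.not_eq_true', ← Bool.not_eq_true, List.contains_iff_mem, List.contains_iff_mem] at h3
    exact h3.resolve_left (not_not.2 h1)
  obtain ⟨ω, rfl⟩ := cs.wordProd_surjective w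
  induction ω with
  | nil =>
    intro v hv
    exact ⟨v, hv, by rw [wordProd_nil, map_one, Module.End.one_apply]⟩
  | cons i ω ih =>
    intro v hv
    obtain ⟨u, hu, e⟩ := ih v hv
    obtain ⟨r, hr, hru⟩ := List.mem_iff_getElem.1 (hPT u hu)
    have hr' : r < D.nroots := by rw [← hT.len]; exact hr
    have hru' : T.getD r [] = u := by rw [List.getD_eq_getElem _ _ hr, hru]
    have h1 := hs i i.2 r hr' (by rw [hru']; exact hu)
    refine ⟨_, h1, ?_⟩
    have h2 : D.reflectRoot i r < D.nroots := reflectRoot_lt hp.inList (lt_rank hp i) hr'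
    rw [wordProd_cons, rep_mul_apply, e, ← hru', hT.vec_eq hr', hT.vec_eq h2, rep_vec hp cs i hr']

end Long

/-! ### `³D₄` -/

open Cfsg.Agent.H378.OmD4 Cfsg.Agent.H129.TriD4

variable {W : Type v} [Group W] (cs : CoxeterSystem coxeterD4 W)

end Cfsg.Agent.H165.WL

private theorem dce_c334a5d5d454 : _root_.True := by
  try have : _root_.True := by simp only [_root_.Cfsg.Agent.H378.OmD4.reps.eq_6]
  try have : _root_.True := by simp only [_root_.Cfsg.Agent.H378.OmD4.reps.eq_1]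
  try have : _root_.True := by simp only [_root_.Cfsg.Agent.H378.OmD4.reps.eq_2]
  try have : _root_.True := by simp only [_root_.Cfsg.Agent.H378.OmD4.reps.eq_4]
  try have : _root_.True := by simp only [_root_.Cfsg.Agent.H378.OmD4.reps.eq_7]
  try have : _root_.True := by simp only [_root_.Cfsg.Agent.H378.OmD4.reps.eq_5]
  try have : _root_.True := by simp only [_root_.Cfsg.Agent.H378.OmD4.reps.eq_3]
  exact _root_.True.intro
end

-- part: H694/RG/InK
section
set_option linter.all false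

/-!
# S3509: the inner part of a row from the data in `Y` (helper694)

* `inK_X` : `InK ι` (helper268) from `O_p(C(s)) = 1`, the predicate `P` of useful elements, the class `X` of elements
  excluded separately and the numbers (`engineYPX`);
* `inK_N` : the same without `X` (`engineYPN`);
* `inK_S` : one input `hS` for the families without useful members (`engineYP1`).
-/

set_option autoImplicit false
set_option linter.unusedSectionVars false
open Cfsg

namespace Cfsg.Agent.H694.RG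

open MulAction Subgroup Cfsg.Agent.H106.RC Cfsg.Agent.H327.RG Cfsg.Agent.H368.RG Cfsg.Agent.H873.RG Cfsg.Agent.H380.RC
open Cfsg.Agent.H268.RX
open Cfsg.Agent.H28.GenF (InD)

variable {Y K₀ : Type} [Group Y] [Group K₀] {ι : K₀ →* Y} {σ : MulAut Y} (hF : Fr ι σ) {p : ℕ}

include hF in
/-- **The inner part of a row**: numbers depending on the prime -/
theorem inK_N [Finite ↥(fixedSubgroup σ)] [Finite K₀] (hp : p.Prime)
    (hpm : ∀ y ∈ fixedSubgroup σ, y ^ p = 1 → y ∈ ι.range)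
    (hcore : ∀ s ∈ fixedSubgroup σ, (∃ m : ℕ, m.Coprime p ∧ s ^ m = 1) → pCore p ↥(ι.range ⊓ centralizer {s}) = ⊥)
    {d Bm : ℕ} (hd0 : 0 < d) (hd : H514.DP.MinDeg K₀ d) (P : Y → Prop)
    (hP : ∀ y, PPr (fixedSubgroup σ) p y → P y → ∃ M, UsY ι (fixedSubgroup σ) p M y)
    (hM3 : ∀ (y x : Y) (t : ℕ), t.Prime → t ≠ p → y ∈ ι.range → y ≠ 1 → y ^ t = 1 → x ∈ fixedSubgroup σ → x ≠ 1 →
      x ^ t = 1 → y * x = x * y → P y → ¬ P x →
      ∃ M, UsY ι (fixedSubgroup σ) p M y ∧ x ∈ Subgroup.normalizer (M : Set Y))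
    (B : ℕ → ℕ) (Q : Finset ℕ)
    (hB : ∀ r : ℕ, r.Prime → r ≠ p → ∀ y ∈ fixedSubgroup σ, y ≠ 1 → y ^ r = 1 → ¬ P y →
      r ∈ Q ∧ Nat.card ↥(fixedSubgroup σ ⊓ centralizer {y}) ≤ B r)
    (hBm : ∀ r ∈ Q, B r ≤ Bm) (hnum : ∑ r ∈ Q, fb d (B r) + fb d Bm < 1) : InK ι := by
  intro hIH G _ _ Ω _ _ _ N hE e κ _ x r hx hcov hD
  exact engineYPN hF hE e hp hpm hcore hIH hd0 hd P hP hM3 B Q hB hBm hnum hx hcov hD

include hF in
/-- **The inner part of a row**: one input for the families without useful members -/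
theorem inK_S [Finite K₀] (hp : p.Prime)
    (hpm : ∀ y ∈ fixedSubgroup σ, y ^ p = 1 → y ∈ ι.range)
    (hcore : ∀ s ∈ fixedSubgroup σ, (∃ m : ℕ, m.Coprime p ∧ s ^ m = 1) → pCore p ↥(ι.range ⊓ centralizer {s}) = ⊥)
    (P : Y → Prop)
    (hP : ∀ y, PPr (fixedSubgroup σ) p y → P y → ∃ M, UsY ι (fixedSubgroup σ) p M y)
    (hM3 : ∀ (y x : Y) (t : ℕ), t.Prime → t ≠ p → y ∈ ι.range → y ≠ 1 → y ^ t = 1 → x ∈ fixedSubgroup σ → x ≠ 1 →
      x ^ t = 1 → y * x = x * y → P y → ¬ P x →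
      ∃ M, UsY ι (fixedSubgroup σ) p M y ∧ x ∈ Subgroup.normalizer (M : Set Y))
    (hS : ∀ (G : Type) [Group G] [Finite G] (Ω : Type) [Finite Ω] [Nonempty Ω] [MulAction G Ω]
      (N : Subgroup G) (hE : Env G Ω N) (e : N ≃* K₀) (κ : Type) [Finite κ]
      (z : κ → G) (y : κ → Y) (r : κ → ℕ), (∀ i, Rep hE e ι (z i) (y i)) → (∀ i, y i ∈ fixedSubgroup σ) →
      NearPF p y r → (∀ i, ¬ P (y i)) → ¬ Cov Ω z) : InK ι := by
  intro hIH G _ _ Ω _ _ _ N hE e κ _ x r hx hcov hD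
  exact engineYP1 hF hE e hp hpm hcore hIH P hP hM3 (hS G Ω N hE e κ) hx hcov hD

end Cfsg.Agent.H694.RG
end

-- part: H692/RG/FrUs
section
set_option linter.all false
open scoped Cfsg.Agent.FastGrp

/-!
# S3509: useful elements from the toral form (helper692 for helper338)

`usY_of_frame` : a component `Mf` of the centraliser of `t` in the fixed points of the frame automorphism `α` of the toral form
of `y` gives a useful `M = z Mf z⁻¹` for `y`; `M` is normalised by the whole centraliser of `y` in `Y ^ σ`.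
-/

set_option autoImplicit false
set_option linter.unusedSectionVars false
open Cfsg

namespace Cfsg.Agent.H692.RG.FrUs

open Subgroup Cfsg Cfsg.Lie Cfsg.Lie.ChevalleyDatum
open Cfsg.Agent.ChevalleyStructure Cfsg.Agent.ChevalleyStructure.CoxeterGeom
  Cfsg.Agent.ChevalleyStructure.CoxeterGeomTypes
open Cfsg.Agent.Nodes.RGDChev Cfsg.Agent.KFacts.RgdChevCoord
open Cfsg.Agent.H469.Exc Cfsg.Agent.H316.U6
open Cfsg.Agent.BpExc Cfsg.Agent.BpExc.Pair
open Cfsg.Agent.H327.RG Cfsg.Agent.H368.RG Cfsg.Agent.H873.RG Cfsg.Agent.H380.RC Cfsg.Agent.H694.RG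
open Cfsg.Agent.H169.RG
open scoped commutatorElement

section Abs

variable {Y : Type*} [Group Y]

theorem mem_map_conj {H : Subgroup Y} {z x : Y} : x ∈ H.map (MulAut.conj z).toMonoidHom ↔ z⁻¹ * x * z ∈ H := by
  constructor
  · rintro ⟨a, ha, rfl⟩
    have e : z⁻¹ * (MulAut.conj z).toMonoidHom a * z = a := by
      show z⁻¹ * (z * a * z⁻¹) * z = a
      group
    rw [e]
    exact ha
  · intro h
    refine ⟨_, h, ?_⟩
    show z * (z⁻¹ * x * z) * z⁻¹ = x
    group

theorem map_conj_normalizer {H : Subgroup Y} {z c : Y} (h : z⁻¹ * c * z ∈ Subgroup.normalizer (H : Set Y)) :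
    c ∈ Subgroup.normalizer (H.map (MulAut.conj z).toMonoidHom : Set Y) := by
  rw [mem_normalizer_iff] at h ⊢
  intro x
  have e : z⁻¹ * (c * x * c⁻¹) * z = z⁻¹ * c * z * (z⁻¹ * x * z) * (z⁻¹ * c * z)⁻¹ := by group
  rw [mem_map_conj, mem_map_conj, e]
  exact h _

theorem cmm_map {U : Subgroup Y} {z t v : Y} (h : v ∈ cmm U t) :
    z * v * z⁻¹ ∈ cmm (U.map (MulAut.conj z).toMonoidHom) (z * t * z⁻¹) := by
  unfold cmm at h ⊢
  have h1 : closure {w | ∃ u ∈ U, w = u * t * u⁻¹ * t⁻¹} ≤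
      (closure {w | ∃ u ∈ U.map (MulAut.conj z).toMonoidHom, w = u * (z * t * z⁻¹) * u⁻¹ * (z * t * z⁻¹)⁻¹}).comap
        (MulAut.conj z).toMonoidHom := by
    rw [closure_le]
    rintro _ ⟨u, hu, rfl⟩
    refine subset_closure ⟨z * u * z⁻¹, ⟨u, hu, rfl⟩, ?_⟩
    show z * (u * t * u⁻¹ * t⁻¹) * z⁻¹ = _
    group
  exact h1 h

/-- quotient by the centre, transported -/
theorem exists_quot {Y : Type} [Group Y] {H : Subgroup Y} [Finite H] (z : Y) (h : NSA (↥H ⧸ Subgroup.center ↥H)) :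
    ∃ (S' : Type) (_ : Group S') (_ : Finite S') (π : ↥(H.map (MulAut.conj z).toMonoidHom) →* S'),
      Function.Surjective π ∧ π.ker ≤ Subgroup.center ↥(H.map (MulAut.conj z).toMonoidHom) ∧ NSA S' := by
  let e : ↥H ≃* ↥(H.map (MulAut.conj z).toMonoidHom) := H.equivMapOfInjective _ (MulAut.conj z).injective
  refine ⟨↥H ⧸ Subgroup.center ↥H, inferInstance, inferInstance,
    (QuotientGroup.mk' (Subgroup.center ↥H)).comp e.symm.toMonoidHom, ?_, ?_, h⟩
  · exact (QuotientGroup.mk'_surjective _).comp e.symm.surjective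
  · intro x hx
    have h1 : e.symm x ∈ Subgroup.center ↥H := (QuotientGroup.eq_one_iff _).1 hx
    rw [Subgroup.mem_center_iff] at h1 ⊢
    intro g
    have h2 := h1 (e.symm g)
    rw [← map_mul, ← map_mul] at h2
    exact e.symm.injective h2

end Abs

variable {D : ChevalleyDatum} {l : ℕ} {M : CoxeterMatrix (Fin l)} {hp : IsType D l M} {r q : ℕ} [hr : Fact r.Prime]
  {K₀ : Type} [Group K₀]

/-- the `r`-elements of `Y ^ σ` -/
theorem mem_range_of_pow (m : MData hp r q K₀) (hrd : ¬ r ∣ m.dd) {x : ↥(D.group (KK r))} (hx : m.σ x = x) {j : ℕ}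
    (hj : x ^ r ^ j = 1) : x ∈ m.ι.range :=
  H469.Exc.mem_of_pow hj (((Nat.Prime.coprime_iff_not_dvd hr.out).2 hrd).symm) (m.pow_dd x hx)

/-- **Useful elements from the toral form.** -/
theorem usY_of_frame (m : MData hp r q K₀) (hrd : ¬ r ∣ m.dd) {y : ↥(D.group (KK r))} (hy1 : y ≠ 1) {ℓ : ℕ}
    (hℓ : ℓ.Prime) (hy3 : y ^ ℓ = 1) (hF : Fr m.ι m.σ) (f : TorForm m y) {Mf : Subgroup ↥(D.group (KK r))}
    (h1 : Mf ≤ fixC f.α f.t) (h2 : ⁅Mf, Mf⁆ = Mf) (h3 : NSA (↥Mf ⧸ Subgroup.center ↥Mf))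
    (h4 : ∀ P : Subgroup ↥(D.group (KK r)), (∀ x ∈ Mf, (∃ j, x ^ r ^ j = 1) → x ∈ P) → Mf ≤ P)
    (h5 : ∀ c ∈ fixC f.α f.t, c ∈ Subgroup.normalizer (Mf : Set ↥(D.group (KK r))))
    (h6 : ∀ z ∈ fixC f.α f.t, (∀ x ∈ Mf, z * x = x * z) → z ∈ Subgroup.zpowers f.t)
    {v : ↥(D.group (KK r))} (hv : v ∈ Mf) (hv1 : v ≠ 1) {U : Subgroup ↥(D.group (KK r))}
    (hU : U ≤ fixedSubgroup f.α) (hUr : ∀ x ∈ U, ∃ j, x ^ r ^ j = 1) (hUv : ∀ x ∈ U, x * v = v * x)
    (hvU : v ∈ cmm U f.t) :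
    UsY m.ι (fixedSubgroup m.σ) r (Mf.map (MulAut.conj f.z).toMonoidHom) y ∧
      ∀ c, m.σ c = c → c * y = y * c →
        c ∈ Subgroup.normalizer (Mf.map (MulAut.conj f.z).toMonoidHom : Set ↥(D.group (KK r))) := by
  have hconj : ∀ {x : ↥(D.group (KK r))}, x ∈ fixC m.σ y → f.z⁻¹ * x * f.z ∈ fixC f.α f.t := fun {x} hx =>
    mem_fixC.2 ⟨(f.fix_iff _).2 (mem_fixC.1 hx).1, (f.comm_iff _).1 (mem_fixC.1 hx).2⟩
  have hback : ∀ {x : ↥(D.group (KK r))}, f.z⁻¹ * x * f.z ∈ fixC f.α f.t → x ∈ fixC m.σ y := fun {x} hx =>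
    mem_fixC.2 ⟨(f.fix_iff _).1 (mem_fixC.1 hx).1, (f.comm_iff _).2 (mem_fixC.1 hx).2⟩
  have hM' : Mf.map (MulAut.conj f.z).toMonoidHom ≤ fixC m.σ y := fun x hx => hback (h1 (mem_map_conj.1 hx))
  have hcen : ∀ x ∈ Mf.map (MulAut.conj f.z).toMonoidHom, y * x = x * y := fun x hx => (mem_fixC.1 (hM' hx)).2.symm
  have hle : Mf.map (MulAut.conj f.z).toMonoidHom ≤ m.ι.range := by
    rw [Subgroup.map_le_iff_le_comap]
    refine h4 _ fun x hx ⟨j, hj⟩ => ?_
    show f.z * x * f.z⁻¹ ∈ m.ι.range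
    refine mem_range_of_pow m hrd ((f.fix_iff' x).2 (mem_fixC.1 (h1 hx)).1) (j := j) ?_
    rw [conj_pow, hj]
    group
  have hnorm : ∀ c, m.σ c = c → c * y = y * c →
      c ∈ Subgroup.normalizer (Mf.map (MulAut.conj f.z).toMonoidHom : Set ↥(D.group (KK r))) := fun c hc hcy =>
    map_conj_normalizer (h5 _ (hconj (mem_fixC.2 ⟨hc, hcy⟩)))
  have hfin : Finite ↥Mf := by
    have := m.fin
    have h7 : Finite ↥(Mf.map (MulAut.conj f.z).toMonoidHom) :=
      Set.Finite.subset (Set.toFinite (fixedSubgroup m.σ : Set ↥(D.group (KK r)))) fun x hx => (mem_fixC.1 (hM' hx)).1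
    exact Finite.of_equiv _
      (Mf.equivMapOfInjective (MulAut.conj f.z).toMonoidHom (MulAut.conj f.z).injective).symm.toEquiv
  refine ⟨⟨hle, fun h => hy1 ?_, ?_, exists_quot f.z h3, ?_, hcen, fun c hc hcy _ => hnorm c hc hcy⟩, hnorm⟩
  · refine hF.cent y fun a => ?_
    exact hcen _ (by rw [h]; exact ⟨a, rfl⟩)
  · rw [← Subgroup.map_commutator, h2]
  · have e := f.eq
    have e' : f.z * f.t * f.z⁻¹ = y := e.symm
    refine deadYAt_one hF hle hℓ hy3 hy1 (fun z hz hzM hzy => ?_) (v := f.z * v * f.z⁻¹) ⟨v, hv, rfl⟩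
      (fun h => hv1 ?_) (U := U.map (MulAut.conj f.z).toMonoidHom) ?_ ?_ ?_
    · obtain ⟨k, hk⟩ := Subgroup.mem_zpowers_iff.1 (h6 (f.z⁻¹ * z * f.z) (hconj (mem_fixC.2 ⟨hz.1, hzy⟩)) fun x hx => by
        have h8 := hzM (f.z * x * f.z⁻¹) ⟨x, hx, rfl⟩
        calc f.z⁻¹ * z * f.z * x = f.z⁻¹ * (z * (f.z * x * f.z⁻¹)) * f.z := by group
          _ = f.z⁻¹ * ((f.z * x * f.z⁻¹) * z) * f.z := by rw [h8]
          _ = x * (f.z⁻¹ * z * f.z) := by group)
      refine Subgroup.mem_zpowers_iff.2 ⟨k, ?_⟩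
      rw [← e', conj_zpow, hk]
      group
    · calc v = f.z⁻¹ * (f.z * v * f.z⁻¹) * f.z := by group
        _ = 1 := by rw [h]; group
    · rintro _ ⟨u, hu, rfl⟩
      obtain ⟨j, hj⟩ := hUr u hu
      refine mem_range_of_pow m hrd ((f.fix_iff' u).2 (hU hu)) (j := j) ?_
      show (f.z * u * f.z⁻¹) ^ r ^ j = 1
      rw [conj_pow, hj]
      group
    · rintro _ ⟨u, hu, rfl⟩
      show (f.z * u * f.z⁻¹) * (f.z * v * f.z⁻¹) = (f.z * v * f.z⁻¹) * (f.z * u * f.z⁻¹)
      calc (f.z * u * f.z⁻¹) * (f.z * v * f.z⁻¹) = f.z * (u * v) * f.z⁻¹ := by group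
        _ = f.z * (v * u) * f.z⁻¹ := by rw [hUv u hu]
        _ = (f.z * v * f.z⁻¹) * (f.z * u * f.z⁻¹) := by group
    · have h9 := cmm_map (z := f.z) hvU
      rwa [e'] at h9

end Cfsg.Agent.H692.RG.FrUs
end

-- part: H76/RG/E8Chk
section
set_option linter.all false
open scoped Cfsg.Agent.FastGrp

/-!
# S3509, `E₈`: the table of the subsets of the extended diagram, computation (helper76)

* `msk f l` : the number whose bits are the values of `f` on the list `l`; `popc` : the number of bits;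
* `W8` : for the positive roots: the support, the complement of the highest root, the non-orthogonal positive roots, is it a
  node of the extended diagram; `W8_eq`;
* `chk J` : for the set of nodes which are not in `J` (bits): at most 13 positive roots, or `A₄A₄`, or the roots with at least seven
  non-orthogonal positive roots are connected; `chk_all`.
-/

set_option autoImplicit false
set_option maxRecDepth 100000

namespace Cfsg.Agent.H76.RG.T8

open Cfsg.Agent.H400.TwoExc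

/-! ### bits -/

section bits

variable {α β : Type*}

/-- the number whose bits are the values of `f` -/
def msk (f : α → Bool) : List α → ℕ
  | [] => 0
  | a :: l => (if f a then 1 else 0) + 2 * msk f l

theorem msk_cons (f : α → Bool) (a : α) (l : List α) : msk f (a :: l) = Nat.bit (f a) (msk f l) := by
  rw [msk, Nat.bit_val]
  cases f a <;> simp [Bool.toNat]
  omega

theorem msk_map (f : β → Bool) (g : α → β) (l : List α) : msk f (l.map g) = msk (fun a => f (g a)) l := by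
  induction l with
  | nil => rfl
  | cons a l ih => rw [List.map_cons, msk, ih, msk]

theorem msk_and (f g : α → Bool) (l : List α) : msk f l &&& msk g l = msk (fun a => f a && g a) l := by
  induction l with
  | nil => simp [msk]
  | cons a l ih => rw [msk_cons, msk_cons, msk_cons, Nat.land_bit, ih]

theorem msk_or (f g : α → Bool) (l : List α) : msk f l ||| msk g l = msk (fun a => f a || g a) l := by
  induction l with
  | nil => simp [msk]
  | cons a l ih => rw [msk_cons, msk_cons, msk_cons, Nat.lor_bit, ih]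

theorem msk_eq_zero {f : α → Bool} {l : List α} : msk f l = 0 ↔ ∀ a ∈ l, f a = false := by
  induction l with
  | nil => simp [msk]
  | cons a l ih =>
    rw [msk, List.forall_mem_cons, ← ih]
    cases f a <;> simp

theorem msk_congr {f g : α → Bool} {l : List α} : msk f l = msk g l ↔ ∀ a ∈ l, f a = g a := by
  induction l with
  | nil => simp [msk]
  | cons a l ih =>
    rw [msk, msk, List.forall_mem_cons, ← ih]
    cases f a <;> cases g a <;> simp <;> omega

theorem msk_lt (f : α → Bool) (l : List α) : msk f l < 2 ^ l.length := by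
  induction l with
  | nil => simp [msk]
  | cons a l ih =>
    rw [msk, List.length_cons, pow_succ]
    cases f a <;> simp <;> omega

/-- the number of bits -/
def popc : ℕ → ℕ → ℕ
  | 0, _ => 0
  | f + 1, n => n % 2 + popc f (n / 2)

theorem popc_msk (f : α → Bool) (l : List α) : popc l.length (msk f l) = l.countP f := by
  induction l with
  | nil => rfl
  | cons a l ih =>
    rw [List.length_cons, popc, msk, List.countP_cons, ← ih]
    cases f a
    · simp
    · have h1 : (1 + 2 * msk f l) % 2 = 1 := by omega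
      have h2 : (1 + 2 * msk f l) / 2 = msk f l := by omega
      simp only [if_true, h1, h2]
      omega

end bits

/-! ### the table -/

/-- the support -/
def pmask (p : List ℤ) : ℕ := msk (fun i => i != 8 && p.getD i 0 != 0) (List.range 9)

/-- the coordinates different from those of the highest root -/
def nmask (p : List ℤ) : ℕ :=
  msk (fun i => i == 8 || p.getD i 0 != ([2, 3, 4, 6, 5, 4, 3, 2] : List ℤ).getD i 0) (List.range 9)

/-- the non-orthogonal positive roots -/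
def amask (p : List ℤ × List ℤ × ℕ) : ℕ := msk (fun q : List ℤ × List ℤ × ℕ => dotL p.2.1 q.1 != 0) PE8

/-- the nodes of the extended diagram -/
def nodes : List (List ℤ) := [[0, 0, 0, 1, 0, 0, 0, 0], [0, 1, 0, 0, 0, 0, 0, 0], [0, 0, 1, 0, 0, 0, 0, 0],
  [0, 0, 0, 0, 1, 0, 0, 0], [1, 0, 0, 0, 0, 0, 0, 0], [0, 0, 0, 0, 0, 1, 0, 0], [0, 0, 0, 0, 0, 0, 1, 0],
  [0, 0, 0, 0, 0, 0, 0, 1], [2, 3, 4, 6, 5, 4, 3, 2]]

/-- the data of a root -/
def wrow (p : List ℤ × List ℤ × ℕ) : ℕ × ℕ × ℕ × Bool := (pmask p.1, nmask p.1, amask p, nodes.contains p.1)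

/-- the table -/
def W8 : List (ℕ × ℕ × ℕ × Bool) := [
  (128, 511, 996927081603488946838082099028787971, true),
  (64, 511, 498509176525670485236496314212222727, true),
  (32, 511, 249457411610028536697223257797857038, true),
  (16, 511, 125539254265910426759337803771657756, true),
  (8, 511, 65959934966715711334767466704501880, true),
  (4, 511, 39058119910274432060773188117625008, true),
  (2, 511, 40564915765960699012151256054380624, true),
  (1, 511, 15565204421653437203575204350283936, true),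
  (192, 511, 830811442881415804587548515972056327, false),
  (96, 511, 415573051452142668166943827420875279, false),
  (48, 511, 208475527125939714911636979323188510, false),
  (24, 511, 106959548069591579062092771310357116, false),
  (12, 511, 58122227092363833571762841212228856, false),
  (10, 511, 59144960808248797810277650475607160, false),
  (5, 511, 28453232287314656473080725125097648, false),
  (224, 511, 747875317936264441945358562312882957, false),
  (112, 511, 374591183721347996433210213152142875, false),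
  (56, 511, 189897900671368617814505264036072822, false),
  (28, 511, 99225787544460834273357745879300844, false),
  (26, 511, 100144594431733759131222291887225452, false),
  (14, 511, 66884143509501402932882246865206504, false),
  (13, 511, 50924784282817539198777322084324568, false),
  (240, 511, 706893452306887235157680858810397977, false),
  (120, 511, 356013817269328562538488291071838835, false),
  (60, 511, 182197415974570437705508548663719398, false),
  (58, 511, 183083076559494829129944720663803238, false),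
  (30, 511, 107987724482207497228096488142177020, false),
  (29, 511, 92880205938267928952433281043065548, false),
  (15, 511, 73316479953609031093921439148371144, false),
  (248, 511, 688316118352978075128391155422775665, false),
  (124, 511, 348317492052159294984570078027920099, false),
  (122, 511, 349199010994522740307257316596347491, false),
  (62, 511, 190959482438301131906557214442130934, false),
  (30, 511, 127052170510266149839967477628272276, false),
  (61, 511, 176059729066816150529446579734734278, false),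
  (31, 511, 115271922129668514441196633036870364, false),
  (252, 511, 680620313070697266471468787301134817, false),
  (250, 511, 681501314314241116743438365692326241, false),
  (126, 511, 357079576352957955638947510442199795, false),
  (62, 511, 210026008208107535118539910288732574, false),
  (125, 511, 342246356800953008250042898806563523, false),
  (63, 511, 198451574784200767264513425024507350, false),
  (31, 511, 137743812971140648267761500901977780, false),
  (254, 511, 689382399607564790972099448041277937, false),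
  (126, 511, 376146362125316022053289683978319515, false),
  (62, 511, 251147317799600675355389274046254986, false),
  (253, 511, 674557496776556129974460038751248833, false),
  (127, 511, 364638220355405591438026950910106323, false),
  (63, 511, 220925545367420651690366873264136638, false),
  (31, 511, 150637263012923727869460936918554148, false),
  (254, 511, 708449217878033131248574482326091161, false),
  (126, 511, 417267688470103312335392992907872399, false),
  (255, 511, 696949362567077576995841901169400273, false),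
  (127, 511, 387112450941177139040528634942334651, false),
  (63, 511, 262898716162267180926182424959426474, false),
  (63, 511, 233852271237536295866238308982544686, false),
  (254, 511, 749570546324237886270641242523847565, false),
  (126, 511, 500241673954446168271123573039646597, false),
  (255, 511, 719423625650959397639194861193504185, false),
  (127, 511, 429085638489317816679034962296019119, false),
  (127, 511, 400043336290921692446977626205740587, false),
  (63, 511, 275929389381603951320079594753943354, false),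
  (254, 511, 832544531936957183440439247406023815, false),
  (255, 511, 761396815300517515120692776362580909, false),
  (127, 511, 512267518672099237574368289990580133, false),
  (255, 511, 732355030935592303558609500985089321, false),
  (127, 511, 442120471188283286859949842073378879, false),
  (63, 511, 298887760950593953756186750099102546, false),
  (254, 511, 998664903727499938037622316382405506, false),
  (255, 511, 844578695611673700836923635855168679, false),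
  (255, 511, 774432167934368149725404288348742461, false),
  (127, 511, 525335627199390463857076024140984117, false),
  (127, 511, 465079102759811442564275807617064023, false),
  (63, 511, 323226569447230428444469618311537474, false),
  (255, 511, 1010765619058710429973938861514265506, false),
  (255, 511, 857647324073748848317961704250600503, false),
  (255, 511, 797390832003797393217366607842844501, false),
  (127, 511, 548296338512234052267403849807565661, false),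
  (127, 511, 489417929092651247917665336939947079, false),
  (255, 511, 1023838406998769335586585722732931890, false),
  (255, 511, 880608067881635533563097915616628831, false),
  (127, 511, 590391202021582702788947173392756041, false),
  (255, 511, 821729660559318153438099282018903877, false),
  (127, 511, 572635294343389543643970063972969293, false),
  (255, 511, 1046799410756506074085306486745503578, false),
  (255, 511, 922702933386771755541868925840404043, false),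
  (255, 511, 904947025748933781367173419049003087, false),
  (127, 511, 614730177944934200433198510578963801, false),
  (255, 511, 1088894292256939957217557668634634574, false),
  (255, 511, 1071138384890477648663308267448348490, false),
  (255, 511, 947041908405402837673592256173971035, false),
  (127, 511, 637691221140780582596774833370622257, false),
  (255, 511, 1172111661997854230553173717107320388, false),
  (255, 511, 1113233259928296331590655606702936414, false),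
  (255, 511, 970002935355470446840752475078355507, false),
  (127, 511, 650764640429597161738619480901456289, false),
  (255, 511, 1196450565148093478189223500887465556, false),
  (255, 511, 1136194156929803229065439025614581046, false),
  (255, 511, 983076094676950735090019982434964131, false),
  (127, 510, 662875457351508437842269728665551233, false),
  (255, 511, 1219410422282449127105827491180634684, false),
  (255, 511, 1149265236513114431553199546859656614, false),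
  (255, 510, 995182752120331164798225282458796675, false),
  (255, 511, 1261496433130100947078538611029400616, false),
  (255, 511, 1232464863951708907740642389844859564, false),
  (255, 510, 1161338618128274888637575015038076294, false),
  (255, 511, 1274498901124753788471239015261349048, false),
  (255, 510, 1244434298217651838537112216029416076, false),
  (255, 511, 1297216557766461672961517234619308240, false),
  (255, 510, 1286042404789020053083061219302143128, false),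
  (255, 509, 1320581979542261900855217022291173568, false),
  (255, 510, 1307056339024021197841211675206879472, false),
  (255, 506, 1317533647023019481837068676366102624, false),
  (255, 508, 1323606871172994464481597345789391072, false),
  (255, 504, 1326295733884190507034676335352105072, false),
  (255, 496, 1328487592007002901641673691192439832, false),
  (255, 480, 1329044101540580135395954530737490444, false),
  (255, 448, 1329184726351021762624532190159045894, false),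
  (255, 384, 1329222587102657973851054133011874307, false),
  (255, 256, 1329227319702352540460950474159325441, true)]

/-- the nodes of the extended diagram: the bit and the neighbours -/
def N8 : List (ℕ × ℕ) := [
  (16, 65959934966715711334767466704501880),
  (64, 40564915765960699012151256054380624),
  (32, 39058119910274432060773188117625008),
  (8, 125539254265910426759337803771657756),
  (128, 15565204421653437203575204350283936),
  (4, 249457411610028536697223257797857038),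
  (2, 498509176525670485236496314212222727),
  (1, 996927081603488946838082099028787971),
  (664613997892457936451903530140172288, 1329227319702352540460950474159325441)]


private noncomputable def _root_.Cfsg.Agent.KOabac04b.k0 : type_of% @Decidable.decide := @(fun x0 x1 => @Decidable.rec.{1} _ @(fun x2 => @Bool) @(fun x2 => @Bool.false) @(fun x2 => @Bool.true) @x1)
private theorem _root_.Cfsg.Agent.KOabac04b.e0 : @Decidable.decide = @_root_.Cfsg.Agent.KOabac04b.k0 := by delta _root_.Cfsg.Agent.KOabac04b.k0; rfl'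
private theorem _root_.Cfsg.Agent.KOabac04b.e1.{ku, kv} {α : Type kv} {M : List α → Sort ku} (φ : ∀ l, M l) {z : M List.nil} {s : ∀ a l, M l → M (List.cons a l)} (h0 : φ List.nil = z) (hs : ∀ a l, φ (List.cons a l) = s a l (φ l)) (l : List α) : φ l = @List.rec α M z s l := List.rec h0 (fun a l ih => (hs a l).trans (congrArg (s a l) ih)) l
private noncomputable def _root_.Cfsg.Agent.KOabac04b.k3.{ku0} : type_of% @List.hasDecEq.{ku0} := @(fun x0 x1 x2 x3 => @List.rec.{(ku0+1), ku0} @x0 @(fun x4 => (x5 : @List.{ku0} @x0) → @Decidable (@Eq.{(ku0+1)} _ @x4 @x5)) @(fun x4 => @List.rec.{1, ku0} @x0 @(fun x5 => @Decidable (@Eq.{(ku0+1)} _ [] @x5)) (@Decidable.isTrue _ (@List.hasDecEq._proof_1.{ku0} _)) @(fun x5 x6 x7 => @Decidable.isFalse _ (@List.hasDecEq._proof_3.{ku0} _ @x5 @x6)) @x4) @(fun x4 x5 x6 x7 => @List.rec.{1, ku0} @x0 @(fun x8 => @Decidable (@Eq.{(ku0+1)} _ (@x4 :: @x5) @x8)) (@Decidable.isFalse _ (@List.hasDecEq._proof_2.{ku0}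 _ @x4 @x5)) @(fun x8 x9 x10 => @Decidable.rec.{1} _ @(fun x11 => @Decidable (@Eq.{(ku0+1)} _ (@x4 :: @x5) (@x8 :: @x9))) @(fun x11 => @Decidable.isFalse _ (@List.hasDecEq._proof_6.{ku0} _ @x4 @x5 @x8 @x9 @x11)) @(fun x11 => @Decidable.rec.{1} _ @(fun x12 => @Decidable (@Eq.{(ku0+1)} _ (@x4 :: @x5) (@x8 :: @x9))) @(fun x12 => @Decidable.isFalse _ (@List.hasDecEq._proof_5.{ku0} _ @x4 @x5 @x8 @x9 @x12)) @(fun x12 => @Decidable.isTrue _ (@List.hasDecEq._proof_4.{ku0} _ @x4 @x5 @x8 @x9 @x11 @x12)) (@x6 @x9)) (@x1 @x4 @x8)) @x7) @x2 @x3)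
private theorem _root_.Cfsg.Agent.KOabac04b.e3.{ku0} : @List.hasDecEq.{ku0} = @_root_.Cfsg.Agent.KOabac04b.k3.{ku0} := by delta _root_.Cfsg.Agent.KOabac04b.k3; funext a0 a1 a2 a3; refine (congrFun (_root_.Cfsg.Agent.KOabac04b.e1 (fun a2 a3 => @List.hasDecEq.{ku0} a0 a1 a2 a3) ?_ (fun c0 c1 => ?_) a2) a3 :) <;> [(funext b0; (cases b0 with | @nil  => (rfl') | @cons b0_0 b0_1 => (rfl'))); (funext b0; (cases b0 with | @nil  => (rfl') | @cons b0_0 b0_1 => (rfl')))]
private noncomputable def _root_.Cfsg.Agent.KOabac04b.k4.{ku0} : type_of% @instDecidableEqList.{ku0} := @(fun x0 x1 x2 x3 => @List.rec.{1, ku0} @x0 @(fun x4 => @Decidable (@Eq.{(ku0+1)} _ @x4 @x3)) (@List.rec.{1, ku0} @x0 @(fun x4 => @Decidable (@Eq.{(ku0+1)} _ [] @x4)) (@Decidable.isTrue _ (@List.hasDecEq._proof_1.{ku0} _)) @(fun x4 x5 x6 => @Decidable.isFalse _ (@List.hasDecEq._proof_3.{ku0} _ @x4 @x5)) @x3) @(fun x4 x5 x6 => @List.rec.{1, ku0} @x0 @(fun x7 => @Decidable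 (@Eq.{(ku0+1)} _ (@x4 :: @x5) @x7)) (@Decidable.isFalse _ (@List.hasDecEq._proof_2.{ku0} _ @x4 @x5)) @(fun x7 x8 x9 => @Decidable.rec.{1} _ @(fun x10 => @Decidable (@Eq.{(ku0+1)} _ (@x4 :: @x5) (@x7 :: @x8))) @(fun x10 => @Decidable.isFalse _ (@List.hasDecEq._proof_6.{ku0} _ @x4 @x5 @x7 @x8 @x10)) @(fun x10 => @Decidable.rec.{1} _ @(fun x11 => @Decidable (@Eq.{(ku0+1)} _ (@x4 :: @x5) (@x7 :: @x8))) @(fun x11 => @Decidable.isFalse _ (@List.hasDecEq._proof_5.{ku0} _ @x4 @x5 @x7 @x8 @x11)) @(fun x11 => @Decidable.isTrue _ (@List.hasDecEq._proof_4.{ku0} _ @x4 @x5 @x7 @x8 @x10 @x11)) (@Cfsg.Agent.KOabac04b.k3.{ku0} _ @x1 @x5 @x8)) (@x1 @x4 @x7)) @x3) @x2)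
private theorem _root_.Cfsg.Agent.KOabac04b.e4.{ku0} : @instDecidableEqList.{ku0} = @_root_.Cfsg.Agent.KOabac04b.k4.{ku0} := by delta _root_.Cfsg.Agent.KOabac04b.k4; rewrite [← Cfsg.Agent.KOabac04b.e3.{ku0}]; rfl'
private noncomputable def _root_.Cfsg.Agent.KOabac04b.k5.{ku0, ku1} : type_of% @instDecidableEqProd.{ku0, ku1} := @(fun x0 x1 x2 x3 x4 x5 => @Prod.rec.{1, ku0, ku1} @x0 @x1 @(fun x6 => @Decidable (@Eq.{(max (ku1+1) (ku0+1))} _ @x6 @x5)) @(fun x6 x7 => @Prod.rec.{1, ku0, ku1} @x0 @x1 @(fun x8 => @Decidable (@Eq.{(max (ku1+1) (ku0+1))} _ ((@x6, @x7)) @x8)) @(fun x8 x9 => @Decidable.rec.{1} _ @(fun x10 => @Decidable (@Eq.{(max (ku1+1) (ku0+1))} _ ((@x6, @x7)) ((@x8, @x9)))) @(fun x10 => @Decidable.isFalse _ (@instDecidableEqProd._proof_3.{ku1, ku0} _ _ @x6 @x7 @x8 @x9 @x10)) @(fun x10 => @Decidable.rec.{1} _ @(fun x11 => @Decidable (@Eq.{(max (ku1+1) (ku0+1))} _ ((@x6, @x7)) ((@x8, @x9)))) @(fun x11 => @Decidable.isFalse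 _ (@instDecidableEqProd._proof_2.{ku1, ku0} _ _ @x6 @x7 @x8 @x9 @x11)) @(fun x11 => @Decidable.isTrue _ (@instDecidableEqProd._proof_1.{ku1, ku0} _ _ @x6 @x7 @x8 @x9 @x10 @x11)) (@x3 @x7 @x9)) (@x2 @x6 @x8)) @x5) @x4)
private theorem _root_.Cfsg.Agent.KOabac04b.e5.{ku0, ku1} : @instDecidableEqProd.{ku0, ku1} = @_root_.Cfsg.Agent.KOabac04b.k5.{ku0, ku1} := by delta _root_.Cfsg.Agent.KOabac04b.k5; rfl'
private noncomputable def _root_.Cfsg.Agent.KOabac04b.k6 : type_of% @Nat.decEq := @(fun x0 x1 => @Bool.rec.{1} @(fun x2 => (@Eq.{1} _ (@Nat.beq @x0 @x1) @x2) → @Decidable (@Eq.{1} _ @x0 @x1)) @(fun x2 => @Decidable.isFalse _ (@Nat.ne_of_beq_eq_false _ _ @x2)) @(fun x2 => @Decidable.isTrue _ (@Nat.eq_of_beq_eq_true _ _ @x2)) (@Nat.beq @x0 @x1) (@Eq.refl.{1} _ (@Nat.beq @x0 @x1)))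
private theorem _root_.Cfsg.Agent.KOabac04b.e6 : @Nat.decEq = @_root_.Cfsg.Agent.KOabac04b.k6 := by delta _root_.Cfsg.Agent.KOabac04b.k6; rfl'
private noncomputable def _root_.Cfsg.Agent.KOabac04b.k7 : type_of% @instDecidableEqNat := @Cfsg.Agent.KOabac04b.k6
private theorem _root_.Cfsg.Agent.KOabac04b.e7 : @instDecidableEqNat = @_root_.Cfsg.Agent.KOabac04b.k7 := by delta _root_.Cfsg.Agent.KOabac04b.k7; rewrite [← Cfsg.Agent.KOabac04b.e6]; rfl'
private noncomputable def _root_.Cfsg.Agent.KOabac04b.k8 : type_of% @Bool.decEq := @(fun x0 x1 => @Bool.rec.{1} @(fun x2 => @Decidable (@Eq.{1} _ @x2 @x1)) (@Bool.rec.{1} @(fun x2 => @Decidable (@Eq.{1} _ @Bool.false @x2)) (@Decidable.isTrue _ (@rfl.{1} _ _)) (@Decidable.isFalse _ @(fun x2 => @Bool.noConfusion.{0} _ _ _ @x2)) @x1) (@Bool.rec.{1} @(fun x2 => @Decidable (@Eq.{1} _ @Bool.true @x2)) (@Decidable.isFalse _ @(fun x2 => @Bool.noConfusion.{0} _ _ _ @x2)) (@Decidable.isTrue _ (@rfl.{1}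 _ _)) @x1) @x0)
private theorem _root_.Cfsg.Agent.KOabac04b.e8 : @Bool.decEq = @_root_.Cfsg.Agent.KOabac04b.k8 := by delta _root_.Cfsg.Agent.KOabac04b.k8; rfl'
private noncomputable def _root_.Cfsg.Agent.KOabac04b.k9 : type_of% @instDecidableEqBool := @Cfsg.Agent.KOabac04b.k8
private theorem _root_.Cfsg.Agent.KOabac04b.e9 : @instDecidableEqBool = @_root_.Cfsg.Agent.KOabac04b.k9 := by delta _root_.Cfsg.Agent.KOabac04b.k9; rewrite [← Cfsg.Agent.KOabac04b.e8]; rfl'
private noncomputable def _root_.Cfsg.Agent.KOabac04b.k10.{ku0, ku1} : type_of% @List.map.{ku0, ku1} := @(fun x0 x1 x2 x3 => @List.rec.{(ku1+1), ku0} @x0 @(fun x4 => @List.{ku1} @x1) [] @(fun x4 x5 x6 => (@x2 @x4) :: @x6) @x3)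
private theorem _root_.Cfsg.Agent.KOabac04b.e10.{ku0, ku1} : @List.map.{ku0, ku1} = @_root_.Cfsg.Agent.KOabac04b.k10.{ku0, ku1} := by delta _root_.Cfsg.Agent.KOabac04b.k10; funext a0 a1 a2 a3; refine (_root_.Cfsg.Agent.KOabac04b.e1 (fun a3 => @List.map.{ku0, ku1} a0 a1 a2 a3) ?_ (fun c0 c1 => ?_) a3 :) <;> (rfl')
private noncomputable def _root_.Cfsg.Agent.KOabac04b.oEq.{ku} (α : Sort ku) (a b : Nat) (f t : α) : α := @Decidable.rec (a = b) (fun _ => α) (fun _ => f) (fun _ => t) (Nat.decEq a b)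
private noncomputable def _root_.Cfsg.Agent.KOabac04b.k11.{ku} (α : Sort ku) (a b : Nat) (f t : α) : α := @Bool.rec (fun _ => α) f t (Nat.beq a b)
private theorem _root_.Cfsg.Agent.KOabac04b.e11.{ku} : @_root_.Cfsg.Agent.KOabac04b.oEq.{ku} = @_root_.Cfsg.Agent.KOabac04b.k11.{ku} := funext fun α => funext fun a => funext fun b => funext fun f => funext fun t => by delta _root_.Cfsg.Agent.KOabac04b.oEq _root_.Cfsg.Agent.KOabac04b.k11; cases h : Nat.beq a b <;> cases Nat.decEq a b <;> rename_i g <;> first | rfl | exact absurd g (Nat.ne_of_beq_eq_false h) | exact absurd (Nat.eq_of_beq_eq_true h) g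
private noncomputable def _root_.Cfsg.Agent.KOabac04b.oB.{ku} (α : Sort ku) (c : Bool) (f t : α) : α := @Decidable.rec (c = true) (fun _ => α) (fun _ => f) (fun _ => t) (instDecidableEqBool c true)
private noncomputable def _root_.Cfsg.Agent.KOabac04b.k12.{ku} (α : Sort ku) (c : Bool) (f t : α) : α := @Bool.rec (fun _ => α) f t c
private theorem _root_.Cfsg.Agent.KOabac04b.e12.{ku} : @_root_.Cfsg.Agent.KOabac04b.oB.{ku} = @_root_.Cfsg.Agent.KOabac04b.k12.{ku} := funext fun α => funext fun c => funext fun f => funext fun t => by cases c <;> rfl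
private noncomputable def _root_.Cfsg.Agent.KOabac04b.k13.{ku0} : (by first | exact type_of% @Cfsg.Agent.H76.RG.T8.msk.{ku0} | exact Unit : Sort _) := by first | (refine @Subtype.val _ (fun g => @Cfsg.Agent.H76.RG.T8.msk.{ku0} = @g) (@Subtype.mk _ _ (@(fun x0 x1 x2 => @List.rec.{1, ku0} @x0 @(fun x3 => ℕ) (nat_lit 0) @(fun x3 x4 x5 => @Nat.add (@Cfsg.Agent.KOabac04b.k12.{1} ℕ (@x1 @x3) (nat_lit 0) (nat_lit 1)) (@Nat.mul (nat_lit 2) @x5)) @x2)) ?_); rewrite [← Cfsg.Agent.KOabac04b.e12.{1}]; funext a0 a1 a2; refine (_root_.Cfsg.Agent.KOabac04b.e1 (fun a2 => @Cfsg.Agent.H76.RG.T8.msk.{ku0} a0 a1 a2) ?_ (fun c0 c1 => ?_) a2 :) <;> (rfl')) | exact @Cfsg.Agent.H76.RG.T8.msk.{ku0} | exact ()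
private theorem _root_.Cfsg.Agent.KOabac04b.e13.{ku0} : (by first | exact @Cfsg.Agent.H76.RG.T8.msk.{ku0} = @_root_.Cfsg.Agent.KOabac04b.k13.{ku0} | exact True : Prop) := by first | (delta _root_.Cfsg.Agent.KOabac04b.k13; exact @Subtype.property _ (fun g => @Cfsg.Agent.H76.RG.T8.msk.{ku0} = @g) _) | rfl | trivial
private noncomputable def _root_.Cfsg.Agent.KOabac04b.k14 : type_of% @Int.decEq := @(fun x0 x1 => @Int.rec.{1} @(fun x2 => @Decidable (@Eq.{1} _ @x2 @x1)) @(fun x2 => @Int.rec.{1} @(fun x3 => @Decidable (@Eq.{1} _ (@Int.ofNat @x2) @x3)) @(fun x3 => @Decidable.rec.{1} _ @(fun x4 => @Decidable (@Eq.{1} _ (@Int.ofNat @x2) (@Int.ofNat @x3))) @(fun x4 => @Decidable.isFalse _ (@Int.decEq._proof_2 @x2 @x3 @x4)) @(fun x4 => @Decidable.isTrue _ (@Int.decEq._proof_1 @x2 @x3 @x4)) (@Cfsg.Agent.KOabac04b.k6 @x2 @x3)) @(fun x3 => @Decidable.isFalse _ (@Int.decEq._proof_3 @x2 @x3)) @x1) @(fun x2 => @Int.rec.{1} @(fun x3 => @Decidable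 (@Eq.{1} _ (@Int.negSucc @x2) @x3)) @(fun x3 => @Decidable.isFalse _ (@Int.decEq._proof_4 @x2 @x3)) @(fun x3 => @Decidable.rec.{1} _ @(fun x4 => @Decidable (@Eq.{1} _ (@Int.negSucc @x2) (@Int.negSucc @x3))) @(fun x4 => @Decidable.isFalse _ (@Int.decEq._proof_6 @x2 @x3 @x4)) @(fun x4 => @Decidable.isTrue _ (@Int.decEq._proof_5 @x2 @x3 @x4)) (@Cfsg.Agent.KOabac04b.k6 @x2 @x3)) @x1) @x0)
private theorem _root_.Cfsg.Agent.KOabac04b.e14 : @Int.decEq = @_root_.Cfsg.Agent.KOabac04b.k14 := by delta _root_.Cfsg.Agent.KOabac04b.k14; rewrite [← Cfsg.Agent.KOabac04b.e6]; rfl'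
private theorem _root_.Cfsg.Agent.KOabac04b.e17.{ku} {M : Nat → Sort ku} (φ : ∀ n, M n) {z : M Nat.zero} {s : ∀ n, M n → M (Nat.succ n)} (h0 : φ Nat.zero = z) (hs : ∀ n, φ (Nat.succ n) = s n (φ n)) (n : Nat) : φ n = @Nat.rec M z s n := Nat.rec h0 (fun n ih => (hs n).trans (congrArg (s n) ih)) n
private noncomputable def _root_.Cfsg.Agent.KOabac04b.k18 : type_of% @List.range.loop := @(fun x0 x1 => @Nat.rec.{1} @(fun x2 => (@List.{0} ℕ) → @List.{0} ℕ) @(fun x2 => @x2) @(fun x2 x3 x4 => @x3 (@x2 :: @x4)) @x0 @x1)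
private theorem _root_.Cfsg.Agent.KOabac04b.e18 : @List.range.loop = @_root_.Cfsg.Agent.KOabac04b.k18 := by delta _root_.Cfsg.Agent.KOabac04b.k18; funext a0 a1; refine (congrFun (_root_.Cfsg.Agent.KOabac04b.e17 (fun a0 a1 => @List.range.loop a0 a1) ?_ (fun c0 => ?_) a0) a1 :) <;> (rfl')
private noncomputable def _root_.Cfsg.Agent.KOabac04b.k19 : (by first | exact type_of% @Cfsg.Agent.H76.RG.T8.pmask | exact Unit : Sort _) := by first | (refine @Subtype.val _ (fun g => @Cfsg.Agent.H76.RG.T8.pmask = @g) (@Subtype.mk _ _ (@(fun x0 => @Cfsg.Agent.KOabac04b.k13.{0} _ @(fun x1 => @Bool.rec.{1} @(fun x2 => @Bool) @Bool.false (@Bool.rec.{1} @(fun x2 => @Bool) @Bool.true @Bool.false (@Decidable.rec.{1} _ @(fun x2 => @Bool) @(fun x2 => @Bool.false) @(fun x2 => @Bool.true) (@Cfsg.Agent.KOabac04b.k14 (@Option.rec.{1, 0} ℤ @(fun x2 => ℤ) (@Int.ofNat (nat_lit 0)) @(fun x2 => @x2) (@List.get?Internal.{0} _ @x0 @x1)) (@Int.ofNat (nat_lit 0)))))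 (@Bool.rec.{1} @(fun x2 => @Bool) @Bool.true @Bool.false (@Cfsg.Agent.KOabac04b.k11.{1} @Bool @x1 (nat_lit 8) @Bool.false @Bool.true))) (@Cfsg.Agent.KOabac04b.k18 (nat_lit 9) []))) ?_); rewrite [← Cfsg.Agent.KOabac04b.e18, ← Cfsg.Agent.KOabac04b.e11.{1}, ← Cfsg.Agent.KOabac04b.e14, ← Cfsg.Agent.KOabac04b.e13.{0}]; (try delta Cfsg.Agent.H76.RG.T8.pmask); (try generalize @Cfsg.Agent.H76.RG.T8.msk.{0} = g0); rfl') | exact @Cfsg.Agent.H76.RG.T8.pmask | exact ()
private theorem _root_.Cfsg.Agent.KOabac04b.e19 : (by first | exact @Cfsg.Agent.H76.RG.T8.pmask = @_root_.Cfsg.Agent.KOabac04b.k19 | exact True : Prop) := by first | (delta _root_.Cfsg.Agent.KOabac04b.k19; exact @Subtype.property _ (fun g => @Cfsg.Agent.H76.RG.T8.pmask = @g) _) | rfl | trivial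
private noncomputable def _root_.Cfsg.Agent.KOabac04b.k20 : (by first | exact type_of% @Cfsg.Agent.H76.RG.T8.nmask | exact Unit : Sort _) := by first | (refine @Subtype.val _ (fun g => @Cfsg.Agent.H76.RG.T8.nmask = @g) (@Subtype.mk _ _ (@(fun x0 => @Cfsg.Agent.KOabac04b.k13.{0} _ @(fun x1 => @Bool.rec.{1} @(fun x2 => @Bool) (@Bool.rec.{1} @(fun x2 => @Bool) @Bool.true @Bool.false (@Decidable.rec.{1} _ @(fun x2 => @Bool) @(fun x2 => @Bool.false) @(fun x2 => @Bool.true) (@Cfsg.Agent.KOabac04b.k14 (@Option.rec.{1, 0} ℤ @(fun x2 => ℤ) (@Int.ofNat (nat_lit 0)) @(fun x2 => @x2) (@List.get?Internal.{0} _ @x0 @x1)) (@Option.rec.{1, 0} ℤ @(fun x2 => ℤ) (@Int.ofNat (nat_lit 0)) @(fun x2 => @x2) (@List.get?Internal.{0} _ ((@Int.ofNat (nat_lit 2)) :: ((@Int.ofNat (nat_lit 3)) :: ((@Int.ofNat (nat_lit 4)) :: ((@Int.ofNat (nat_lit 6)) :: ((@Int.ofNat (nat_lit 5)) :: ((@Int.ofNat (nat_lit 4)) :: ((@Int.ofNat (nat_lit 3)) :: ((@Int.ofNat (nat_lit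 2)) :: [])))))))) @x1))))) @Bool.true (@Cfsg.Agent.KOabac04b.k11.{1} @Bool @x1 (nat_lit 8) @Bool.false @Bool.true)) (@Cfsg.Agent.KOabac04b.k18 (nat_lit 9) []))) ?_); rewrite [← Cfsg.Agent.KOabac04b.e18, ← Cfsg.Agent.KOabac04b.e11.{1}, ← Cfsg.Agent.KOabac04b.e14, ← Cfsg.Agent.KOabac04b.e13.{0}]; (try delta Cfsg.Agent.H76.RG.T8.nmask); (try generalize @Cfsg.Agent.H76.RG.T8.msk.{0} = g0); rfl') | exact @Cfsg.Agent.H76.RG.T8.nmask | exact ()
private theorem _root_.Cfsg.Agent.KOabac04b.e20 : (by first | exact @Cfsg.Agent.H76.RG.T8.nmask = @_root_.Cfsg.Agent.KOabac04b.k20 | exact True : Prop) := by first | (delta _root_.Cfsg.Agent.KOabac04b.k20; exact @Subtype.property _ (fun g => @Cfsg.Agent.H76.RG.T8.nmask = @g) _) | rfl | trivial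
private noncomputable def _root_.Cfsg.Agent.KOabac04b.k21 : type_of% @Int.add := @(fun x0 x1 => @Int.rec.{1} @(fun x2 => ℤ) @(fun x2 => @Int.rec.{1} @(fun x3 => ℤ) @(fun x3 => @Int.ofNat (@Nat.add @x2 @x3)) @(fun x3 => @Nat.rec.{1} @(fun x4 => ℤ) (@Int.ofNat (@Nat.sub @x2 (@Nat.succ @x3))) @(fun x4 x5 => @Int.negSucc @x4) (@Nat.sub (@Nat.succ @x3) @x2)) @x1) @(fun x2 => @Int.rec.{1} @(fun x3 => ℤ) @(fun x3 => @Nat.rec.{1} @(fun x4 => ℤ) (@Int.ofNat (@Nat.sub @x3 (@Nat.succ @x2))) @(fun x4 x5 => @Int.negSucc @x4) (@Nat.sub (@Nat.succ @x2) @x3)) @(fun x3 => @Int.negSucc (@Nat.succ (@Nat.add @x2 @x3))) @x1) @x0)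
private theorem _root_.Cfsg.Agent.KOabac04b.e21 : @Int.add = @_root_.Cfsg.Agent.KOabac04b.k21 := by delta _root_.Cfsg.Agent.KOabac04b.k21; rfl'
private noncomputable def _root_.Cfsg.Agent.KOabac04b.k22 : type_of% @Int.mul := @(fun x0 x1 => @Int.rec.{1} @(fun x2 => ℤ) @(fun x2 => @Int.rec.{1} @(fun x3 => ℤ) @(fun x3 => @Int.ofNat (@Nat.mul @x2 @x3)) @(fun x3 => @Nat.rec.{1} @(fun x4 => ℤ) (@Int.ofNat (nat_lit 0)) @(fun x4 x5 => @Int.negSucc @x4) (@Nat.mul @x2 (@Nat.succ @x3))) @x1) @(fun x2 => @Int.rec.{1} @(fun x3 => ℤ) @(fun x3 => @Nat.rec.{1} @(fun x4 => ℤ) (@Int.ofNat (nat_lit 0)) @(fun x4 x5 => @Int.negSucc @x4) (@Nat.mul (@Nat.succ @x2) @x3)) @(fun x3 => @Int.ofNat (@Nat.mul (@Nat.succ @x2) (@Nat.succ @x3))) @x1) @x0)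
private theorem _root_.Cfsg.Agent.KOabac04b.e22 : @Int.mul = @_root_.Cfsg.Agent.KOabac04b.k22 := by delta _root_.Cfsg.Agent.KOabac04b.k22; rfl'
private noncomputable def _root_.Cfsg.Agent.KOabac04b.k24 : (by first | exact type_of% @Cfsg.Agent.H400.TwoExc.dotL | exact Unit : Sort _) := by first | (refine @Subtype.val _ (fun g => @Cfsg.Agent.H400.TwoExc.dotL = @g) (@Subtype.mk _ _ (@(fun x0 x1 => @List.rec.{1, 0} ℤ @(fun x2 => (@List.{0} ℤ) → ℤ) @(fun x2 => @Int.ofNat (nat_lit 0)) @(fun x2 x3 x4 x5 => @List.rec.{1, 0} ℤ @(fun x6 => ((@Nat.hasNotBit (nat_lit 2) (@List.ctorIdx.{0} _ @x6)) → ℤ) → ℤ) @(fun x6 => @x6 (@Nat.ne_of_beq_eq_false _ _ (@Eq.refl.{1} _ @Bool.false))) @(fun x6 x7 x8 x9 => @Cfsg.Agent.KOabac04b.k21 (@Cfsg.Agent.KOabac04b.k22 @x2 @x6) (@x4 @x7)) @x5 @(fun x6 => @Int.ofNat (nat_lit 0))) @x0 @x1)) ?_); rewrite [← Cfsg.Agent.KOabac04b.e22, ← Cfsg.Agent.KOabac04b.e21]; funext a0 a1; refine (congrFun (_root_.Cfsg.Agent.KOabac04b.e1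 (fun a0 a1 => @Cfsg.Agent.H400.TwoExc.dotL a0 a1) ?_ (fun c0 c1 => ?_) a0) a1 :) <;> [(funext b0; (rfl')); (funext b0; (cases b0 with | @nil  => (rfl') | @cons b0_0 b0_1 => (rfl')))]) | exact @Cfsg.Agent.H400.TwoExc.dotL | exact ()
private theorem _root_.Cfsg.Agent.KOabac04b.e24 : (by first | exact @Cfsg.Agent.H400.TwoExc.dotL = @_root_.Cfsg.Agent.KOabac04b.k24 | exact True : Prop) := by first | (delta _root_.Cfsg.Agent.KOabac04b.k24; exact @Subtype.property _ (fun g => @Cfsg.Agent.H400.TwoExc.dotL = @g) _) | rfl | trivial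
private noncomputable def _root_.Cfsg.Agent.KOabac04b.k25 : (by first | exact type_of% @Cfsg.Agent.H76.RG.T8.amask | exact Unit : Sort _) := by first | (refine @Subtype.val _ (fun g => @Cfsg.Agent.H76.RG.T8.amask = @g) (@Subtype.mk _ _ (@(fun x0 => @Cfsg.Agent.KOabac04b.k13.{0} _ @(fun x1 => @Bool.rec.{1} @(fun x2 => @Bool) @Bool.true @Bool.false (@Decidable.rec.{1} _ @(fun x2 => @Bool) @(fun x2 => @Bool.false) @(fun x2 => @Bool.true) (@Cfsg.Agent.KOabac04b.k14 (@Cfsg.Agent.KOabac04b.k24 (@Prod.fst.{0, 0} _ _ (@Prod.snd.{0, 0} _ _ @x0)) (@Prod.fst.{0, 0} _ _ @x1)) (@Int.ofNat (nat_lit 0))))) @Cfsg.Agent.H400.TwoExc.PE8)) ?_); rewrite [← Cfsg.Agent.KOabac04b.e24, ← Cfsg.Agent.KOabac04b.e14, ← Cfsg.Agent.KOabac04b.e13.{0}]; (try delta Cfsg.Agent.H76.RG.T8.amask); (try generalize @Cfsg.Agent.H76.RG.T8.msk.{0} = g0); (try generalize @Cfsg.Agent.H400.TwoExc.dotL = g1); (try generalize @Cfsg.Agent.H400.TwoExc.PE8 = g2); rfl') | exact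 @Cfsg.Agent.H76.RG.T8.amask | exact ()
private theorem _root_.Cfsg.Agent.KOabac04b.e25 : (by first | exact @Cfsg.Agent.H76.RG.T8.amask = @_root_.Cfsg.Agent.KOabac04b.k25 | exact True : Prop) := by first | (delta _root_.Cfsg.Agent.KOabac04b.k25; exact @Subtype.property _ (fun g => @Cfsg.Agent.H76.RG.T8.amask = @g) _) | rfl | trivial
private noncomputable def _root_.Cfsg.Agent.KOabac04b.k26.{ku0} : type_of% @List.elem.{ku0} := @(fun x0 x1 x2 x3 => @List.rec.{1, ku0} @x0 @(fun x4 => @Bool) @Bool.false @(fun x4 x5 x6 => @Bool.rec.{1} @(fun x7 => @Bool) @x6 @Bool.true (@BEq.beq.{ku0} _ @x1 @x2 @x4)) @x3)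
private theorem _root_.Cfsg.Agent.KOabac04b.e26.{ku0} : @List.elem.{ku0} = @_root_.Cfsg.Agent.KOabac04b.k26.{ku0} := by delta _root_.Cfsg.Agent.KOabac04b.k26; funext a0 a1 a2 a3; refine (_root_.Cfsg.Agent.KOabac04b.e1 (fun a3 => @List.elem.{ku0} a0 a1 a2 a3) ?_ (fun c0 c1 => ?_) a3 :) <;> (rfl')
private noncomputable def _root_.Cfsg.Agent.KOabac04b.k28.{ku0} : type_of% @List.beq.{ku0} := @(fun x0 x1 x2 x3 => @List.rec.{(ku0+1), ku0} @x0 @(fun x4 => (@List.{ku0} @x0) → @Bool) @(fun x4 => @List.rec.{1, ku0} @x0 @(fun x5 => @Bool) @Bool.true @(fun x5 x6 x7 => @Bool.false) @x4) @(fun x4 x5 x6 x7 => @List.rec.{1, ku0} @x0 @(fun x8 => @Bool) @Bool.false @(fun x8 x9 x10 => @Bool.rec.{1} @(fun x11 => @Bool) @Bool.false (@x6 @x9) (@BEq.beq.{ku0} _ @x1 @x4 @x8)) @x7) @x2 @x3)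
private theorem _root_.Cfsg.Agent.KOabac04b.e28.{ku0} : @List.beq.{ku0} = @_root_.Cfsg.Agent.KOabac04b.k28.{ku0} := by delta _root_.Cfsg.Agent.KOabac04b.k28; funext a0 a1 a2 a3; refine (congrFun (_root_.Cfsg.Agent.KOabac04b.e1 (fun a2 a3 => @List.beq.{ku0} a0 a1 a2 a3) ?_ (fun c0 c1 => ?_) a2) a3 :) <;> [(funext b0; (cases b0 with | @nil  => (rfl') | @cons b0_0 b0_1 => (rfl'))); (funext b0; (cases b0 with | @nil  => (rfl') | @cons b0_0 b0_1 => (rfl')))]
private noncomputable def _root_.Cfsg.Agent.KOabac04b.k29 : (by first | exact type_of% @Cfsg.Agent.H76.RG.T8.wrow | exact Unit : Sort _) := by first | (refine @Subtype.val _ (fun g => @Cfsg.Agent.H76.RG.T8.wrow = @g) (@Subtype.mk _ _ (@(fun x0 => (@Cfsg.Agent.KOabac04b.k19 (@Prod.fst.{0, 0} _ _ @x0), (@Cfsg.Agent.KOabac04b.k20 (@Prod.fst.{0, 0} _ _ @x0), (@Cfsg.Agent.KOabac04b.k25 @x0, @Cfsg.Agent.KOabac04b.k26.{0} _ (@BEq.mk.{0} _ (@Cfsg.Agent.KOabac04b.k28.{0} _ (@BEq.mk.{0} _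 @(fun x1 x2 => @Decidable.rec.{1} _ @(fun x3 => @Bool) @(fun x3 => @Bool.false) @(fun x3 => @Bool.true) (@Cfsg.Agent.KOabac04b.k14 @x1 @x2))))) (@Prod.fst.{0, 0} _ _ @x0) @Cfsg.Agent.H76.RG.T8.nodes))))) ?_); rewrite [← Cfsg.Agent.KOabac04b.e14, ← Cfsg.Agent.KOabac04b.e28.{0}, ← Cfsg.Agent.KOabac04b.e26.{0}, ← Cfsg.Agent.KOabac04b.e25, ← Cfsg.Agent.KOabac04b.e20, ← Cfsg.Agent.KOabac04b.e19]; (try delta Cfsg.Agent.H76.RG.T8.wrow); (try generalize @Cfsg.Agent.H76.RG.T8.pmask = g0); (try generalize @Cfsg.Agent.H76.RG.T8.nmask = g1); (try generalize @Cfsg.Agent.H76.RG.T8.amask = g2); (try generalize @Cfsg.Agent.H76.RG.T8.nodes = g3); rfl') | exact @Cfsg.Agent.H76.RG.T8.wrow | exact ()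
private theorem _root_.Cfsg.Agent.KOabac04b.e29 : (by first | exact @Cfsg.Agent.H76.RG.T8.wrow = @_root_.Cfsg.Agent.KOabac04b.k29 | exact True : Prop) := by first | (delta _root_.Cfsg.Agent.KOabac04b.k29; exact @Subtype.property _ (fun g => @Cfsg.Agent.H76.RG.T8.wrow = @g) _) | rfl | trivial

theorem W8_eq : W8 = PE8.map wrow := by (first | (refine of_decide_eq_true ?_; rewrite [Cfsg.Agent.KOabac04b.e0, Cfsg.Agent.KOabac04b.e4.{0}, Cfsg.Agent.KOabac04b.e5.{0, 0}, Cfsg.Agent.KOabac04b.e7, Cfsg.Agent.KOabac04b.e9, Cfsg.Agent.KOabac04b.e10.{0, 0}, Cfsg.Agent.KOabac04b.e29]; decide +kernel) | decide +kernel)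

/-- the rows of the nodes -/
def NR : List (List ℤ × List ℤ × ℕ) := nodes.filterMap fun v => PE8.find? fun q => q.1 == v

theorem NR_spec : (NR.map fun p => p.1) = nodes ∧ ∀ p ∈ NR, p ∈ PE8 := by decide +kernel

theorem N8_eq : N8 = NR.map fun p => (msk (fun q : List ℤ × List ℤ × ℕ => q.1 == p.1) PE8, amask p) := by decide +kernel

theorem len8 : PE8.length = 120 := by decide +kernel

/-! ### the check -/

/-- is the root in `Φ_J`? -/
def inJ (J : ℕ) (w : ℕ × ℕ × ℕ × Bool) : Bool := Nat.land w.1 J == 0 || Nat.land w.2.1 J == 0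

/-- the connectedness of the nodes in `B` -/
def okc (B : ℕ) : List (ℕ × ℕ) → ℕ → Bool
  | [], acc => acc == B
  | x :: l, acc =>
    if Nat.land x.1 B == 0 then okc B l acc
    else (acc == 0 || Nat.land x.2 acc != 0) && okc B l (Nat.lor acc x.1)

/-- the check for a big component -/
def chkB (J P B : ℕ) : Bool :=
  B != 0 && okc B N8 0 &&
  W8.all (fun w => !inJ J w || (Nat.land w.2.2.1 B != 0 || Nat.ble (popc 120 (Nat.land w.2.2.1 P)) 6)) &&
  Nat.ble 10 (popc 120 (msk (fun w => inJ J w && Nat.land w.2.2.1 B != 0) W8))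

/-- the check -/
def chk (J : ℕ) : Bool :=
  let P := msk (inJ J) W8
  let n := popc 120 P
  Nat.ble n 13 || (J == 16 && n == 20) ||
    chkB J P (msk (fun w => w.2.2.2 && (inJ J w && Nat.ble 7 (popc 120 (Nat.land w.2.2.1 P)))) W8)

/-- `0x0101..01` -/
private def mk (k : ℕ) : ℕ := Nat.rec (motive := fun _ => ℕ) 0 (fun _ ih => 1 + 256 * ih) k

private theorem land_mk (y m : ℕ) : y &&& (1 + 256 * m) = y % 2 + 256 * ((y / 256) &&& m) := by
  have h1 : (y &&& (1 + 256 * m)) / 2 ^ 8 = y / 2 ^ 8 &&& (1 + 256 * m) / 2 ^ 8 := Nat.and_div_two_pow ..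
  have h2 : (y &&& (1 + 256 * m)) % 2 ^ 8 = y % 2 ^ 8 &&& (1 + 256 * m) % 2 ^ 8 := Nat.and_mod_two_pow ..
  rw [show (1 + 256 * m) / 2 ^ 8 = m by omega] at h1
  rw [show (1 + 256 * m) % 2 ^ 8 = 1 by omega, Nat.and_one_is_mod] at h2
  rw [show (256 : ℕ) = 2 ^ 8 from rfl] at *
  omega

private def lanes (m x : ℕ) : ℕ :=
  (x &&& m) + ((x / 2 &&& m) + ((x / 4 &&& m) + ((x / 8 &&& m) + ((x / 16 &&& m) + ((x / 32 &&& m) + ((x / 64 &&& m) + (x / 128 &&& m)))))))

private theorem lanes_popc (k x : ℕ) : lanes (mk k) x % 255 = popc (8 * k) x % 255 ∧ popc (8 * k) x ≤ 8 * k := by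
  induction k generalizing x with
  | zero => exact ⟨by simp only [lanes, mk, Nat.rec_zero, Nat.and_zero]; rfl, le_rfl⟩
  | succ k ih =>
    have e : popc (8 * (k + 1)) x = x % 2 + (x / 2 % 2 + (x / 2 / 2 % 2 + (x / 2 / 2 / 2 % 2 + (x / 2 / 2 / 2 / 2 % 2 + (x / 2 / 2 / 2 / 2 / 2 % 2 +
        (x / 2 / 2 / 2 / 2 / 2 / 2 % 2 + (x / 2 / 2 / 2 / 2 / 2 / 2 / 2 % 2 + popc (8 * k) (x / 2 / 2 / 2 / 2 / 2 / 2 / 2 / 2)))))))) := rfl
    have e2 : mk (k + 1) = 1 + 256 * mk k := rfl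
    obtain ⟨i1, i2⟩ := ih (x / 256)
    simp only [Nat.div_div_eq_div_mul, Nat.reduceMul] at e
    rw [e, e2]
    unfold lanes at i1 ⊢
    simp only [land_mk, Nat.div_div_eq_div_mul, Nat.reduceMul] at i1 ⊢
    omega

private def pF (x : ℕ) : ℕ := Nat.mod (Nat.add (Nat.land x 0x10101010101010101010101010101) (Nat.add (Nat.land (Nat.shiftRight x 1) 0x10101010101010101010101010101) (Nat.add (Nat.land (Nat.shiftRight x 2) 0x10101010101010101010101010101) (Nat.add (Nat.land (Nat.shiftRight x 3) 0x10101010101010101010101010101) (Nat.add (Nat.land (Nat.shiftRight x 4) 0x10101010101010101010101010101) (Nat.add (Nat.land (Nat.shiftRight x 5) 0x10101010101010101010101010101) (Nat.add (Nat.land (Nat.shiftRight x 6) 0x10101010101010101010101010101) (Nat.land (Nat.shiftRight x 7) 0x10101010101010101010101010101)))))))) 255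

private theorem popc_pF : popc 120 = pF := by
  funext x
  obtain ⟨h1, h2⟩ := lanes_popc 15 x
  have e : pF x = lanes (mk 15) x % 255 := by
    rw [show mk 15 = 0x10101010101010101010101010101 from by decide]
    unfold lanes
    rw [show x / 2 = x >>> 1 from (Nat.shiftRight_eq_div_pow x 1).symm, show x / 4 = x >>> 2 from (Nat.shiftRight_eq_div_pow x 2).symm,
      show x / 8 = x >>> 3 from (Nat.shiftRight_eq_div_pow x 3).symm, show x / 16 = x >>> 4 from (Nat.shiftRight_eq_div_pow x 4).symm,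
      show x / 32 = x >>> 5 from (Nat.shiftRight_eq_div_pow x 5).symm, show x / 64 = x >>> 6 from (Nat.shiftRight_eq_div_pow x 6).symm,
      show x / 128 = x >>> 7 from (Nat.shiftRight_eq_div_pow x 7).symm]
    rfl
  rw [e, h1]
  exact (Nat.mod_eq_of_lt (lt_of_le_of_lt h2 (by decide))).symm


private noncomputable def mskR {α : Type} (f : α → Bool) (l : List α) : ℕ :=
  List.rec (motive := fun _ => ℕ) 0
    (fun a _ ih => Bool.rec (motive := fun _ => ℕ) (Nat.mul 2 ih) (Nat.succ (Nat.mul 2 ih)) (f a)) l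

private theorem msk_R {α : Type} (f : α → Bool) (l : List α) : msk f l = mskR f l := by
  induction l with
  | nil => rfl
  | cons a l ih =>
    show (if f a then 1 else 0) + 2 * msk f l =
      Bool.rec (motive := fun _ => ℕ) (Nat.mul 2 (mskR f l)) (Nat.succ (Nat.mul 2 (mskR f l))) (f a)
    rw [ih]
    cases f a
    · exact Nat.zero_add _
    · exact Nat.add_comm _ _

private noncomputable def allR {α : Type} (l : List α) (f : α → Bool) : Bool :=
  List.rec (motive := fun _ => Bool) true (fun a _ ih => Bool.rec (motive := fun _ => Bool) false ih (f a)) l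

private theorem all_R {α : Type} (l : List α) (f : α → Bool) : l.all f = allR l f := by
  induction l with
  | nil => rfl
  | cons a l ih =>
    show (f a && l.all f) = Bool.rec (motive := fun _ => Bool) false (allR l f) (f a)
    rw [ih]
    cases f a <;> rfl

private theorem beq_R (a b : ℕ) : (a == b) = Nat.beq a b := by
  rw [Bool.eq_iff_iff, beq_iff_eq, Nat.beq_eq]

private noncomputable def orR (a b : Bool) : Bool := Bool.rec (motive := fun _ => Bool) b true a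
private noncomputable def andR (a b : Bool) : Bool := Bool.rec (motive := fun _ => Bool) false b a
private noncomputable def notR (a : Bool) : Bool := Bool.rec (motive := fun _ => Bool) true false a
private theorem or_R (a b : Bool) : (a || b) = orR a b := by cases a <;> rfl
private theorem and_R (a b : Bool) : (a && b) = andR a b := by cases a <;> rfl
private theorem not_R (a : Bool) : (!a) = notR a := by cases a <;> rfl

private noncomputable def inF (J : ℕ) (w : ℕ × ℕ × ℕ × Bool) : Bool :=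
  Bool.rec (motive := fun _ => Bool) (Nat.beq (Nat.land w.2.1 J) 0) true (Nat.beq (Nat.land w.1 J) 0)

private noncomputable def chkF (J : ℕ) : Bool :=
  (fun P => orR (orR (Nat.ble (pF P) 13) (andR (Nat.beq J 16) (Nat.beq (pF P) 20)))
    ((fun B => andR (andR (andR (notR (Nat.beq B 0)) (okc B N8 0))
      (allR W8 fun w => orR (notR (inF J w)) (orR (notR (Nat.beq (Nat.land w.2.2.1 B) 0)) (Nat.ble (pF (Nat.land w.2.2.1 P)) 6))))
      (Nat.ble 10 (pF (mskR (fun w => andR (inF J w) (notR (Nat.beq (Nat.land w.2.2.1 B) 0))) W8))))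
      (mskR (fun w => andR w.2.2.2 (andR (inF J w) (Nat.ble 7 (pF (Nat.land w.2.2.1 P))))) W8))) (mskR (inF J) W8)

private theorem chk_F (J : ℕ) : chk J = chkF J := by
  have e : inJ = inF := by
    funext J w
    delta inJ inF
    rw [beq_R, beq_R, or_R]
    rfl
  delta chk chkB chkF bne
  simp only [e, popc_pF, msk_R, all_R, beq_R, or_R, and_R, not_R]

private noncomputable def allF (n : ℕ) : Bool :=
  Nat.rec (motive := fun _ => Bool) true (fun i ih => Bool.rec (motive := fun _ => Bool) false ih (chkF (Nat.succ i))) n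

private theorem allF_spec {n : ℕ} (h : allF n = true) : ∀ i < n, chkF (i + 1) = true := by
  induction n with
  | zero => exact fun _ h => absurd h (Nat.not_lt_zero _)
  | succ n ih =>
    have h1 : Bool.rec (motive := fun _ => Bool) false (allF n) (chkF (n + 1)) = true := h
    cases e : chkF (n + 1)
    · rw [e] at h1
      exact absurd h1 Bool.false_ne_true
    · rw [e] at h1
      intro i hi
      rcases Nat.lt_succ_iff_lt_or_eq.1 hi with h2 | rfl
      exacts [ih h1 i h2, e]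

theorem chk_all : ∀ J : Fin 512, J ≠ 0 → chk J = true := fun J hJ => by
  have h0 : J.1 ≠ 0 := fun h => hJ (Fin.ext h)
  have h1 := allF_spec (n := 511) (by decide +kernel) (J.1 - 1) (by have := J.2; omega)
  rw [show J.1 - 1 + 1 = J.1 by omega] at h1
  rw [chk_F]
  exact h1

end Cfsg.Agent.H76.RG.T8

private theorem dce_1914fc1707c9 : _root_.True := by
  try have : _root_.True := by simp only [_root_.Cfsg.Agent.H76.RG.T8.msk.eq_1]
  try have : _root_.True := by simp only [_root_.Cfsg.Agent.H76.RG.T8.msk.eq_def]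
  try have : _root_.True := by simp only [_root_.Cfsg.Agent.H76.RG.T8.popc.eq_def]
  try have : _root_.True := by simp only [_root_.Cfsg.Agent.H76.RG.T8.msk.eq_2]
  try have : _root_.True := by simp only [_root_.Cfsg.Agent.H76.RG.T8.popc.eq_2]
  try have : _root_.True := by simp only [_root_.Cfsg.Agent.H76.RG.T8.popc.eq_1]
  exact _root_.True.intro
end

-- part: H147/RG/JOne
section
set_option linter.all false
open scoped Cfsg.Agent.FastGrp

/-!
# S3509, row `J1` (helper147)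

The pairs of commuting elements of orders (2, 3), (2, 5) are reduced to (3, 5); there the two classes are too small:
`|C(a)| + |C(b)| = 60`, and proper subgroups have index at least 61 (order engine).
-/

set_option autoImplicit false

namespace Cfsg.Agent.H147.RG

open Subgroup Cfsg.Agent.H106.RC Cfsg.Agent.H916.RG

section Count

variable {A : Type*} [Group A]

theorem card_conj_le [Finite A] (H : Subgroup A) (a : A) :
    Nat.card {s : A // s * a * s⁻¹ ∈ H} ≤ Nat.card H * Nat.card (centralizer ({a} : Set A)) := by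
  classical
  rw [← Nat.card_prod]
  let f : {s : A // s * a * s⁻¹ ∈ H} → H := fun s => ⟨s.1 * a * s.1⁻¹, s.2⟩
  let r : H → A := fun h => if hh : ∃ s, f s = h then (hh.choose : {s : A // s * a * s⁻¹ ∈ H}).1 else 1
  have hr : ∀ s, r (f s) * a * (r (f s))⁻¹ = s.1 * a * s.1⁻¹ := by
    intro s
    have hh : ∃ s', f s' = f s := ⟨s, rfl⟩
    have h1 := hh.choose_spec
    have h2 : r (f s) = hh.choose.1 := dif_pos hh
    rw [h2]
    exact congrArg Subtype.val h1
  have hc : ∀ s : {s : A // s * a * s⁻¹ ∈ H}, (r (f s))⁻¹ * s.1 ∈ centralizer ({a} : Set A) := by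
    intro s
    rw [mem_centralizer_singleton_iff]
    have := hr s
    calc (r (f s))⁻¹ * s.1 * a = (r (f s))⁻¹ * (s.1 * a * s.1⁻¹) * s.1 := by group
      _ = (r (f s))⁻¹ * (r (f s) * a * (r (f s))⁻¹) * s.1 := by rw [this]
      _ = a * ((r (f s))⁻¹ * s.1) := by group
  refine Nat.card_le_card_of_injective
    (fun s => ((f s, ⟨(r (f s))⁻¹ * s.1, hc s⟩) : H × centralizer ({a} : Set A))) ?_
  intro s t h
  have h1 : f s = f t := congrArg Prod.fst h
  have h2 : (r (f s))⁻¹ * s.1 = (r (f t))⁻¹ * t.1 := congrArg (fun p => (p.2 : A)) h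
  rw [h1] at h2
  exact Subtype.ext (mul_left_cancel h2)

/-- **the counting certificate** -/
theorem dead_of_count [Finite A] {a b : A} {c : ℕ}
    (hc : Nat.card (centralizer ({a} : Set A)) + Nat.card (centralizer ({b} : Set A)) ≤ c)
    (h : ∀ H : Subgroup A, H ≠ ⊤ → c * Nat.card H < Nat.card A) : Dead (⊤ : Subgroup A) a b := by
  classical
  intro H hH hP
  have hne : H ≠ ⊤ := fun h => hH (h ▸ le_rfl)
  have h1 := h H hne
  have h2 : Nat.card A ≤ Nat.card ({s : A // s * a * s⁻¹ ∈ H} ⊕ {s : A // s * b * s⁻¹ ∈ H}) := by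
    refine Nat.card_le_card_of_injective (fun s : A => if hs : s * a * s⁻¹ ∈ H then Sum.inl ⟨s, hs⟩
      else Sum.inr ⟨s, (hP s (mem_top s)).resolve_left hs⟩) ?_
    intro s t hst
    dsimp only at hst
    split_ifs at hst with h3 h4 h4
    · exact congrArg Subtype.val (Sum.inl.inj hst)
    · exact congrArg Subtype.val (Sum.inr.inj hst)
  rw [Nat.card_sum] at h2
  have h3 := card_conj_le H a
  have h4 := card_conj_le H b
  have h5 : Nat.card A ≤ c * Nat.card H := by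
    calc Nat.card A ≤ Nat.card H * Nat.card (centralizer ({a} : Set A)) +
          Nat.card H * Nat.card (centralizer ({b} : Set A)) := by omega
      _ = (Nat.card (centralizer ({a} : Set A)) + Nat.card (centralizer ({b} : Set A))) * Nat.card H := by ring
      _ ≤ c * Nat.card H := Nat.mul_le_mul_right _ hc
  omega

end Count

namespace JOne

open Cfsg.Agent.H940.Eng Cfsg.Agent.H940.Eng.D Cfsg.Agent.H305.SepJ1 Cfsg.Agent.H147.Gen

def os : List ℕ := [1, 2, 3, 4, 5, 6, 7, 8, 10, 11, 12, 14, 15, 19, 20, 21, 22, 24, 28, 30, 33, 35, 38, 40, 42, 44, 55, 56, 57,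
    60, 66, 70, 76, 77, 84, 88, 95, 105, 110, 114, 120, 132, 133, 140, 152, 154, 165, 168, 190, 209, 210, 220,
    228, 231, 264, 266, 280, 285, 308, 330, 380, 385, 399, 418, 420, 440, 456, 462, 532, 570, 616, 627, 660, 665,
    760, 770, 798, 836, 840, 924, 1045, 1064, 1140, 1155, 1254, 1320, 1330, 1463, 1540, 1596, 1672, 1848, 1995,
    2090, 2280, 2310, 2508, 2660]

theorem chk : chkO l_j1 n_j1 1 l_j1 os [] 60 loc o_j1 = true := by decide +kernel

theorem os_lt : ∀ d ∈ os, 60 * d < 175560 := by decide +kernel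

theorem count (B : Base) {H : Subgroup G} (hH : H ≠ ⊤) : 60 * Nat.card H < Nat.card G := by
  have h1 := ordersD (ctx B) l_j1 os 60 chk H (one_dvd _) hH
  rw [card]
  exact os_lt _ h1

theorem nc : ¬ IsMulCommutative G := fun h => na fun a b => h.is_comm.comm a b

/-- a commuting pair of orders 3, 5 -/
theorem dead35 (B : Base) {a b : G} (ha : orderOf a = 3) (hb : orderOf b = 5) : Dead (⊤ : Subgroup G) a b := by
  have := fin
  refine dead_of_count (c := 60) ?_ fun H hH => count B hH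
  rw [local'.cent3 a ha, local'.cent5 b hb]

theorem dead53 (B : Base) {a b : G} (ha : orderOf a = 5) (hb : orderOf b = 3) : Dead (⊤ : Subgroup G) a b := by
  have := fin
  refine dead_of_count (c := 60) ?_ fun H hH => count B hH
  rw [local'.cent5 a ha, local'.cent3 b hb]

/-- `a` of order `p`, `w` of order `q`, `b` commute with `a`, `|C(a)| = 2 p q`, `b` and `w` do not commute -/
theorem comm_order {p q : ℕ} (hp : p.Prime) (hq : q.Prime) (hpq : p ≠ q) {a w b : G} (ha : orderOf a = p)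
    (hw : orderOf w = q) (hC : Nat.card (centralizer ({a} : Set G)) = 2 * (p * q)) (haw : w * a = a * w)
    (hab : b * a = a * b) (hbw : b * w ≠ w * b) : orderOf (b⁻¹ * (w * b * w⁻¹)) = q := by
  have := fin
  have hwC : w ∈ centralizer ({a} : Set G) := mem_centralizer_singleton_iff.2 haw
  have hbC : b ∈ centralizer ({a} : Set G) := mem_centralizer_singleton_iff.2 hab
  have haC : a ∈ centralizer ({a} : Set G) := mem_centralizer_singleton_iff.2 rfl
  set X : Subgroup (centralizer ({a} : Set G)) := (centralizer ({w} : Set G)).subgroupOf _ with hX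
  have hp1 : p ∣ Nat.card X := by
    have h1 : (⟨a, haC⟩ : centralizer ({a} : Set G)) ∈ X := mem_subgroupOf.2 (mem_centralizer_singleton_iff.2 haw.symm)
    have h2 := orderOf_dvd_natCard (⟨_, h1⟩ : X)
    rwa [Subgroup.orderOf_mk, Subgroup.orderOf_mk, ha] at h2
  have hq1 : q ∣ Nat.card X := by
    have h1 : (⟨w, hwC⟩ : centralizer ({a} : Set G)) ∈ X := mem_subgroupOf.2 (mem_centralizer_singleton_iff.2 rfl)
    have h2 := orderOf_dvd_natCard (⟨_, h1⟩ : X)
    rwa [Subgroup.orderOf_mk, Subgroup.orderOf_mk, hw] at h2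
  have hpq1 : p * q ∣ Nat.card X := Nat.Coprime.mul_dvd_of_dvd_of_dvd ((Nat.coprime_primes hp hq).2 hpq) hp1 hq1
  have hidx : X.index ∣ 2 := by
    have h1 := X.card_mul_index
    rw [hC] at h1
    obtain ⟨k, hk⟩ := hpq1
    rw [hk] at h1
    have h2 : k * X.index = 2 := by
      have h3 : 0 < p * q := Nat.mul_pos hp.pos hq.pos
      apply Nat.eq_of_mul_eq_mul_left h3
      rw [← mul_assoc, h1, mul_comm]
    exact ⟨k, by rw [← h2, mul_comm]⟩
  have hn : X.Normal := by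
    rcases (Nat.dvd_prime Nat.prime_two).1 hidx with h | h
    · rw [Subgroup.index_eq_one.1 h]
      infer_instance
    · exact Subgroup.normal_of_index_eq_two h
  have h1 : b⁻¹ * w * b * w = w * (b⁻¹ * w * b) := by
    have h2 := hn.conj_mem ⟨w, hwC⟩ (mem_subgroupOf.2 (mem_centralizer_singleton_iff.2 rfl)) (⟨b, hbC⟩)⁻¹
    have h3 := mem_centralizer_singleton_iff.1 (mem_subgroupOf.1 h2)
    simpa using h3
  have hy : b⁻¹ * (w * b * w⁻¹) = (b⁻¹ * w * b) * w⁻¹ := by group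
  have : Fact q.Prime := ⟨hq⟩
  apply orderOf_eq_prime
  · rw [hy]
    have hcm : Commute (b⁻¹ * w * b) w := h1
    rw [hcm.inv_right.mul_pow]
    have h4 : (b⁻¹ * w * b) ^ q = 1 := by
      have h5 : b⁻¹ * w * b = b⁻¹ * w * (b⁻¹)⁻¹ := by group
      rw [h5, conj_pow, ← hw, pow_orderOf_eq_one]
      group
    rw [h4, one_mul, inv_pow, ← hw, pow_orderOf_eq_one, inv_one]
  · intro h
    apply hbw
    rw [inv_mul_eq_one] at h
    calc b * w = w * b * w⁻¹ * w := by rw [← h]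
      _ = w * b := by group

theorem not_three {a w b : G} {p q : ℕ} (hp : p.Prime) (hq : q.Prime) (hpq : p * q = 15) (ha : orderOf a = p)
    (hw : orderOf w = q) (hb : orderOf b = 2) (haw : w * a = a * w) (hab : b * a = a * b) : b * w ≠ w * b := by
  intro hbw
  have hcop : Nat.Coprime p q := by
    rcases Nat.coprime_or_dvd_of_prime hp q with h | h
    · exact h
    · exfalso
      have h1 : p = q := (Nat.prime_dvd_prime_iff_eq hp hq).1 h
      subst h1
      have : p ≤ 3 := by nlinarith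
      interval_cases p <;> omega
  have h1 : orderOf (a * w) = 15 := by
    have hc : Commute a w := haw.symm
    rw [hc.orderOf_mul_eq_mul_orderOf_of_coprime (by rw [ha, hw]; exact hcop), ha, hw, hpq]
  have h2 : orderOf (a * w * b) = 30 := by
    have hc : Commute (a * w) b := (Commute.mul_left (show Commute a b from hab.symm) (show Commute w b from hbw.symm))
    rw [hc.orderOf_mul_eq_mul_orderOf_of_coprime (by rw [h1, hb]; decide), h1, hb]
  have h3 := Cfsg.Agent.H413.JOneSpec.orderOf_mem_J1 (a * w * b)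
  rw [h2] at h3
  exact absurd h3 (by decide)

/-- `a` of order 3 or 5 and a commuting involution -/
theorem dead_two (B : Base) {a b : G} {p q : ℕ} (h : (p = 3 ∧ q = 5) ∨ (p = 5 ∧ q = 3)) (ha : orderOf a = p)
    (hb : orderOf b = 2) (hab : b * a = a * b) : Dead (⊤ : Subgroup G) a b := by
  have := fin
  have hp : p.Prime := by rcases h with ⟨rfl, _⟩ | ⟨rfl, _⟩ <;> norm_num
  have hq : q.Prime := by rcases h with ⟨_, rfl⟩ | ⟨_, rfl⟩ <;> norm_num
  have hpq : p * q = 15 := by rcases h with ⟨rfl, rfl⟩ | ⟨rfl, rfl⟩ <;> norm_num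
  have hne : p ≠ q := by rcases h with ⟨rfl, rfl⟩ | ⟨rfl, rfl⟩ <;> norm_num
  have hC : Nat.card (centralizer ({a} : Set G)) = 2 * (p * q) := by
    rw [hpq]
    rcases h with ⟨rfl, _⟩ | ⟨rfl, _⟩
    · exact local'.cent3 a ha
    · exact local'.cent5 a ha
  have : Fact q.Prime := ⟨hq⟩
  obtain ⟨w, hw⟩ := exists_prime_orderOf_dvd_card' (G := centralizer ({a} : Set G)) q
    (by rw [hC]; exact ⟨2 * p, by ring⟩)
  have hw1 : orderOf (w : G) = q := by rw [Subgroup.orderOf_coe, hw]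
  have haw : (w : G) * a = a * w := mem_centralizer_singleton_iff.1 w.2
  have hbw := not_three hp hq hpq ha hw1 hb haw hab
  have hy := comm_order hp hq hne ha hw1 hC haw hab hbw
  refine Dead.step (n := (w : G)) (mem_top _) haw 1 (pow_one _) ?_
  rcases h with ⟨rfl, rfl⟩ | ⟨rfl, rfl⟩
  · exact dead35 B ha hy
  · exact dead53 B ha hy

theorem prime_of (x : G) : (∃ p k : ℕ, p.Prime ∧ orderOf x = p ^ k) ∨ orderOf x = 6 ∨ orderOf x = 10 ∨ orderOf x = 15 := by
  have h := Cfsg.Agent.H413.JOneSpec.orderOf_mem_J1 x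
  simp only [Finset.mem_insert, Finset.mem_singleton] at h
  rcases h with h | h | h | h | h | h | h | h | h | h
  · exact Or.inl ⟨2, 0, by norm_num, by rw [h]; norm_num⟩
  · exact Or.inl ⟨2, 1, by norm_num, by rw [h]; norm_num⟩
  · exact Or.inl ⟨3, 1, by norm_num, by rw [h]; norm_num⟩
  · exact Or.inl ⟨5, 1, by norm_num, by rw [h]; norm_num⟩
  · exact Or.inr (Or.inl h)
  · exact Or.inl ⟨7, 1, by norm_num, by rw [h]; norm_num⟩
  · exact Or.inr (Or.inr (Or.inl h))
  · exact Or.inl ⟨11, 1, by norm_num, by rw [h]; norm_num⟩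
  · exact Or.inr (Or.inr (Or.inr h))
  · exact Or.inl ⟨19, 1, by norm_num, by rw [h]; norm_num⟩

theorem pr6 (r : ℕ) (hr : r.Prime) (h : r ∣ 6) : r = 3 ∨ r = 2 := by
  have := Nat.le_of_dvd (by norm_num) h
  interval_cases r <;> first | omega | (exfalso; revert hr; norm_num) | tauto
theorem pr10 (r : ℕ) (hr : r.Prime) (h : r ∣ 10) : r = 5 ∨ r = 2 := by
  have := Nat.le_of_dvd (by norm_num) h
  interval_cases r <;> first | omega | (exfalso; revert hr; norm_num) | tauto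
theorem pr15 (r : ℕ) (hr : r.Prime) (h : r ∣ 15) : r = 3 ∨ r = 5 := by
  have := Nat.le_of_dvd (by norm_num) h
  interval_cases r <;> first | omega | (exfalso; revert hr; norm_num) | tauto

theorem ord_pow {x : G} {m p d : ℕ} (hx : orderOf x = m) (hm : m = p * d) (hp : 0 < p) (hd : 0 < d) : orderOf (x ^ d) = p := by
  rw [orderOf_pow_of_dvd hd.ne' ⟨p, by rw [hx, hm, mul_comm]⟩, hx, hm, Nat.mul_div_cancel _ hd]

theorem rce (B : Base) (x : G) : RCe G (MulAut.conj x) := by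
  have hcm : ∀ i j : ℕ, x ^ i * x ^ j = x ^ j * x ^ i := fun i j => by rw [← pow_add, ← pow_add, add_comm]
  rcases prime_of x with ⟨p, k, hp, hx⟩ | hx | hx | hx
  · refine rce_of_prime_pow simple _ hp (k := k) ?_
    rw [orderOf_injective _ (conj_injective simple nc), hx]
  · exact rce_of_inner simple nc (m := 6) (p := 3) (q := 2) hx (by norm_num) (by norm_num) (by norm_num) pr6
      (dead_two B (p := 3) (q := 5) (Or.inl ⟨rfl, rfl⟩) (ord_pow hx (by norm_num) (by norm_num) (by norm_num))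
        (ord_pow hx (by norm_num) (by norm_num) (by norm_num)) (hcm _ _))
  · exact rce_of_inner simple nc (m := 10) (p := 5) (q := 2) hx (by norm_num) (by norm_num) (by norm_num) pr10
      (dead_two B (p := 5) (q := 3) (Or.inr ⟨rfl, rfl⟩) (ord_pow hx (by norm_num) (by norm_num) (by norm_num))
        (ord_pow hx (by norm_num) (by norm_num) (by norm_num)) (hcm _ _))
  · exact rce_of_inner simple nc (m := 15) (p := 3) (q := 5) hx (by norm_num) (by norm_num) (by norm_num) pr15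
      (dead35 B (ord_pow hx (by norm_num) (by norm_num) (by norm_num))
        (ord_pow hx (by norm_num) (by norm_num) (by norm_num)))

theorem rc (B : Base) : RC G := by
  intro g
  have h1 : (MulAut.conj : G →* MulAut G).range = ⊤ := Subgroup.index_eq_one.1 Cfsg.Agent.S2065.result
  obtain ⟨x, rfl⟩ : g ∈ (MulAut.conj : G →* MulAut G).range := by rw [h1]; trivial
  exact rce B x

/-- **the row `J1` of S3509** -/
theorem rc_j1 (B : Base) {T : Type} [Group T] [Finite T] (h : Cfsg.Spor.IsoJ1 T) : RC T := by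
  obtain ⟨e⟩ := h
  exact (rc B).congr e.symm

end JOne

end Cfsg.Agent.H147.RG
end

-- part: H895/RG/Mn_mg
section
prune_inst 0x10104104100000000000001020001c42c2000102000b00010080044204800c0100000e20b000061a1120002400380040011000090010000000000200411d00a0800060c00200a00001000180e801180c00000000000000000000000000000000000000000
set_option linter.all false
open scoped Cfsg.Agent.FastGrp

-- part: H895/RG/Cls
section
/-!
# S3509, row `Fi22`: the classes of the odd squarefree elements (helper895)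

`cover` : every element is an image of one of 59 commutators of words (helper123); `kind` : the classes with `r ^ 15015 = 1`
are `3D` (`w3`), classes with a fixed transposition, `13A` (`p45`) and `21A` (`p53`).
-/

set_option autoImplicit false
set_option maxRecDepth 1000000
set_option exponentiation.threshold 5000

namespace Cfsg.Agent.H895.RG.Fi22

open Cfsg Cfsg.Spor Cfsg.Agent.H123.Cls Cfsg.Agent.Lib.BitNet Cfsg.Agent.H123.Cls.FiDat
open Cfsg.Agent.H494.F22 (rho rho_gen rho_injective S S_val S_mem N N_le_Aut A A_le_Aut exists_aut)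
open Cfsg.Agent.H494.F22.Row (row)
open Cfsg.Agent.Lib.BitNetSimple (force force_eq tb tb_eq)

/-- the commutator of the words -/
noncomputable def com (y : ℕ × List ℕ × List ℕ × List ℕ × List ℕ) : Spor.Fi22 :=
  el y.2.1 * el y.2.2.1 * (el y.2.1)⁻¹ * (el y.2.2.1)⁻¹

theorem cover (g : Spor.Fi22) : ∃ y ∈ W, (∃ θ : MulAut Spor.Fi22, g = θ (com y)) ∧
    (∀ p : Fin 3510, (rho (com y) p : ℕ) = lk 12 y.1 p) ∧ ∃ b ∈ Aut 3510 row, rho g = b * rho (com y) * b⁻¹ := by
  obtain ⟨x, hx, r, -, hr, b, hb, h⟩ := fi_cover (rho g) ⟨g, rfl⟩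
  obtain ⟨y, hy, hyx⟩ := D_W x hx
  obtain ⟨θ, hθ⟩ := exists_aut hb
  have h0 := comm_tab (W_chk y hy)
  have h1 : r = rho (com y) := perm_eq_of_tab hr (by rw [← hyx]; exact h0)
  exact ⟨y, hy, ⟨θ, rho_injective (by rw [hθ, h, h1])⟩, h0, b, A_le_Aut hb, by rw [h, h1]⟩

/-- `r ^ 15015` is not trivial -/
def Bad (P : ℕ) : Prop := ∀ r : Equiv.Perm (Fin 3510), (∀ p, (r p : ℕ) = lk 12 P p) → r ^ 15015 ≠ 1

/-- there is a fixed point -/
def HasFix (P : ℕ) : Prop := ∀ r : Equiv.Perm (Fin 3510), (∀ p, (r p : ℕ) = lk 12 P p) → ∃ p, r p = p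

noncomputable def chkBad (P p L : ℕ) : Bool :=
  band (Nat.blt p 3510) (band (Nat.beq (it 12 P L p) p) (not (Nat.beq (it 12 P (Nat.mod 15015 L) p) p)))

theorem bad_of_chk {P p L : ℕ} (h : chkBad P p L = true) : Bad P := by
  intro r hr h1
  obtain ⟨h2, h3⟩ := band_true h
  obtain ⟨h4, h5⟩ := band_true h3
  have hp : p < 3510 := by simpa [Nat.blt_eq] using h2
  have h6 : (r ^ L) ⟨p, hp⟩ = ⟨p, hp⟩ := Fin.ext (by
    rw [← it_eq hr L ⟨p, hp⟩]; exact Nat.eq_of_beq_eq_true h4)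
  have h7 : (r ^ (L * (15015 / L))) ⟨p, hp⟩ = ⟨p, hp⟩ := by
    rw [pow_mul]
    generalize 15015 / L = k
    induction k with
    | zero => rfl
    | succ k ih => rw [pow_succ, Equiv.Perm.mul_apply, h6, ih]
  have h8 : (r ^ (15015 % L)) ⟨p, hp⟩ = ⟨p, hp⟩ := by
    have h9 : (r ^ 15015) ⟨p, hp⟩ = ⟨p, hp⟩ := by rw [h1]; rfl
    rw [← Nat.mod_add_div 15015 L, pow_add, Equiv.Perm.mul_apply, h7] at h9
    exact h9
  have h10 : it 12 P (15015 % L) p = p := by
    have := it_eq hr (15015 % L) ⟨p, hp⟩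
    rw [h8] at this
    exact this
  rw [show Nat.mod 15015 L = 15015 % L from rfl, h10, Nat.beq_refl] at h5
  exact absurd h5 (by simp)

theorem fix_of_chk {P p : ℕ} (h : band (Nat.blt p 3510) (Nat.beq (lk 12 P p) p) = true) : HasFix P := by
  intro r hr
  obtain ⟨h2, h3⟩ := band_true h
  have hp : p < 3510 := by simpa [Nat.blt_eq] using h2
  exact ⟨⟨p, hp⟩, Fin.ext ((hr _).trans (Nat.eq_of_beq_eq_true h3))⟩

/-- the class `3D` -/
noncomputable def w3 : ℕ × List ℕ × List ℕ × List ℕ × List ℕ := (p3, [1, 8, 6], [2, 5, 7], [1, 8, 6], [])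

theorem kind : ∀ y ∈ W, Bad y.1 ∨ y = w3 ∨ HasFix y.1 ∨ y.1 = p45 ∨ y.1 = p53 :=
  List.forall_mem_cons.2 ⟨Or.inl (bad_of_chk (p := 1) (L := 2) (by decide +kernel)),
  List.forall_mem_cons.2 ⟨Or.inl (bad_of_chk (p := 2) (L := 2) (by decide +kernel)),
  List.forall_mem_cons.2 ⟨Or.inl (bad_of_chk (p := 1) (L := 2) (by decide +kernel)),
  List.forall_mem_cons.2 ⟨Or.inr (Or.inl rfl),
  List.forall_mem_cons.2 ⟨Or.inr (Or.inr (Or.inl (fix_of_chk (p := 0) (by decide +kernel)))),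
  List.forall_mem_cons.2 ⟨Or.inr (Or.inr (Or.inl (fix_of_chk (p := 152) (by decide +kernel)))),
  List.forall_mem_cons.2 ⟨Or.inr (Or.inr (Or.inl (fix_of_chk (p := 3) (by decide +kernel)))),
  List.forall_mem_cons.2 ⟨Or.inl (bad_of_chk (p := 7) (L := 2) (by decide +kernel)),
  List.forall_mem_cons.2 ⟨Or.inl (bad_of_chk (p := 0) (L := 2) (by decide +kernel)),
  List.forall_mem_cons.2 ⟨Or.inl (bad_of_chk (p := 3) (L := 2) (by decide +kernel)),
  List.forall_mem_cons.2 ⟨Or.inl (bad_of_chk (p := 5) (L := 2) (by decide +kernel)),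
  List.forall_mem_cons.2 ⟨Or.inl (bad_of_chk (p := 10) (L := 2) (by decide +kernel)),
  List.forall_mem_cons.2 ⟨Or.inr (Or.inr (Or.inl (fix_of_chk (p := 0) (by decide +kernel)))),
  List.forall_mem_cons.2 ⟨Or.inl (bad_of_chk (p := 0) (L := 6) (by decide +kernel)),
  List.forall_mem_cons.2 ⟨Or.inl (bad_of_chk (p := 279) (L := 2) (by decide +kernel)),
  List.forall_mem_cons.2 ⟨Or.inl (bad_of_chk (p := 1) (L := 2) (by decide +kernel)),
  List.forall_mem_cons.2 ⟨Or.inl (bad_of_chk (p := 3) (L := 2) (by decide +kernel)),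
  List.forall_mem_cons.2 ⟨Or.inl (bad_of_chk (p := 9) (L := 2) (by decide +kernel)),
  List.forall_mem_cons.2 ⟨Or.inl (bad_of_chk (p := 75) (L := 2) (by decide +kernel)),
  List.forall_mem_cons.2 ⟨Or.inl (bad_of_chk (p := 7) (L := 2) (by decide +kernel)),
  List.forall_mem_cons.2 ⟨Or.inl (bad_of_chk (p := 64) (L := 2) (by decide +kernel)),
  List.forall_mem_cons.2 ⟨Or.inl (bad_of_chk (p := 8) (L := 2) (by decide +kernel)),
  List.forall_mem_cons.2 ⟨Or.inl (bad_of_chk (p := 340) (L := 2) (by decide +kernel)),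
  List.forall_mem_cons.2 ⟨Or.inl (bad_of_chk (p := 4) (L := 2) (by decide +kernel)),
  List.forall_mem_cons.2 ⟨Or.inr (Or.inr (Or.inl (fix_of_chk (p := 215) (by decide +kernel)))),
  List.forall_mem_cons.2 ⟨Or.inl (bad_of_chk (p := 284) (L := 2) (by decide +kernel)),
  List.forall_mem_cons.2 ⟨Or.inl (bad_of_chk (p := 61) (L := 2) (by decide +kernel)),
  List.forall_mem_cons.2 ⟨Or.inl (bad_of_chk (p := 7) (L := 2) (by decide +kernel)),
  List.forall_mem_cons.2 ⟨Or.inl (bad_of_chk (p := 9) (L := 2) (by decide +kernel)),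
  List.forall_mem_cons.2 ⟨Or.inl (bad_of_chk (p := 0) (L := 9) (by decide +kernel)),
  List.forall_mem_cons.2 ⟨Or.inl (bad_of_chk (p := 0) (L := 9) (by decide +kernel)),
  List.forall_mem_cons.2 ⟨Or.inl (bad_of_chk (p := 0) (L := 9) (by decide +kernel)),
  List.forall_mem_cons.2 ⟨Or.inl (bad_of_chk (p := 59) (L := 2) (by decide +kernel)),
  List.forall_mem_cons.2 ⟨Or.inl (bad_of_chk (p := 75) (L := 2) (by decide +kernel)),
  List.forall_mem_cons.2 ⟨Or.inr (Or.inr (Or.inl (fix_of_chk (p := 3189) (by decide +kernel)))),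
  List.forall_mem_cons.2 ⟨Or.inl (bad_of_chk (p := 7) (L := 6) (by decide +kernel)),
  List.forall_mem_cons.2 ⟨Or.inl (bad_of_chk (p := 62) (L := 2) (by decide +kernel)),
  List.forall_mem_cons.2 ⟨Or.inl (bad_of_chk (p := 8) (L := 2) (by decide +kernel)),
  List.forall_mem_cons.2 ⟨Or.inl (bad_of_chk (p := 1) (L := 2) (by decide +kernel)),
  List.forall_mem_cons.2 ⟨Or.inl (bad_of_chk (p := 63) (L := 2) (by decide +kernel)),
  List.forall_mem_cons.2 ⟨Or.inl (bad_of_chk (p := 2) (L := 2) (by decide +kernel)),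
  List.forall_mem_cons.2 ⟨Or.inl (bad_of_chk (p := 24) (L := 4) (by decide +kernel)),
  List.forall_mem_cons.2 ⟨Or.inl (bad_of_chk (p := 8) (L := 2) (by decide +kernel)),
  List.forall_mem_cons.2 ⟨Or.inl (bad_of_chk (p := 2) (L := 2) (by decide +kernel)),
  List.forall_mem_cons.2 ⟨Or.inl (bad_of_chk (p := 180) (L := 4) (by decide +kernel)),
  List.forall_mem_cons.2 ⟨Or.inr (Or.inr (Or.inr (Or.inl rfl))),
  List.forall_mem_cons.2 ⟨Or.inl (bad_of_chk (p := 788) (L := 2) (by decide +kernel)),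
  List.forall_mem_cons.2 ⟨Or.inr (Or.inr (Or.inl (fix_of_chk (p := 256) (by decide +kernel)))),
  List.forall_mem_cons.2 ⟨Or.inl (bad_of_chk (p := 1709) (L := 2) (by decide +kernel)),
  List.forall_mem_cons.2 ⟨Or.inl (bad_of_chk (p := 3219) (L := 2) (by decide +kernel)),
  List.forall_mem_cons.2 ⟨Or.inl (bad_of_chk (p := 11) (L := 2) (by decide +kernel)),
  List.forall_mem_cons.2 ⟨Or.inl (bad_of_chk (p := 53) (L := 2) (by decide +kernel)),
  List.forall_mem_cons.2 ⟨Or.inl (bad_of_chk (p := 2612) (L := 2) (by decide +kernel)),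
  List.forall_mem_cons.2 ⟨Or.inr (Or.inr (Or.inr (Or.inr rfl))),
  List.forall_mem_cons.2 ⟨Or.inl (bad_of_chk (p := 1) (L := 22) (by decide +kernel)),
  List.forall_mem_cons.2 ⟨Or.inl (bad_of_chk (p := 90) (L := 2) (by decide +kernel)),
  List.forall_mem_cons.2 ⟨Or.inl (bad_of_chk (p := 3141) (L := 2) (by decide +kernel)),
  List.forall_mem_cons.2 ⟨Or.inl (bad_of_chk (p := 139) (L := 6) (by decide +kernel)),
  List.forall_mem_cons.2 ⟨Or.inr (Or.inr (Or.inl (fix_of_chk (p := 0) (by decide +kernel)))), List.forall_mem_nil _⟩⟩⟩⟩⟩⟩⟩⟩⟩⟩⟩⟩⟩⟩⟩⟩⟩⟩⟩⟩⟩⟩⟩⟩⟩⟩⟩⟩⟩⟩⟩⟩⟩⟩⟩⟩⟩⟩⟩⟩⟩⟩⟩⟩⟩⟩⟩⟩⟩⟩⟩⟩⟩⟩⟩⟩⟩⟩⟩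

/-- `r ^ E = 1` -/
noncomputable def chkPow (P E : ℕ) : Bool := allN (fun p => Nat.beq (it 12 P E p) p) 3510

theorem pow_of_chk {P E : ℕ} (h : chkPow P E = true) {r : Equiv.Perm (Fin 3510)} (hr : ∀ p, (r p : ℕ) = lk 12 P p) :
    r ^ E = 1 := by
  ext p
  rw [← it_eq hr E p]
  exact Nat.eq_of_beq_eq_true ((allN_iff _ _).1 h p p.2)

theorem pow_ne_of_chk {P E p : ℕ} (h : band (Nat.blt p 3510) (not (Nat.beq (it 12 P E p) p)) = true)
    {r : Equiv.Perm (Fin 3510)} (hr : ∀ p, (r p : ℕ) = lk 12 P p) : r ^ E ≠ 1 := by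
  intro h1
  obtain ⟨h2, h3⟩ := band_true h
  have hp : p < 3510 := by simpa [Nat.blt_eq] using h2
  have h4 := it_eq hr E ⟨p, hp⟩
  rw [h1] at h4
  have h5 : it 12 P E p = p := h4
  rw [h5, Nat.beq_refl] at h3
  exact absurd h3 (by simp)

theorem pow3 : chkPow p3 3 = true := by decide +kernel
theorem pow45 : chkPow p45 13 = true := by decide +kernel
/-- the table of a word commuting with the diagram swap -/
noncomputable def R21 : ℕ := 0x65ac6f7b3b1d6f760c9d7877ba18ccbfbb6bd54c0e679624d2d9b5baab70b6467bcb6d295018fb9c7941c04d81646935cd5b90d8eafa6ec2bed49b1a325c6ac6870480f33e6815c0539d6fc97d3e94acd7770af186555b68d6cfd92b8ec93abdd9fb4821c1f23bfb8d83f69567d8e66bdd0261ac45c0a921ba8371d4864872eb92b87bfe90c6979b4af2b7e69a69cc648c7221c28ab228254693e9beb1274c5b019a350d71af54a2ca13e784dbee91b9e3d0e976b79c75972b337021c761f7fa5148a53c5244503cccbe1d9d915326855b06d8c8abbc5ab836389eb5dbd6d9c4bf6c2d1f9d28e85418e097b3362617b043236a1e7315acf81b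434394910ba5751cbcd64cafd22b9cd12588c465f06f8c7a9edbaf8dddb1d398fa8fc3c024153c47e6ef9e7b50bf8b61be2642ac91d18cf2f43fe2e9d89caa728b0bc9b6a9d37c9ed79db5d0bd59b18b6299f90052978f24f739bc4cfdbdbc7b984d259089cc6235027e4cc1c539d0b37c4ec2a55090f8926ab321acada2d4a9ef7542c427414b22e3a47239059c63cdab155919986bc154d23c92ee4075947e94ddbfdbbecf5bc36d450972ccba82b56d28d9ddc789dcc55bbfc90930d69bc1d9ecbd8d86d6b42749d13b85b65d0a9255332f71f72bdcea73bb8b9239454d9d44cb5c7dd41d4069bc3cbb05bdaa64a7ac43d919c7d69e5b40c1f80e2459de6b6bde7222fd595ab3bb6774d93cc27a341a4e9aaf6dead12f05c25533751585cb1c25f984187553460320c70e531d46b21be6b39c47d856db9922d6c4cbc8cf9d30c1686f5d064e1d26c41eed16cced6cd50b6790e41739a5f58e7422d6d823d43cfbbeb940d8ab5bc8759bbb823c82166044d5de89d57c96483c28e7af6989b3c71c8cc2dd1743c6053ac3605851bd8d61d61d8c1dc23b3b198a96573785b918c9bb38df6684ca30a25f3a188e6d3b69b96cb7beac05affd53cdb67a6a874bc1ab9524a5d9157286d6ab1ec569d4b2fc1267e674d0cb10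67f78066c8f860275f58184821a15450f33060e3c61c818c5fc21162a43587b1ed5475252eaae45e26c5540342cc68b18314585dc5685fb45d9c9347815d664194016044168d47a96418b929683b49950e42f48c65f46d4a67aaaa47336103c1aad3b93065134c4845c80816c7362c9f150b8ae8addaa6508db76bbb58c26f5d558d9b57556554c1860136c7ce97a3f4712c83c50b29bcdbceb0370885258d47539c4c34b8982b44cc4d4e7bb2a02845e7b9fd5bd01da1d4c7176563f931c7de5e36b7399aa0302b36b01b2b8e2b51d2bc20b3c6d76ff3a01ca5157e8ae385ecc5c10da0ce25d141b56c44f2b65174dc981b8ad9b73d6fac36ba449b43e5424742623ab97e44680ad109ab677947bdfd47c249ee3ff4bed038bc9946cc590d091ccd26c5eb3fbf4c086408685356a6d3f6a0d57d38af8b286455cf34637482562168f26e39f8bac0f9a5cdf876c67670b89d318f77009a47c33766754edcbfcab7153728e1b6e9c45ce86eaae3733c478b730719944b8cb3ecd25d42d088a32f5ab6ddb132344a8aba344378931cedaed639c449b6916a1115551dc7e9e89196a1acd6a59e028fa1fa133c8b22999a65720cf1d3a7a080b85845643d7eb473962574c8b3793773bc3be8b3a5d5c4d6166d764459686530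bed75053a8267b2d1bda738e3f34764807ee4f947851902dacb42b4365e92d94542a38918b43b45ca9c2214abc4ac46e5c962e4c88475fa1c16ca7f60ba0231354df4294917f50c76b1a6c4b21874abad203617426427b1491a78902e01441b579118514a5bfaaa5ba97124b8bf1020d32801da2503ba4925a54622798afa09a504f66cb4304e66b044e3ef2af7ba9794940190af0187f421642a62d25746c18e4772157378b04491b91db2ab4ad4c6aac79b22a2512b52837f745350aaa55b95ea1fe7ef2a53074426173b344b1a996c5182172a249cac5ad50c006f16c1450ac2a421379448124c2127b92637fc51c50d9917932aa0fa0dd0a6a335ee5ad9807f84ae2f9cfeccacbe74e81899c7fe970895a9868b24e56f40341e2c7894cb9c9cc4160b5ffa9f31b5bc5aa52315618f46b5e505143b5a025574194b7711d068397755c33c4ea7e13ee2b855e85b38552f81a2c356b41c41d31f43f2d8484ac750434c79f6871df1668c68fe4b18978a0b7437a42423977b4bc1f536e4e85b1c7fb4dda3c0da9762083d64dc607c9107368c8fa8b768d1d36fb5472abd8c191973416c39df9d8bbb1828749bc5d29a9b45959a99879b86657ae8a56a27a2f3c297f32d16d1dd8c08430693e386dd7c805c07932bf50a7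02b1d922b08906e85d3b538d4af4939f279a3934aa1864fa952a486892765364677dd4baadbb0f489bcacd4b76db36a49bd6495996434db50725867276a7ca4d0b14b24b4bbf1761ccbd7a94c6a347996f5e6a3da5b2ad659c8e33dba78d0da9ca0c99ca863dc6d837928ae7421cf3b636267322c65be2b447b75ec0b7dfcee6559ea8cd6fb8706114c18342f279945a5455ac15e772d21bd3d2887eaa878c4ef36d86c9882f5392d1a40f1614a43968fd9396f46e05b439b6b53e44109739f4822c983841682772782a81a844a5c80a461bd1965b8c5ba0b59c31d68c1e94875a7b61f92f68092ae1a43bbaa388c38103e0058a7c389d1c2fd0ddacc43705c090946664ff1380ad4433979c33e115c1b7035072b262cb1c3ace2945328d1d23b04d2cb52176759784b476b957b5a1a327ff1b302689ba4d23365452ecac63e9b0c849115cd8b755fa12a687f2148adc1ef8783453a24f18be65c6add7476f77571cd63671b2a85aac08f6aea9b18ee23a219483d582c23574cc5ec99a97cd4dbf7423240d875dd537cb8c2c83a4b9724752cdcd91d2ebc66fc8a279e83e8da589adf8a3465954956a92177c141608033a5cecc3b72b72fcfcb58716ad608c99b48ac9674d2c58f91658a1297ada729ca3bc256e6fd299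9364d1370738bddc036ac52a70a457440181598baec72b25d99cb3b30a3e538aa9c69d45cefc00b83c5fcd391fd5ad7297529860623f63f789983555577a8da25367a162b234995e9976ce4093204f22b735a30863726649e1d32e13a8021ad94a94e1b1cbe49e6cd677a5009f0914da61334de34b2f36a79e466912d3ccb17b19bd5d1ebfc93b7448618d5c4fd42d3cbd9946256b08d2abad8194e488511e1a6a07a4f8045ae9cf0156edb94d97d5cc7cc1c32ea21a670ce00600868c844667b5cc887cc8062fe85352d9988ff7a55c183281e2679f6a3f7e0ad88001fa12787a3137216af34d78377371ec778676e133b4459f3917d0691a6472cd2cfa9e4f87989a35e048f508a0a3cb8e3b2cd906f29dacf2b7cbb97583553bd9657a48d326b3aa42537b48b4fd18d2e75267fd49da43a30710d04c5ab5e1f0ca4c597606f3b3dd9675675786973515f81c4daae15d374f644b4eb72d8bb888835933166be9ae21844c1bf3df11504b6939adcae77f922317d24c49788c3fc3e762bbc40558035634eaa1400678776c667a6c54767740bb2d73d368ed77e7d757f46440c6144471a2afc7ab0c682d318d358d2c40bf266b5b67c51591e81c05f2c0cbccbf6b4ccfa552db0af6b4971877cd5fb688ef65d828433651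4e72dc305548afd6c06b26912c1a7758fc4a5585c5b60748c13b75c768811648622d264f463aabab65758ca53b3ae38219e5b31be2bc0918b60a32da8b8194bb4cf0d0769dbef92d57231dab4857abb4c960a310d321130c4a5548282a93dbbdb113807dc1f396754c84992aac6343aecc33c9271b942db4dafcd99bf76d9187434a360757e5714eb55724231e97499d1fb46918409c05ea80a157118f59b9cf6b81c2153f4667d289a2d15e4319824c021969bad14b27d51cb1ce4dabb35d207d17b415d68583898a58a7e657662299e543a0696ea4ed3bd2725a32b7824ce4e5444334569055a6ea512a763ab02703db2d9a7d526c3e53f68027cfbac995c298bdbec85f7daaeeac2abe269814364bff3f561644109a0d75c61b10eb2cc19258b6134682db987ac1bd06d992c9a888b3f75f326d2eb3de3613352609ce662636414ae23e93eb1cf6aec58d8fbf0b5fca5ca66bca318717d3bb1d3dcf4ce1c25943c3a9cab15b1639d7cd9550bd16a125173a7a19b1c99c09cb8c35277d9134a24a03a8c4b528c21f6283954029a0b20b4f9eb753b9b6f04d74e3c3407198d25916223dd84cebb1f9db93491d676ce9906ca97ae2b11b0813a9a32ac52cdad2fce79b73e25249f8a6195ba73ab9969050a6b2bf551746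8e48cbbabb0dbb73233e02ec5fe3916154904f4a290771147770767656da58c4187a85d5b2db43b32c8ac6bcc7b3803b25297d54e6bf734b71d67d6e7c8a9b64bb78aeb1cd1e53b67f15161b21b417f02264c926c5190767c8e5699ad378d78eabf327963727912d11d7d6eeb0e98c1e975b2a112284a5f48f27e56d176cba9c627259d682c3fc2ef2ce6e96ea658701da4ccdb34be8b23dad713bcf5df4d63401d59fc9faa58a9c20207d07b1241215b27c6b41c35d7ec74d82ca2b7f69ec22cddcbb92fb84b66d95af46f6c5d9e1bd1afb3c33224953b74b737c42659ea82a400e70847b7b5582079d6293d42203d226f68e69086698e14712bae918379c3485668ac6847d8cf89039ecb31c172f14f0a87a78a4c1c529110f59d23670b9784d47c763bc94bd29d5d15ba63984c283560fad483346149796a5d70ec87f33794d1d4aa75c73fd9ac91cd34c65c91d94ce092e6738dc73fc826251f607917e11a03340898b3d13ea285938da890b66f76ece5d60c95d5dbd7ca798f5f175c2c812e179119351205a834132e87bf7c03d04fe4f334a3a3ba29e99afbc98087425c324682fa66a6fa52a93460a019fd59cb5670c6cd42753e597811b986bbd8d7477267b12438568b296d5fd7c15284a0025a4b02e5da9fe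a0056187d2351eb586190ad749f8592ca12845e8302c01ec1a113f13d08013e51b0e603202ca888075f8110a7ba5910a017a5ca02a908728648933839961f40b80830ea27ca1d9612d38011430ee10d11c13654b87c1a030429a812b997144a13397694cb311a54a34a47953a082652ed15b1ea88f12a17a22c2fc1ce4d39d971fb80be9c39c79bf9c8dbd4b0cce6c89d778c8cc993c3014cf65247aa380d20df899898132ab715a59659a77d937949b09d75d56d4fd62be5c30d80cd0bda920cff763bc0cad7a73861e6a7288896821d0318428ec08601d1784c06826dfafe9e2b7ac9a32470919156a4373af46a42e12003870d887a0d17b59f21e08a1b616380d9c8295c48bcb64a90dd00b4aaf7b829028409aa4eeab0ad06d055a84ea9da419ffa7e9fb61d8a684f84b32c29c0b90b47cb0b72043d583657dadd23ec11d78d83d65d6b66e71aaf3c5b72dbdc91eb2ecb06277313285059858aaa7195da394b63123a682e24729b43819f2031af2df12313107812c82736593ab8fd769049c59b8b7b5cc7e288d9019d3c4dd1cce3cb2cd8b6fb07b93766ccf57a5607065bb49a66139036688099048548707407f1303e625408b0294c538f2fa65ec7093fc57b6db1b9133ca40634f99336b696cc0d0fc63d5ec3d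d0871dc9fc5cbe38e973aac854da1ca1e951a1803d0880242b389c8f16dc7a1787da5d988ce6f9924d70c019098f07e3195ae65704ecb9a9b26d8d33cf766a6925782ff58e2933ce5d82288c10f700727f15202f0b31a514c19d1cbc6cbf36aac86c32c42c9dd7fc26b6c4d578aa95af9873c6e6b8c4b7a2b9e9a25e14bb5b58293e8850510665359353a36a8683935da535441fc03a17c22d4fb3d8612ae0506329ac39a1ba36f1d4bc1b74a3f823b6fe7c2acc55d6d2b976badaebc733fc272fb54a35b14d4b35e862b0b512f0b12810e11bc62f45042d14216b1046e504f0a1635736a10a5eb53ae52f88604a55126c65d6aa28ea3c7488bbab9d92b6ebce88de92780c3fa41559123733892929f29d2482d77f32010a913c0be0e47ed46f95c7ea1512090672750bb03c0c80540522106b437e33188926a0b001a07307ca840e9a7da14a3aa043622325a25af5492a67f029e24966301b0aa02012910e11b2e540d5640a801e0bf0f030b3322d57f91fd1dc7b58549a6af0b7dcde93390a6a2d05cd169f73c73ec8133a7078bb54f8821c68518a485c3520e5797a791e013b63009709268a8f37e79866080b60ab0275efa2b0ef95895a47ca2029041240a58486a61922709d0a20c52a9139206169309109a370d9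25e94fa3c5211706e658309917d03008747d0282c94cd41f4046006807869cdb46c37b3ad867453005793694315eb88679084c48d3a7a49a3511d2de5a327d25308556303448e3148177c41f1b77aef9a7c06cc8be7c2eb05b73b00d7bcb44bd8106c1ade587562a23a26a579f9a5a95fa7f08e6c8a2da2a3882241d77968a8a60a0530c37f35410c05a0e30e00b245127001c66451170f6387816948c4d18c85cc3755bfab5ab0a9bbc613fb52c31a4d83b84fca6a957a91a7cb6a43a1b808208d06249638730e0a020e1e121b1534e21bb3895a85a62e642c7784710f20580640561800131ad11f2ba3dc07aab523839e98960dbe06d5c2bd5263cd887d042052b19381f6e261e61c1c4439303863a8aa8fa9410b0ed0d10d50607aca4428728b7d438aa0c09600410120703913a09809e0c104d0440d09f7a3b5f7a28a5fa2ca755db28849847051f45b3d333318a25c7ec20a1e35ed6e422306694e6348841e23f016f9c14550ae02a103a623d68b579216e2ac03f5204c73f127a4b05a738b14122f6181400fb05f06309004305c0704f59661ff1460fc00a7ad04a09f04913722624d51a2b050c8461723d72e43b21ba1894e006a06c06809505b45f1750d60c90570d804c0da2000110fd0f31000cb0c20a5048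01600201004701f2d49608eb8f46e827e11205320f40e2e31e435822220825d41135c5225a945c7db59228956581d4727bea1a6330dc0410001260bc08107e03737d486a810e81050ff00d06b3b014f2250f93ad38c47fa0e4f70dba691168d7a0fa704b430f1505825b72731ab7fb8968a92711f83db3ec30d65375d2dd1a360918b89f20b20d2b940b7b814e3b15b81aa6c700e00ca1ba6d44806d1ac0d4a63a45188a0ba8505d0591ae3a923128a3cf3ed07553d428292a22a42a76a17a4a1061080f10930c30140ca0090426b31712290cd0e21110450de118a19950a743da27235f5672e26e31671de77925b7952bb5f6a46a8ea64a89a2e9f526851e3dd7bc68835e3f245296b7bd2305a46c963104e6320f60f80fe6e711700f00309b0460400cc0f50f40120cf06106500b08f001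

/-- the word -/
def w21 : List ℕ := [1, 5, 2, 4, 0, 6, 3, 2, 4, 3, 7, 8]

theorem R21_chk : band (chkL gens.length w21) (allN (fun p => Nat.beq (lk 12 R21 p) (evw 12 gens w21 p)) 3510) = true := by
  decide +kernel

theorem R21_tab (p : Fin 3510) : (rho (el w21) p : ℕ) = lk 12 R21 p := by
  obtain ⟨h1, h2⟩ := band_true R21_chk
  rw [ev_tab w21 (chkL_iff _ w21 h1)]
  exact (Nat.eq_of_beq_eq_true ((allN_iff _ _).1 h2 p p.2)).symm

theorem R21_pow : chkPow R21 21 = true := by decide +kernel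

end Cfsg.Agent.H895.RG.Fi22
end

-- part: H895/RG/Tw
section
/-!
# S3509, row `Fi22`: the classes `13A` and `21A` and the involutions commuting with them (helper895)

* `rp53` : the property `RP` for the elements of order 3 in the elements of the class `21A`;
* `no_inv13` : no involution of the automorphism group of the graph commutes with an element of the class `13A`;
* `conf21` : the configuration for `kill_three` for the involutions commuting with an element of the class `21A`.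
-/

set_option autoImplicit false
set_option maxRecDepth 1000000
set_option exponentiation.threshold 5000

namespace Cfsg.Agent.H895.RG.Fi22

open Cfsg Cfsg.Spor Cfsg.Agent.H123.Cls Cfsg.Agent.Lib.BitNet Cfsg.Agent.H123.Cls.FiDat
open Cfsg.Agent.H494.F22 (rho S S_val S_mem S_mul_self)
open Cfsg.Agent.H494.F22.Row (row)
open Cfsg.Agent.Lib.BitNetSimple (force force_eq tb tb_eq)

/-- a power of prime order of a generator of a cyclic group containing `x` -/
theorem pow_mem_zp {G : Type*} [Group G] [Finite G] {g x : G} {q : ℕ} (hq : q.Prime) (hd : q ∣ orderOf g)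
    (hx : x ∈ Subgroup.zpowers g) (hxq : x ^ q = 1) (hx1 : x ≠ 1) : g ^ (orderOf g / q) ∈ Subgroup.zpowers x := by
  obtain ⟨t, ht⟩ := (isOfFinOrder_of_finite g).mem_powers_iff_mem_zpowers.2 hx
  have ht : g ^ t = x := ht
  obtain ⟨m, hm⟩ := hd
  have hpos : 0 < orderOf g := orderOf_pos g
  have hmq : orderOf g / q = m := by rw [hm, Nat.mul_div_cancel_left _ hq.pos]
  rw [hmq]
  have h1 : q * m ∣ t * q := by
    rw [← hm]
    refine orderOf_dvd_of_pow_eq_one ?_
    rw [pow_mul, ht, hxq]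
  have h2 : m ∣ t := by
    rw [mul_comm t q] at h1
    exact Nat.dvd_of_mul_dvd_mul_left hq.pos h1
  obtain ⟨s, rfl⟩ := h2
  have ho : orderOf (g ^ m) = q := by
    rw [orderOf_pow' g (by rintro rfl; rw [mul_zero] at hm; omega), hm, Nat.gcd_eq_right (Dvd.intro_left q rfl),
      Nat.mul_div_cancel _ (Nat.pos_of_ne_zero (by rintro rfl; rw [mul_zero] at hm; omega))]
  have h3 : Nat.Coprime s (orderOf (g ^ m)) := by
    rw [ho]
    refine Nat.Coprime.symm ((Nat.Prime.coprime_iff_not_dvd hq).2 fun h => hx1 ?_)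
    obtain ⟨u, rfl⟩ := h
    rw [← ht, pow_mul, pow_mul, ← ho, pow_orderOf_eq_one, one_pow]
  obtain ⟨u, hu⟩ := exists_pow_eq_self_of_coprime h3
  rw [← hu, ← pow_mul g m s, ht]
  exact Subgroup.pow_mem _ (Subgroup.mem_zpowers x) u

/-! ### the property `RP` -/

/-- the union of the points -/
noncomputable def orL (L : List ℕ) : ℕ := List.rec 0 (fun a _ ih => Nat.lor (Nat.pow 2 a) ih) L

/-- conjunction over a list -/
noncomputable def allL (t : ℕ → Bool) (L : List ℕ) : Bool := List.rec true (fun a _ ih => band (t a) ih) L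

theorem orL_bit : ∀ {L : List ℕ} {i : ℕ}, (orL L).testBit i = true → i ∈ L
  | [], i, h => by
    change (0 : ℕ).testBit i = true at h
    simp at h
  | a :: L, i, h => by
    change (2 ^ a ||| orL L).testBit i = true at h
    rw [Nat.testBit_or, Bool.or_eq_true, Nat.testBit_two_pow, decide_eq_true_eq] at h
    rcases h with h | h
    · rw [h]; exact List.mem_cons_self
    · exact List.mem_cons_of_mem _ (orL_bit h)

theorem allL_iff {t : ℕ → Bool} : ∀ {L : List ℕ}, allL t L = true → ∀ a ∈ L, t a = true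
  | [], _, a, h => absurd h (List.not_mem_nil)
  | b :: L, h, a, ha => by
    obtain ⟨h1, h2⟩ := band_true (show band (t b) (allL t L) = true from h)
    rcases List.mem_cons.1 ha with rfl | ha
    · exact h1
    · exact allL_iff h2 a ha

noncomputable def onesN : ℕ := Nat.sub (Nat.pow 2 3510) 1

noncomputable def chkRP (P j : ℕ) (L : List ℕ) : Bool :=
  force (pwM 3510 12 row 12 P (false, j)) fun F => band (Nat.beq (orL L) F) (allL (fun p => force (row p) fun Rp =>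
    force (Nat.land F (Nat.xor onesN (Nat.lor Rp (Nat.pow 2 p)))) fun A =>
      allL (fun q => or (not (tb Rp q)) (not (Nat.beq (Nat.land A (row q)) 0))) L) L)

theorem rp_of_chk {P j : ℕ} {L : List ℕ} (h : chkRP P j L = true) {r : Equiv.Perm (Fin 3510)}
    (hr : ∀ p, (r p : ℕ) = lk 12 P p) : RP (r ^ j) := by
  unfold chkRP at h
  rw [force_eq] at h
  obtain ⟨h1, h2⟩ := band_true h
  have hF : ∀ p : Fin 3510, (pwM 3510 12 row 12 P (false, j)).testBit p = true ↔ (r ^ j) p = p := fun p =>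
    testBit_pwM (by norm_num) hr (false, j) p
  have hL : ∀ p : Fin 3510, (r ^ j) p = p → (p : ℕ) ∈ L := fun p hp => by
    apply orL_bit
    rw [Nat.eq_of_beq_eq_true h1]
    exact (hF p).2 hp
  intro p q hp hq hn
  have h3 := allL_iff h2 p (hL p hp)
  rw [force_eq, force_eq] at h3
  have h4 := allL_iff h3 q (hL q hq)
  rw [tb_eq, show (row p).testBit (q : ℕ) = true from hn, Bool.not_true, Bool.false_or, Bool.not_eq_true'] at h4
  have h5 : (pwM 3510 12 row 12 P (false, j) &&& (onesN ^^^ (row p ||| 2 ^ (p : ℕ)))) &&& row q ≠ 0 := by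
    intro h6
    have : Nat.beq (Nat.land (Nat.land (pwM 3510 12 row 12 P (false, j))
      (Nat.xor onesN (Nat.lor (row p) (Nat.pow 2 p)))) (row q)) 0 = true := by
      rw [Nat.beq_eq]
      exact h6
    rw [this] at h4
    exact absurd h4 (by simp)
  obtain ⟨s, hs⟩ := Nat.exists_testBit_of_ne_zero h5
  rw [Nat.testBit_and, Nat.testBit_and, Bool.and_eq_true, Bool.and_eq_true] at hs
  obtain ⟨⟨h6, h7⟩, h8⟩ := hs
  have hs' : s < 3510 := pwM_lt (n := 3510) (K := 12) (row := row) (w := 12) (P := P) (false, j) s h6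
  have h9 : onesN.testBit s = true := by
    show (2 ^ 3510 - 1).testBit s = true
    rw [Nat.testBit_two_pow_sub_one]
    exact decide_eq_true hs'
  rw [Nat.testBit_xor, h9, Nat.testBit_or, Nat.testBit_two_pow, Bool.true_xor, Bool.not_eq_true', Bool.or_eq_false_iff,
    decide_eq_false_iff_not] at h7
  refine ⟨⟨s, hs'⟩, (hF ⟨s, hs'⟩).1 h6, fun h => h7.2 (congrArg Fin.val h).symm, fun h => ?_, h8⟩
  have h10 : (row p).testBit s = true := h
  rw [h7.1] at h10
  exact absurd h10 (by simp)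

theorem RP.conj {σ b : Equiv.Perm (Fin 3510)} (h : RP σ) (hb : b ∈ Aut 3510 row) : RP (b * σ * b⁻¹) := by
  intro p q hp hq hn
  obtain ⟨p, rfl⟩ := b.surjective p
  obtain ⟨q, rfl⟩ := b.surjective q
  have e : ∀ v, (b * σ * b⁻¹) (b v) = b (σ v) := fun v => by
    show b (σ (b⁻¹ (b v))) = b (σ v)
    rw [show b⁻¹ (b v) = v from Equiv.symm_apply_apply _ v]
  rw [e] at hp hq
  rw [nc_aut hb] at hn
  obtain ⟨s, h1, h2, h3, h4⟩ := h p q (b.injective hp) (b.injective hq) hn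
  exact ⟨b s, by rw [e, h1], fun h' => h2 (b.injective h'), by rw [nc_aut hb]; exact h3, by rw [nc_aut hb]; exact h4⟩

theorem chk53 : chkRP p53 7 [0, 1, 2, 3, 9, 10, 11, 12, 13, 14, 63, 69, 70, 79, 80, 81, 82, 91, 104, 196, 197, 198, 202, 222, 243, 244, 253, 528, 529, 530, 531, 585, 586, 587, 588, 628, 629, 630, 676, 677, 678, 679, 680, 681, 682, 683, 952, 953, 954, 955, 956, 1073, 1074, 1097, 1098, 1099, 1168, 1297, 1298, 1299, 1561, 1562, 1563, 1589, 1590, 1634, 1635, 1636, 1674, 1675, 1676, 1677, 1678, 1713, 1714, 1716, 1734, 1765, 1766, 1805, 1806, 1846, 1847, 1884, 1911, 1937, 1965, 2023, 2031, 2032, 2040, 2041, 2119, 2120, 2192, 2239, 2385, 2386, 2387, 2388, 2406, 2412, 2510, 2552, 2553, 2581, 2582, 2583, 2584, 2601, 2631, 2632, 2639, 2650, 2651, 2657, 2658, 2666, 2667, 2668, 2688, 2731, 2732, 2733, 2734, 2769] = true := by decide +kernel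

/-! ### bounds of the centralizers -/

theorem cent_le {P c : ℕ} {l : List (Bool × ℕ)} {L : List Cfsg.Agent.H123.Cls.Ins} (h : chkB 3510 12 row 12 P l L c = true)
    {r b : Equiv.Perm (Fin 3510)} (hr : ∀ p, (r p : ℕ) = lk 12 P p) (hb : b ∈ Aut 3510 row)
    {H : Subgroup (Equiv.Perm (Fin 3510))} (hH : H ≤ Aut 3510 row)
    (hc : ∀ σ ∈ H, σ * (b * r * b⁻¹) = (b * r * b⁻¹) * σ) : Nat.card H ≤ c + 1 := by
  let f : Equiv.Perm (Fin 3510) →* Equiv.Perm (Fin 3510) := (MulAut.conj b⁻¹).toMonoidHom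
  have hf : Function.Injective f := (MulAut.conj b⁻¹).injective
  have h1 : Nat.card (H.map f) = Nat.card H := Nat.card_congr (Subgroup.equivMapOfInjective H f hf).symm.toEquiv
  rw [← h1]
  refine card_le_bound (by norm_num : 3510 ≤ 2 ^ 12) hr h ?_ ?_
  · rintro _ ⟨σ, hσ, rfl⟩
    show b⁻¹ * σ * b⁻¹⁻¹ ∈ Aut 3510 row
    exact mul_mem (mul_mem (inv_mem hb) (hH hσ)) (inv_mem (inv_mem hb))
  · rintro _ ⟨σ, hσ, rfl⟩ i
    have h2 := hc σ hσ
    have h3 : (b⁻¹ * σ * b⁻¹⁻¹) * r = r * (b⁻¹ * σ * b⁻¹⁻¹) := by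
      calc (b⁻¹ * σ * b⁻¹⁻¹) * r = b⁻¹ * (σ * (b * r * b⁻¹)) * b := by group
        _ = b⁻¹ * ((b * r * b⁻¹) * σ) * b := by rw [h2]
        _ = _ := by group
    exact congrArg (fun τ : Equiv.Perm (Fin 3510) => τ i) h3

/-- no involution commutes with an element of the class `13A` -/
theorem no_inv13 {r b z : Equiv.Perm (Fin 3510)} (hr : ∀ p, (r p : ℕ) = lk 12 p45 p) (hb : b ∈ Aut 3510 row)
    (hz : z ∈ Aut 3510 row) (hs : b * r * b⁻¹ ∈ Aut 3510 row) (hz2 : z * z = 1) (hz1 : z ≠ 1)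
    (hr1 : r ≠ 1) (hc : z * (b * r * b⁻¹) = (b * r * b⁻¹) * z) : False := by
  set s := b * r * b⁻¹ with hsd
  have hs13 : s ^ 13 = 1 := by rw [hsd, conj_pow, pow_of_chk pow45 hr, mul_one, mul_inv_cancel]
  have hs1 : s ≠ 1 := by rw [hsd, ne_eq, conj_eq_one_iff]; exact hr1
  have o1 : orderOf s = 13 := by
    have : Fact (Nat.Prime 13) := ⟨by norm_num⟩
    exact orderOf_eq_prime hs13 hs1
  have o2 : orderOf z = 2 := by
    have : Fact (Nat.Prime 2) := ⟨Nat.prime_two⟩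
    exact orderOf_eq_prime (by rw [pow_two]; exact hz2) hz1
  have hcom : Commute z s := hc
  have o3 : orderOf (z * s) = 26 := by
    rw [hcom.orderOf_mul_eq_mul_orderOf_of_coprime (by rw [o1, o2]; norm_num), o1, o2]
  have h1 := cent_le bd45 hr hb (H := Subgroup.zpowers (z * s)) ((Subgroup.zpowers_le).2 (mul_mem hz hs))
    (fun σ hσ => by
      obtain ⟨k, rfl⟩ := Subgroup.mem_zpowers_iff.1 hσ
      exact ((hcom.mul_left (Commute.refl s)).zpow_left k).eq)
  rw [Nat.card_zpowers, o3] at h1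
  omega

/-! ### the class `21A` -/

/-- the diagram swap -/
noncomputable def tau9 : Equiv.Perm (Fin 3510) := S 9

/-- the element of order 21 -/
noncomputable def r21 : Equiv.Perm (Fin 3510) := rho (el w21)

theorem tau9_val (p : Fin 3510) : (tau9 p : ℕ) = lk 12 Cfsg.Agent.H494.F22.Dat.t9 p := S_val (by norm_num) p

theorem tau9_mem : tau9 ∈ Aut 3510 row := S_mem (by norm_num)

theorem tau9_sq : tau9 * tau9 = 1 := S_mul_self (by norm_num)

noncomputable def chk21 : Bool :=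
  band (allN (fun p => Nat.beq (lk 12 R21 (lk 12 Cfsg.Agent.H494.F22.Dat.t9 p)) (lk 12 Cfsg.Agent.H494.F22.Dat.t9 (lk 12 R21 p))) 3510)
    (band (allN (fun p => not (Nat.beq (lk 12 R21 p) p)) 3510)
      (band (not (Nat.beq (it 12 R21 3 0) 0)) (band (not (Nat.beq (it 12 R21 7 0) 0)) (band (not (Nat.beq (it 12 R21 13 0) 0))
        (band (Nat.beq (it 12 R21 7 178) 178) (band (Nat.beq (lk 12 Cfsg.Agent.H494.F22.Dat.t9 178) 2613)
          (band (Nat.beq (it 12 R21 3 178) 1481) (Nat.beq (lk 12 Cfsg.Agent.H494.F22.Dat.t9 1481) 443))))))))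

theorem chk21_eq : chk21 = true := by decide +kernel

noncomputable def chkN : Bool :=
  and (not (tb (row 178) 2613)) (and (not (tb (row 178) 1481)) (and (not (tb (row 178) 443)) (and (tb (row 178) 7)
    (and (tb (row 2613) 7) (and (not (tb (row 1481) 7)) (not (tb (row 443) 7)))))))

theorem chkN_eq : chkN = true := by decide +kernel

/-- the configuration of `kill_three` -/
def Conf (g z : Equiv.Perm (Fin 3510)) : Prop :=
  ∃ p p' s s' t : Fin 3510, (g ^ 7) p = p ∧ z p = p' ∧ (g ^ 3) p = s ∧ z s = s' ∧ ¬ nc p p' ∧ ¬ nc p s ∧ ¬ nc p s' ∧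
    nc p t ∧ nc p' t ∧ ¬ nc s t ∧ ¬ nc s' t ∧ p ≠ p'

theorem Conf.conj {g z b : Equiv.Perm (Fin 3510)} (h : Conf g z) (hb : b ∈ Aut 3510 row) :
    Conf (b * g * b⁻¹) (b * z * b⁻¹) := by
  obtain ⟨p, p', s, s', t, h1, h2, h3, h4, h5, h6, h7, h8, h9, h10, h11, h12⟩ := h
  have e : ∀ σ v, (b * σ * b⁻¹) (b v) = b (σ v) := fun σ v => by
    show b (σ (b⁻¹ (b v))) = b (σ v)
    rw [show b⁻¹ (b v) = v from Equiv.symm_apply_apply _ v]
  refine ⟨b p, b p', b s, b s', b t, ?_, ?_, ?_, ?_, ?_, ?_, ?_, ?_, ?_, ?_, ?_, ?_⟩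
  · rw [conj_pow, e, h1]
  · rw [e, h2]
  · rw [conj_pow, e, h3]
  · rw [e, h4]
  · rwa [nc_aut hb]
  · rwa [nc_aut hb]
  · rwa [nc_aut hb]
  · rwa [nc_aut hb]
  · rwa [nc_aut hb]
  · rwa [nc_aut hb]
  · rwa [nc_aut hb]
  · exact fun h' => h12 (b.injective h')

theorem conf_r21 : Conf r21 tau9 := by
  have h0 := chk21_eq
  unfold chk21 at h0
  simp only [band_eq] at h0
  obtain ⟨-, -, -, -, -, h1, h2, h3, h4⟩ := h0
  have hN := chkN_eq
  unfold chkN at hN
  simp only [tb_eq, Bool.and_eq_true, Bool.not_eq_true'] at hN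
  obtain ⟨n1, n2, n3, n4, n5, n6, n7⟩ := hN
  have hr : ∀ p : Fin 3510, (r21 p : ℕ) = lk 12 R21 p := R21_tab
  have key : ∀ {a b : ℕ} (ha : a < 3510) (hb : b < 3510), (row a).testBit b = false → ¬ nc ⟨a, ha⟩ ⟨b, hb⟩ := by
    intro a b ha hb h h'
    have h'' : (row a).testBit b = true := h'
    rw [h] at h''
    exact absurd h'' (by simp)
  refine ⟨⟨178, by norm_num⟩, ⟨2613, by norm_num⟩, ⟨1481, by norm_num⟩, ⟨443, by norm_num⟩, ⟨7, by norm_num⟩,
    Fin.ext ?_, Fin.ext ?_, Fin.ext ?_, Fin.ext ?_, key _ _ n1, key _ _ n2, key _ _ n3, n4, n5, key _ _ n6, key _ _ n7, ?_⟩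
  · rw [← it_eq hr 7]; exact Nat.eq_of_beq_eq_true h1
  · rw [tau9_val]; exact Nat.eq_of_beq_eq_true h2
  · rw [← it_eq hr 3]; exact Nat.eq_of_beq_eq_true h3
  · rw [tau9_val]; exact Nat.eq_of_beq_eq_true h4
  · intro h
    exact absurd (congrArg Fin.val h) (by norm_num)

theorem tau_comm : tau9 * r21 = r21 * tau9 := by
  have h0 := chk21_eq
  unfold chk21 at h0
  simp only [band_eq] at h0
  obtain ⟨h1, -⟩ := h0
  have hr : ∀ p : Fin 3510, (r21 p : ℕ) = lk 12 R21 p := R21_tab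
  ext p
  have h2 := Nat.eq_of_beq_eq_true ((allN_iff _ _).1 h1 p p.2)
  rw [← tau9_val, ← hr, ← hr, ← tau9_val] at h2
  exact h2.symm

theorem r21_pow : r21 ^ 21 = 1 := pow_of_chk R21_pow R21_tab

theorem r21_ne : r21 ^ 3 ≠ 1 ∧ r21 ^ 7 ≠ 1 ∧ r21 ^ 13 ≠ 1 ∧ ∀ p, r21 p ≠ p := by
  have h0 := chk21_eq
  unfold chk21 at h0
  simp only [band_eq] at h0
  obtain ⟨-, h1, h2, h3, h4, -⟩ := h0
  have hr : ∀ p : Fin 3510, (r21 p : ℕ) = lk 12 R21 p := R21_tab
  refine ⟨pow_ne_of_chk (P := R21) (p := 0) (band_eq.2 ⟨rfl, h2⟩) hr, pow_ne_of_chk (P := R21) (p := 0) (band_eq.2 ⟨rfl, h3⟩) hr,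
    pow_ne_of_chk (P := R21) (p := 0) (band_eq.2 ⟨rfl, h4⟩) hr, fun p hp => ?_⟩
  have h5 := (allN_iff _ _).1 h1 p p.2
  rw [← hr, hp, Nat.beq_refl] at h5
  exact absurd h5 (by simp)

theorem order_r21 : orderOf r21 = 21 := by
  have h1 : orderOf r21 ∣ 21 := orderOf_dvd_of_pow_eq_one r21_pow
  have h2 : ¬ orderOf r21 ∣ 3 := fun h => r21_ne.1 (orderOf_dvd_iff_pow_eq_one.1 h)
  have h3 : ¬ orderOf r21 ∣ 7 := fun h => r21_ne.2.1 (orderOf_dvd_iff_pow_eq_one.1 h)
  have h4 : orderOf r21 ∈ Nat.divisors 21 := Nat.mem_divisors.2 ⟨h1, by norm_num⟩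
  rw [show Nat.divisors 21 = {1, 3, 7, 21} by decide] at h4
  simp only [Finset.mem_insert, Finset.mem_singleton] at h4
  rcases h4 with h | h | h | h
  · exact absurd (h ▸ one_dvd _) h2
  · exact absurd (h ▸ dvd_rfl) h2
  · exact absurd (h ▸ dvd_rfl) h3
  · exact h

theorem tau9_ne : tau9 ≠ 1 := by
  intro h
  obtain ⟨p, p', s, s', t, -, h2, -, -, -, -, -, -, -, -, -, h12⟩ := conf_r21
  rw [h] at h2
  exact h12 h2

/-- `r21` is in the class of `p53` -/
theorem r21_class : ∃ r : Equiv.Perm (Fin 3510), (∀ p, (r p : ℕ) = lk 12 p53 p) ∧ ∃ a ∈ Aut 3510 row, r21 = a * r * a⁻¹ := by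
  obtain ⟨y, hy, -, ht, a, ha, h⟩ := cover (el w21)
  have h0 : ∀ k, rho (com y) ^ k = 1 → r21 ^ k = 1 := fun k hk => by
    have h1 : r21 ^ k = (a * rho (com y) * a⁻¹) ^ k := by rw [← h]; rfl
    rw [h1, conj_pow, hk, mul_one, mul_inv_cancel]
  have h1 : rho (com y) ^ 21 = 1 := by
    have h2 : rho (com y) = a⁻¹ * r21 * a⁻¹⁻¹ := by
      rw [r21, h]; group
    rw [h2, conj_pow, r21_pow, mul_one, mul_inv_cancel]
  rcases kind y hy with hk | hk | hk | hk | hk
  · exfalso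
    refine hk _ ht ?_
    rw [show 15015 = 21 * 715 from rfl, pow_mul, h1, one_pow]
  · exfalso
    refine r21_ne.1 (h0 3 (pow_of_chk pow3 (P := p3) ?_))
    rw [hk] at ht ⊢
    exact ht
  · exfalso
    obtain ⟨p, hp⟩ := hk _ ht
    refine r21_ne.2.2.2 (a p) ?_
    show rho (el w21) (a p) = a p
    rw [h]
    show a (rho (com y) (a⁻¹ (a p))) = a p
    rw [show a⁻¹ (a p) = p from Equiv.symm_apply_apply _ p, hp]
  · exfalso
    refine r21_ne.2.2.1 (h0 13 (pow_of_chk pow45 ?_))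
    rw [← hk]
    exact ht
  · exact ⟨rho (com y), by rw [← hk]; exact ht, a, ha, h⟩

/-- **the configuration for the elements of order 21** -/
theorem conf21 {r b z : Equiv.Perm (Fin 3510)} (hr : ∀ p, (r p : ℕ) = lk 12 p53 p) (hb : b ∈ Aut 3510 row)
    (hz : z ∈ Aut 3510 row) (hz2 : z * z = 1) (hz1 : z ≠ 1) (hc : z * (b * r * b⁻¹) = (b * r * b⁻¹) * z) :
    Conf (b * r * b⁻¹) z := by
  obtain ⟨r', hr', a, ha, h21⟩ := r21_class
  have hrr : r' = r := perm_eq_of_tab hr' hr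
  subst hrr
  set k := b * a⁻¹ with hk
  have hkA : k ∈ Aut 3510 row := mul_mem hb (inv_mem ha)
  have h1 : b * r' * b⁻¹ = k * r21 * k⁻¹ := by rw [h21, hk]; group
  set z' := k⁻¹ * z * k with hz'
  have hz'A : z' ∈ Aut 3510 row := mul_mem (mul_mem (inv_mem hkA) hz) hkA
  have hz'2 : z' ^ 2 = 1 := by
    have e : z' ^ 2 = k⁻¹ * (z * z) * k := by rw [pow_two, hz']; group
    rw [e, hz2, mul_one, inv_mul_cancel]
  have hz'1 : z' ≠ 1 := by
    intro h
    apply hz1
    have e : z = k * z' * k⁻¹ := by rw [hz']; group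
    rw [e, h, mul_one, mul_inv_cancel]
  have hcz : z' * r21 = r21 * z' := by
    rw [h1] at hc
    calc z' * r21 = k⁻¹ * (z * (k * r21 * k⁻¹)) * k := by rw [hz']; group
      _ = k⁻¹ * ((k * r21 * k⁻¹) * z) * k := by rw [hc]
      _ = r21 * z' := by rw [hz']; group
  -- the centralizer
  have hr21A : r21 ∈ Aut 3510 row := rho_mem _
  let C : Subgroup (Equiv.Perm (Fin 3510)) := Aut 3510 row ⊓ Subgroup.centralizer ({r21} : Set _)
  have hC : Nat.card C ≤ 41 + 1 := by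
    refine cent_le bd53 hr ha (H := C) inf_le_left fun σ hσ => ?_
    rw [← h21]
    exact Subgroup.mem_centralizer_singleton_iff.1 (Subgroup.mem_inf.1 hσ).2
  have hcom : Commute tau9 r21 := tau_comm
  have o2 : orderOf tau9 = 2 := by
    have : Fact (Nat.Prime 2) := ⟨Nat.prime_two⟩
    exact orderOf_eq_prime (by rw [pow_two]; exact tau9_sq) tau9_ne
  have o3 : orderOf (tau9 * r21) = 42 := by
    rw [hcom.orderOf_mul_eq_mul_orderOf_of_coprime (by rw [order_r21, o2]; norm_num), order_r21, o2]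
  have hle : Subgroup.zpowers (tau9 * r21) ≤ C := by
    rw [Subgroup.zpowers_le]
    refine Subgroup.mem_inf.2 ⟨mul_mem tau9_mem hr21A, ?_⟩
    rw [Subgroup.mem_centralizer_singleton_iff]
    exact (hcom.mul_left (Commute.refl r21)).eq
  have heq : Subgroup.zpowers (tau9 * r21) = C :=
    Subgroup.eq_of_le_of_card_ge hle (by rw [Nat.card_zpowers, o3]; exact hC)
  have hzC : z' ∈ Subgroup.zpowers (tau9 * r21) := by
    rw [heq]
    exact Subgroup.mem_inf.2 ⟨hz'A, Subgroup.mem_centralizer_singleton_iff.2 hcz⟩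
  have h2 := pow_mem_zp Nat.prime_two (by rw [o3]; norm_num) hzC hz'2 hz'1
  rw [o3, show 42 / 2 = 21 from rfl, hcom.mul_pow, r21_pow, mul_one, show 21 = 2 * 10 + 1 from rfl, pow_succ, pow_mul,
    pow_two, tau9_sq, one_pow, one_mul] at h2
  have h3 : z' = tau9 := by
    obtain ⟨i, hi⟩ := Subgroup.mem_zpowers_iff.1 h2
    rcases Int.even_or_odd i with ⟨j, hj⟩ | ⟨j, hj⟩
    · exfalso
      apply tau9_ne
      rw [← hi, hj, ← two_mul, zpow_mul, zpow_two, ← pow_two, hz'2, one_zpow]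
    · rw [← hi, hj, zpow_add, zpow_mul, zpow_two, ← pow_two, hz'2, one_zpow, one_mul, zpow_one]
  have h4 : z = k * tau9 * k⁻¹ := by rw [← h3, hz']; group
  rw [h1, h4]
  exact conf_r21.conj hkA

end Cfsg.Agent.H895.RG.Fi22
end

-- part: H895/RG/Mn
section
/-!
# S3509, row `Fi22`: the case analysis (helper895)

`dead_fix` : the odd members of a cover do not fix a transposition;
`main` : no cover, given the counting rule for `{z, 3D}` (helper272).
-/

set_option autoImplicit false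
set_option linter.unusedSectionVars false

namespace Cfsg.Agent.H895.RG.Fi22

open Cfsg Cfsg.Spor Cfsg.Agent.H106.RC Cfsg.Agent.H873.RG Cfsg.Agent.H123.Cls Cfsg.Agent.H123.Cls.FiDat
open Cfsg.Agent.Lib.BitNet (Aut)
open Cfsg.Agent.H973.RG (SqInner prime_mem)
open Cfsg.Agent.H494.F22 (rho rho_injective)
open Cfsg.Agent.H494.F22.Row (row)

/-- the product of a commuting family of elements of different prime orders -/
theorem exists_prodc {S : Type*} [Group S] {ι : Type*} [Fintype ι] {x : ι → S} {r : ι → ℕ} (hx : PF x r) :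
    ∃ g ∈ Subgroup.closure (Set.range x), orderOf g = ∏ i, r i ∧ ∀ i, x i ∈ Subgroup.zpowers g := by
  classical
  have key : ∀ s : Finset ι, ∃ g ∈ Subgroup.closure (Set.range x), orderOf g = ∏ i ∈ s, r i ∧
      ∀ i ∈ s, x i ∈ Subgroup.zpowers g := by
    intro s
    induction s using Finset.induction_on with
    | empty => exact ⟨1, one_mem _, by simp, by simp⟩
    | insert i s hi ih =>
      obtain ⟨g, hg, ho, hm⟩ := ih
      have hcomm : Commute (x i) g := by
        refine Subgroup.closure_induction (p := fun g _ => Commute (x i) g) ?_ (Commute.one_right _)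
          (fun a b _ _ ha hb => ha.mul_right hb) (fun a _ ha => ha.inv_right) hg
        rintro _ ⟨j, rfl⟩
        exact hx.comm i j
      have hoi : orderOf (x i) = r i := by
        have := Fact.mk (hx.prime i)
        exact orderOf_eq_prime (hx.pow i) (hx.ne i)
      have hcop : Nat.Coprime (orderOf (x i)) (orderOf g) := by
        rw [hoi, ho]
        refine Nat.Coprime.prod_right fun j hj => ?_
        rw [Nat.coprime_primes (hx.prime i) (hx.prime j)]
        exact fun h => hi (by rw [hx.inj h]; exact hj)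
      have hmul := hcomm.orderOf_mul_eq_mul_orderOf_of_coprime hcop
      refine ⟨x i * g, mul_mem (Subgroup.subset_closure ⟨i, rfl⟩) hg, ?_, ?_⟩
      · rw [hmul, hoi, ho, Finset.prod_insert hi]
      · have hpow : ∀ k : ℕ, (x i * g) ^ k = x i ^ k * g ^ k := fun k => hcomm.mul_pow k
        have h1 : x i ∈ Subgroup.zpowers (x i * g) := by
          have h3 : x i ^ orderOf g ∈ Subgroup.zpowers (x i * g) := by
            have := Subgroup.pow_mem _ (Subgroup.mem_zpowers (x i * g)) (orderOf g)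
            rwa [hpow, pow_orderOf_eq_one, mul_one] at this
          have h4 : x i ∈ Subgroup.zpowers (x i ^ orderOf g) := by
            obtain ⟨k, hk⟩ := exists_pow_eq_self_of_coprime hcop.symm
            have h5 := Subgroup.pow_mem _ (Subgroup.mem_zpowers (x i ^ orderOf g)) k
            rwa [hk] at h5
          exact (Subgroup.zpowers_le.2 h3) h4
        have h2 : g ∈ Subgroup.zpowers (x i * g) := by
          have : (x i)⁻¹ * (x i * g) ∈ Subgroup.zpowers (x i * g) := mul_mem (inv_mem h1) (Subgroup.mem_zpowers _)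
          rwa [inv_mul_cancel_left] at this
        intro j hj
        rcases Finset.mem_insert.1 hj with rfl | hj
        · exact h1
        · exact (Subgroup.zpowers_le.2 h2) (hm j hj)
  obtain ⟨g, hg, ho, hm⟩ := key Finset.univ
  exact ⟨g, hg, ho, fun i => hm i (Finset.mem_univ i)⟩

/-- the odd primes of the order -/
theorem odd_prime {q : ℕ} (hq : q.Prime) (h2 : q ≠ 2) (hd : q ∣ 64561751654400) : q ∣ 15015 := by
  have e : (64561751654400 : ℕ) = 2 ^ 17 * (3 ^ 9 * (5 ^ 2 * (7 * (11 * 13)))) := by norm_num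
  rw [e, hq.dvd_mul, hq.dvd_mul, hq.dvd_mul, hq.dvd_mul, hq.dvd_mul] at hd
  have key : ∀ {a k : ℕ}, a.Prime → q ∣ a ^ k → q = a := fun ha h =>
    (Nat.prime_dvd_prime_iff_eq hq ha).1 (hq.dvd_of_dvd_pow h)
  rcases hd with h | h | h | h | h | h
  · exact absurd (key Nat.prime_two h) h2
  · rw [key Nat.prime_three h]; norm_num
  · rw [key Nat.prime_five h]; norm_num
  · rw [(Nat.prime_dvd_prime_iff_eq hq (by norm_num)).1 h]; norm_num
  · rw [(Nat.prime_dvd_prime_iff_eq hq (by norm_num)).1 h]; norm_num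
  · rw [(Nat.prime_dvd_prime_iff_eq hq (by norm_num)).1 h]; norm_num

section

variable {G Ω ι : Type} [Group G] [Finite G] [Nonempty Ω] [MulAction G Ω] [Finite ι] {N : Subgroup G}

/-- **the odd members of a cover do not fix a transposition** -/
theorem dead_fix (hE : Env G Ω N) (hN : N.Normal) (e : N ≃* Spor.Fi22) (hIH : IHx (Nat.card Spor.Fi22)) {x : ι → G}
    {r : ι → ℕ} (hx : PF x r) (hc : Cov Ω x) {p : Fin 3510} (hp : ∀ i, r i ≠ 2 → ac hN e (x i) p = p) : False := by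
  by_cases h2 : ∃ i, r i = 2
  swap
  · exact dead hE hN e hIH hx hc fun i => hp i fun h => h2 ⟨i, h⟩
  obtain ⟨i, hi⟩ := h2
  have hne : ∀ j, j ≠ i → r j ≠ 2 := fun j hj h => hj (hx.inj (h.trans hi.symm))
  have hz2 : x i * x i = 1 := by
    have := hx.pow i
    rwa [hi, pow_two] at this
  set q := ac hN e (x i) p with hq
  have hzq : ac hN e (x i) q = p := by
    rw [hq, ← Equiv.Perm.mul_apply, ← map_mul, hz2, map_one, Equiv.Perm.one_apply]
  have hjq : ∀ j, j ≠ i → ac hN e (x j) q = q := fun j hj => by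
    rw [hq, comm_ac (hx.comm j i), hp j (hne j hj)]
  by_cases hqp : q = p
  · refine dead hE hN e hIH hx hc (p := p) fun j => ?_
    by_cases hj : j = i
    · rw [hj]; exact hqp
    · exact hp j (hne j hj)
  have zp : x i * dl e p * (x i)⁻¹ = dl e q := by rw [ac_spec hN]
  have zq : x i * dl e q * (x i)⁻¹ = dl e p := by rw [ac_spec hN, hzq]
  by_cases hn : nc p q
  · -- the third transposition
    set v := ac hN e (dl e p) q with hv
    have hdv : dl e v = dl e p * dl e q * dl e p := by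
      rw [hv, ← ac_spec hN, dl_inv]
    have hbr : dl e p * dl e q * dl e p = dl e q * dl e p * dl e q := by
      have h5 := dl_cube (e := e) hn
      have h6 : dl e p * dl e q * dl e p * (dl e q * dl e p * dl e q) = 1 := by
        rw [← h5, pow_succ, pow_two]; group
      have h7 := eq_inv_of_mul_eq_one_left h6
      rw [h7, mul_inv_rev, mul_inv_rev, dl_inv, dl_inv, mul_assoc]
    refine dead hE hN e hIH hx hc (p := v) fun j => ?_
    by_cases hj : j = i
    · rw [hj]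
      apply dl_inj (e := e)
      rw [← ac_spec hN, hdv]
      calc x i * (dl e p * dl e q * dl e p) * (x i)⁻¹ =
          (x i * dl e p * (x i)⁻¹) * (x i * dl e q * (x i)⁻¹) * (x i * dl e p * (x i)⁻¹) := by group
        _ = dl e p * dl e q * dl e p := by rw [zp, zq, hbr]
    · rw [ac_fix, hdv]
      have c1 : Commute (x j) (dl e p) := ac_fix.1 (hp j (hne j hj))
      have c2 : Commute (x j) (dl e q) := ac_fix.1 (hjq j hj)
      exact ((c1.mul_right c2).mul_right c1).eq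
  · have hy : dl e p * x i * (dl e p)⁻¹ * (x i)⁻¹ = dl e p * dl e q := by
      calc dl e p * x i * (dl e p)⁻¹ * (x i)⁻¹ = dl e p * (x i * dl e p * (x i)⁻¹)⁻¹ := by group
        _ = _ := by rw [zp, dl_inv]
    refine Cfsg.Agent.H86.RG.repl_one (Ω := Ω) (ι := ι) (D := {dl e p}) ?_ hx hc i (c := dl e p)
      (fun j hj => (ac_fix.1 (hp j (hne j hj))).symm) Nat.prime_two (fun j hj => hne j hj) ?_ ?_ rfl ?_
      (fun j hj => (ac_fix.1 (hp j (hne j hj))).symm)
    · intro x' r' hx' hc' d hd hcomm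
      rw [Set.mem_singleton_iff] at hd
      subst hd
      exact dead hE hN e hIH hx' hc' (p := p) fun j => ac_fix.2 (hcomm j).symm
    · rw [hy]; exact prod_sq hn
    · rw [hy]; exact prod_ne (fun h => hqp h.symm)
    · rw [hy]
      have h1 : dl e p * dl e q = dl e q * dl e p := dl_comm.2 hn
      calc dl e p * (dl e p * dl e q) = dl e p * (dl e q * dl e p) := by rw [h1]
        _ = dl e p * dl e q * dl e p := by rw [mul_assoc]

end

/-- the counting rule of helper272 -/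
def KillD : Prop :=
  ∀ {G Ω : Type} [Group G] [Finite G] [Finite Ω] [Nonempty Ω] [MulAction G Ω] {N : Subgroup G}
    (_ : Env G Ω N) (e : N ≃* Spor.Fi22) {z h : G} (_ : z ^ 2 = 1) (_ : z ≠ 1) (hh : h ∈ N)
    (_ : ∃ θ : MulAut Spor.Fi22, e ⟨h, hh⟩ = θ (el [1, 8, 6] * el [2, 5, 7] * (el [1, 8, 6])⁻¹ * (el [2, 5, 7])⁻¹))
    (_ : ∀ ω : Ω, z • ω = ω ∨ h • ω = ω), False

theorem ac_inj {G Ω : Type} [Group G] [MulAction G Ω] {N : Subgroup G} (hE : Env G Ω N) (hN : N.Normal)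
    (e : N ≃* Spor.Fi22) {g : G} (h : ac hN e g = 1) : g = 1 := by
  refine eq_one_of_gen (e := e) hE.cent fun s => ?_
  obtain ⟨p, hp⟩ := dl_gen e s
  rw [← hp]
  exact ac_fix.1 (by rw [h, Equiv.Perm.one_apply])

/-- **no cover** -/
theorem main {G Ω ι : Type} [Group G] [Finite G] [Finite Ω] [Nonempty Ω] [MulAction G Ω] [Finite ι] {N : Subgroup G}
    (hsq : SqInner Spor.Fi22) (hT : KillD) (hE : Env G Ω N) (hN : N.Normal) (e : N ≃* Spor.Fi22)
    (hIH : IHx (Nat.card Spor.Fi22)) {x : ι → G} {r : ι → ℕ} (hx : PF x r) (hc : Cov Ω x) : False := by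
  classical
  have : Fintype ι := Fintype.ofFinite ι
  let κ := {i : ι // r i ≠ 2}
  have hκ : PF (fun i : κ => x i.1) (fun i : κ => r i.1) :=
    ⟨fun i => hx.prime _, fun a b h => Subtype.ext (hx.inj h), fun i => hx.pow _, fun i => hx.ne _,
      fun i j => hx.comm _ _⟩
  obtain ⟨g, hgc, ho, hm⟩ := exists_prodc hκ
  have hgN : g ∈ N := by
    refine (Subgroup.closure_le N).2 ?_ hgc
    rintro _ ⟨i, rfl⟩
    exact prime_mem hE e hsq (hx.prime i.1) i.2 (hx.pow i.1)
  have hcomm : ∀ j, x j * g = g * x j := fun j => by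
    refine Subgroup.closure_induction (p := fun g _ => x j * g = g * x j) ?_ (by rw [mul_one, one_mul]) ?_ ?_ hgc
    · rintro _ ⟨i, rfl⟩
      exact hx.comm _ _
    · intro a b _ _ ha hb
      exact ((show Commute (x j) a from ha).mul_right hb).eq
    · intro a _ ha
      exact ((show Commute (x j) a from ha).inv_right).eq
  -- the order of `g`
  have hdvd : orderOf g ∣ 15015 := by
    rw [ho]
    have h1 : ∏ i : κ, r i.1 = ∏ q ∈ Finset.univ.image (fun i : κ => r i.1), q := by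
      rw [Finset.prod_image fun a _ b _ h => Subtype.ext (hx.inj h)]
    rw [h1]
    refine Finset.prod_primes_dvd _ (fun q hq => ?_) fun q hq => ?_
    · obtain ⟨i, -, rfl⟩ := Finset.mem_image.1 hq
      exact (hx.prime i.1).prime
    · obtain ⟨i, -, rfl⟩ := Finset.mem_image.1 hq
      refine odd_prime (hx.prime i.1) i.2 ?_
      have hxN := prime_mem hE e hsq (hx.prime i.1) i.2 (hx.pow i.1)
      have h2 : orderOf (⟨x i.1, hxN⟩ : N) = r i.1 := by
        have := Fact.mk (hx.prime i.1)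
        exact orderOf_eq_prime (Subtype.ext (hx.pow i.1)) fun h => hx.ne i.1 (congrArg Subtype.val h)
      rw [← h2, ← Cfsg.Agent.R01.Fi22Facts.card, ← Nat.card_congr e.toEquiv]
      exact orderOf_dvd_natCard _
  -- the cover in terms of `g`
  have key : ∀ ω : Ω, (∃ i, r i = 2 ∧ x i • ω = ω) ∨
      ∃ q, q.Prime ∧ q ∣ orderOf g ∧ g ^ (orderOf g / q) • ω = ω := by
    intro ω
    obtain ⟨i, hi⟩ := hc ω
    by_cases h2 : r i = 2
    · exact Or.inl ⟨i, h2, hi⟩
    refine Or.inr ⟨r i, hx.prime i, ?_, ?_⟩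
    · rw [ho]
      exact Finset.dvd_prod_of_mem (fun j : κ => r j.1) (Finset.mem_univ ⟨i, h2⟩)
    · have h3 : r i ∣ orderOf g := by
        rw [ho]
        exact Finset.dvd_prod_of_mem (fun j : κ => r j.1) (Finset.mem_univ ⟨i, h2⟩)
      have h4 := pow_mem_zp (hx.prime i) h3 (hm ⟨i, h2⟩) (hx.pow i) (hx.ne i)
      have h5 : Subgroup.zpowers (x i) ≤ MulAction.stabilizer G ω := Subgroup.zpowers_le.2 hi
      exact h5 h4
  have hg1 : (∀ i, r i ≠ 2) → g ≠ 1 := by
    rintro h2 rfl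
    obtain ⟨ω₀⟩ := (inferInstance : Nonempty Ω)
    rcases key ω₀ with ⟨i, hi, -⟩ | ⟨q, hq, hd, -⟩
    · exact h2 i hi
    · rw [orderOf_one] at hd
      exact hq.one_lt.ne' (Nat.dvd_one.1 hd)
  have hg1' : g ≠ 1 := by
    by_cases h2 : ∃ i, r i = 2
    · rintro rfl
      obtain ⟨i, hi⟩ := h2
      refine hx.ne i (hE.single fun ω => ?_)
      rcases key ω with ⟨j, hj, hjω⟩ | ⟨q, hq, hd, -⟩
      · rw [hx.inj (hj.trans hi.symm)] at hjω
        exact hjω
      · rw [orderOf_one] at hd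
        exact absurd (Nat.dvd_one.1 hd) hq.one_lt.ne'
    · exact hg1 fun i hi => h2 ⟨i, hi⟩
  -- the class of `g`
  obtain ⟨y, hy, ⟨θ, hθ⟩, ht, b, hb, hrho⟩ := cover (e ⟨g, hgN⟩)
  have hac : ac hN e g = b * rho (com y) * b⁻¹ := by rw [ac_mem hN e hgN, hrho]
  have hpow : ∀ k, rho (com y) ^ k = 1 → g ^ k = 1 := fun k hk => by
    apply ac_inj hE hN e
    rw [map_pow, hac, conj_pow, hk, mul_one, mul_inv_cancel]
  have hpow' : ∀ k, g ^ k = 1 → rho (com y) ^ k = 1 := fun k hk => by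
    have h1 : rho (com y) = b⁻¹ * ac hN e g * b⁻¹⁻¹ := by rw [hac]; group
    rw [h1, conj_pow, ← map_pow, hk, map_one, mul_one, mul_inv_cancel]
  have hr1 : rho (com y) ≠ 1 := fun h => hg1' (by simpa using hpow 1 (by rw [pow_one, h]))
  -- prime order
  have hprime : ∀ {q : ℕ}, q.Prime → g ^ q = 1 → ∀ ω : Ω, (∃ i, r i = 2 ∧ x i • ω = ω) ∨ g • ω = ω := by
    intro q hq hgq ω
    have := Fact.mk hq
    have hoq : orderOf g = q := orderOf_eq_prime hgq hg1'
    rcases key ω with h | ⟨q', hq', hd, h⟩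
    · exact Or.inl h
    · right
      rw [hoq] at hd h
      rw [(Nat.prime_dvd_prime_iff_eq hq' hq).1 hd, Nat.div_self hq.pos, pow_one] at h
      exact h
  rcases kind y hy with hk | hk | hk | hk | hk
  · exact hk _ ht (hpow' _ (orderOf_dvd_iff_pow_eq_one.1 hdvd))
  · -- class 3D
    have hg3 : g ^ 3 = 1 := hpow 3 (pow_of_chk pow3 (P := p3) (by rw [hk] at ht ⊢; exact ht))
    have h1 := hprime Nat.prime_three hg3
    by_cases h2 : ∃ i, r i = 2
    · obtain ⟨i, hi⟩ := h2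
      refine hT hE e (z := x i) (h := g) (by rw [← hi]; exact hx.pow i) (hx.ne i) hgN ⟨θ, ?_⟩ fun ω => ?_
      · rw [hθ, hk]
        rfl
      · rcases h1 ω with ⟨j, hj, hjω⟩ | h
        · rw [hx.inj (hj.trans hi.symm)] at hjω
          exact Or.inl hjω
        · exact Or.inr h
    · exact hg1' (hE.single fun ω => (h1 ω).resolve_left fun ⟨i, hi, _⟩ => h2 ⟨i, hi⟩)
  · -- a fixed transposition
    obtain ⟨p, hp⟩ := hk _ ht
    have hfix : ac hN e g (b p) = b p := by
      rw [hac]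
      show b (rho (com y) (b⁻¹ (b p))) = b p
      rw [show b⁻¹ (b p) = p from Equiv.symm_apply_apply _ p, hp]
    refine dead_fix hE hN e hIH hx hc (p := b p) fun i hi => ?_
    obtain ⟨k, hk⟩ := Subgroup.mem_zpowers_iff.1 (hm ⟨i, hi⟩)
    have hk' : g ^ k = x i := hk
    rw [← hk', ac_fix]
    exact ((show Commute g (dl e (b p)) from ac_fix.1 hfix).zpow_left k).eq
  · -- class 13A
    have ht' : ∀ p, (rho (com y) p : ℕ) = lk 12 p45 p := by rw [← hk]; exact ht
    have h1 := hprime (q := 13) (by norm_num) (hpow 13 (pow_of_chk pow45 ht'))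
    by_cases h2 : ∃ i, r i = 2
    · obtain ⟨i, hi⟩ := h2
      have hz2 : x i * x i = 1 := by
        have := hx.pow i
        rwa [hi, pow_two] at this
      refine no_inv13 ht' hb (ac_Aut hN e (x i)) ?_ (by rw [← map_mul, hz2, map_one])
        (fun h => hx.ne i (ac_inj hE hN e h)) hr1 ?_
      · rw [← hac]; exact ac_Aut hN e g
      · rw [← hac, ← map_mul, ← map_mul, hcomm i]
    · exact hg1' (hE.single fun ω => (h1 ω).resolve_left fun ⟨i, hi, _⟩ => h2 ⟨i, hi⟩)
  · -- class 21A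
    have ht' : ∀ p, (rho (com y) p : ℕ) = lk 12 p53 p := by rw [← hk]; exact ht
    have ho21 : orderOf g = 21 := by
      obtain ⟨r', hr', a, ha, h21⟩ := r21_class
      have hrr : r' = rho (com y) := perm_eq_of_tab hr' ht'
      have h3 : ∀ k, g ^ k = 1 ↔ r21 ^ k = 1 := fun k => by
        rw [h21, conj_pow, conj_eq_one_iff, hrr]
        exact ⟨hpow' k, hpow k⟩
      rw [← order_r21]
      exact orderOf_eq_orderOf_iff.2 h3
    have h1 : ∀ ω : Ω, (∃ i, r i = 2 ∧ x i • ω = ω) ∨ g ^ 7 • ω = ω ∨ g ^ 3 • ω = ω := by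
      intro ω
      rcases key ω with h | ⟨q, hq, hd, h⟩
      · exact Or.inl h
      · right
        rw [ho21] at hd h
        rw [show 21 = 3 * 7 from rfl, hq.dvd_mul, Nat.prime_dvd_prime_iff_eq hq Nat.prime_three,
          Nat.prime_dvd_prime_iff_eq hq (by norm_num)] at hd
        rcases hd with rfl | rfl
        · exact Or.inl h
        · exact Or.inr h
    have hg21 : g ^ 21 = 1 := by rw [← ho21]; exact pow_orderOf_eq_one g
    have h7 : (g ^ 7) ^ 3 = 1 := by rw [← pow_mul]; exact hg21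
    have h3 : (g ^ 3) ^ 7 = 1 := by rw [← pow_mul]; exact hg21
    have h7' : g ^ 7 ≠ 1 := fun h => by
      have := orderOf_dvd_of_pow_eq_one h
      rw [ho21] at this
      norm_num at this
    have h3' : g ^ 3 ≠ 1 := fun h => by
      have := orderOf_dvd_of_pow_eq_one h
      rw [ho21] at this
      norm_num at this
    by_cases h2 : ∃ i, r i = 2
    · obtain ⟨i, hi⟩ := h2
      have hz2 : x i * x i = 1 := by
        have := hx.pow i
        rwa [hi, pow_two] at this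
      have hconf := conf21 ht' hb (ac_Aut hN e (x i)) (by rw [← map_mul, hz2, map_one])
        (fun h => hx.ne i (ac_inj hE hN e h)) (by rw [← hac, ← map_mul, ← map_mul, hcomm i])
      rw [← hac] at hconf
      obtain ⟨p, p', s, s', t, c1, c2, c3, c4, c5, c6, c7, c8, c9, c10, c11, c12⟩ := hconf
      rw [← map_pow] at c1 c3
      refine kill_three hE hN e hIH hz2 h7 h7' ?_ ?_ ?_ (fun ω => ?_) c1 c2 c3 c4 c5 c6 c7 c8 c9 c10 c11 c12
      · exact ((show Commute (x i) g from hcomm i).pow_right 7).eq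
      · exact ((show Commute (x i) g from hcomm i).pow_right 3).eq
      · exact ((Commute.refl g).pow_pow 7 3).eq
      · rcases h1 ω with ⟨j, hj, hjω⟩ | h | h
        · rw [hx.inj (hj.trans hi.symm)] at hjω
          exact Or.inl hjω
        · exact Or.inr (Or.inl h)
        · exact Or.inr (Or.inr h)
    · have hfix : ∃ p, ac hN e (g ^ 7) p = p := by
        obtain ⟨r', hr', a, ha, h21⟩ := r21_class
        have hrr : r' = rho (com y) := perm_eq_of_tab hr' ht'
        obtain ⟨p, p', s, s', t, c1, -⟩ := conf_r21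
        refine ⟨b (a⁻¹ p), ?_⟩
        rw [map_pow, hac, conj_pow]
        show b ((rho (com y) ^ 7) (b⁻¹ (b (a⁻¹ p)))) = b (a⁻¹ p)
        rw [show b⁻¹ (b (a⁻¹ p)) = a⁻¹ p from Equiv.symm_apply_apply _ _]
        congr 1
        have h4 : rho (com y) ^ 7 = a⁻¹ * r21 ^ 7 * a⁻¹⁻¹ := by
          rw [← hrr, ← conj_pow, h21]; group
        rw [h4]
        show a⁻¹ ((r21 ^ 7) (a⁻¹⁻¹ (a⁻¹ p))) = a⁻¹ p
        rw [show a⁻¹⁻¹ (a⁻¹ p) = p from Equiv.symm_apply_apply _ _, c1]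
      obtain ⟨p, hp⟩ := hfix
      refine kill_pair hE hN e hIH (h := g ^ 7) (w := g ^ 3) (a := 7) (b := 3) (by norm_num) Nat.prime_three (by norm_num)
        (by norm_num) h3 h3' h7 h7' ((Commute.refl g).pow_pow 3 7).eq (fun ω => ?_) ?_ hp
      · exact (h1 ω).resolve_left fun ⟨i, hi, _⟩ => h2 ⟨i, hi⟩
      · rw [map_pow, hac, conj_pow]
        exact (rp_of_chk chk53 ht').conj hb

end Cfsg.Agent.H895.RG.Fi22
end

-- part: H272/RG/FiZD0
section
/-!
# S3509, row `Fi22`: conjugates of elements of odd prime order generate: definitions (helper272)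

* `chkU_spec` : kernel check (tables on the 3510 points) for an element of order 22 and an element not commuting with its 11th
  power;
* `top_of_chk` : generation by conjugates of an element;
* `G3 x` : some three conjugates of `x` generate `Fi22`.
-/

set_option autoImplicit false
set_option maxRecDepth 1000000
set_option exponentiation.threshold 5000
set_option linter.constructorNameAsVariable false

namespace Cfsg.Agent.H272.RG.FiZ

open Subgroup Cfsg Cfsg.Spor Cfsg.Spor.Fi22 Cfsg.Agent.Fischer Cfsg.Agent.Fischer.Fi22PtsRep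
open Cfsg.Agent.H834 Cfsg.Agent.H834.AC Cfsg.Agent.H867.SprFi22 Cfsg.Agent.Lib.PermNet Cfsg.Agent.Lib.PermNetOrbit Cfsg.Agent.Lib.PermNetFix
open Cfsg.Agent.H123.Cls (lk it it_eq allN allN_iff band band_true evw evw_cons chkL chkL_iff nth)
open Cfsg.Agent.H123.Cls.FiDat (gens gn gn_tab el el_cons el_append el_reverse W words_cover comm_tab)
open Cfsg.Agent.H494.F22 (rho rho_injective)

/-! ### words in the model of helper834 -/

theorem eqB_of_wd {u v : List Gen} (h : mdl.wd u = mdl.wd v) : eqB u v = true := by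
  have key : ∀ l : List ℕ, eqL u v l = true := by
    intro l
    induction l with
    | nil => rfl
    | cons p l ih =>
      show and (Nat.beq (ptWord (nw u) p) (ptWord (nw v) p)) (eqL u v l) = true
      rw [ih, ← mdl.φ_wd_apply, ← mdl.φ_wd_apply, h, Nat.beq_refl]
      rfl
  exact key _

/-- the word of a commutator -/
def cm (a b : List ℕ) : List Gen := (a ++ b ++ a.reverse ++ b.reverse).map gn

theorem el_eq (l : List ℕ) : el l = mdl.wd (l.map gn) := by
  show _ = Fi22PtsRep.wd (l.map gn)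
  rw [el, Fi22PtsRep.wd, List.map_map]
  rfl

theorem cm_eq (a b : List ℕ) : el a * el b * (el a)⁻¹ * (el b)⁻¹ = mdl.wd (cm a b) := by
  rw [cm, ← el_eq, el_append, el_append, el_append, el_reverse, el_reverse]

/-- words of the representatives of odd prime order -/
def C8 : List (List ℕ × List ℕ) := [([2], [1]), ([3, 7, 4, 0, 3, 8, 5, 4, 7, 3], [2, 8, 7]), ([0, 3], [1, 7]),
  ([1, 8, 6], [2, 5, 7]), ([8, 2], [7, 3]), ([0, 8, 3], [1, 2, 7]), ([3, 2, 8, 6, 0], [1, 8, 7, 3, 4, 5]),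
  ([5, 8, 2, 0], [1, 3, 4, 7])]

/-- in the list -/
def inC (a b : List ℕ) : Bool := C8.any fun z => decide (z.1 = a ∧ z.2 = b)

/-- trivial or not of odd prime order -/
noncomputable def no5 (w : List Gen) : Bool :=
  eqB w [] || (!(eqB (rep 3 w) []) && (!(eqB (rep 5 w) []) && (!(eqB (rep 7 w) []) && (!(eqB (rep 11 w) []) &&
    !(eqB (rep 13 w) [])))))

/-! ### tables -/

/-- the element with the table `P` -/
def Tb (g : Spor.Fi22) (P : ℕ) : Prop := ∀ p : Fin 3510, (rho g p : ℕ) = lk 12 P p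

/-- value of a word, the letter nine is `x` -/
noncomputable def elx (x : Spor.Fi22) (L : List ℕ) : Spor.Fi22 :=
  (L.map fun n => if n = 9 then x else (PresentedGroup.of (gn n) : Spor.Fi22)).prod

theorem elx_nil (x : Spor.Fi22) : elx x [] = 1 := rfl

theorem elx_cons (x : Spor.Fi22) (n : ℕ) (L : List ℕ) :
    elx x (n :: L) = (if n = 9 then x else (PresentedGroup.of (gn n) : Spor.Fi22)) * elx x L := by
  simp only [elx, List.map_cons, List.prod_cons]

theorem elx_append (x : Spor.Fi22) (u v : List ℕ) : elx x (u ++ v) = elx x u * elx x v := by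
  simp only [elx, List.map_append, List.prod_append]

theorem elx_tab {x : Spor.Fi22} {P : ℕ} (hx : Tb x P) : ∀ (L : List ℕ), (∀ n ∈ L, n < 10) → ∀ p : Fin 3510,
    (rho (elx x L) p : ℕ) = evw 12 (gens ++ [P]) L p
  | [], _, p => by
    show (rho 1 p : ℕ) = p
    rw [map_one]
    rfl
  | n :: L, h, p => by
    rw [elx_cons, map_mul, Equiv.Perm.mul_apply, evw_cons, ← elx_tab hx L fun y hy => h y (List.mem_cons_of_mem _ hy)]
    rcases Nat.lt_succ_iff_lt_or_eq.1 (h n List.mem_cons_self) with h1 | rfl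
    · rw [if_neg h1.ne, gn_tab h1]
      congr 1
      interval_cases n <;> rfl
    · rw [if_pos rfl]
      exact hx _

/-! ### conjugates -/

/-- the word of `c x ^ k c⁻¹` -/
def pc (c : List ℕ) (k : ℕ) : List ℕ := c ++ (List.replicate k 9 ++ c.reverse)

theorem elx_eq {x : Spor.Fi22} : ∀ {c : List ℕ}, (∀ n ∈ c, n < 9) → elx x c = el c
  | [], _ => rfl
  | n :: c, h => by
    rw [elx_cons, el_cons, if_neg (h n List.mem_cons_self).ne, elx_eq fun y hy => h y (List.mem_cons_of_mem _ hy)]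

theorem elx_pc {x : Spor.Fi22} {c : List ℕ} (hc : ∀ n ∈ c, n < 9) (k : ℕ) :
    elx x (pc c k) = (el c * x * (el c)⁻¹) ^ k := by
  have h1 : elx x (List.replicate k 9) = x ^ k := by
    induction k with
    | zero => rw [pow_zero]; rfl
    | succ k ih => rw [List.replicate_succ, elx_cons, if_pos rfl, ih, pow_succ']
  rw [pc, elx_append, elx_append, h1, elx_eq hc, elx_eq (by simpa using hc), el_reverse, conj_pow, mul_assoc]

/-- a product of powers of conjugates -/
def ex (l : List (List ℕ × ℕ)) : List ℕ := l.flatMap fun z => pc z.1 z.2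

theorem ex_mem {x : Spor.Fi22} {K : Subgroup Spor.Fi22} : ∀ {l : List (List ℕ × ℕ)},
    (∀ z ∈ l, (∀ n ∈ z.1, n < 9) ∧ el z.1 * x * (el z.1)⁻¹ ∈ K) → elx x (ex l) ∈ K
  | [], _ => by
    show elx x [] ∈ K
    rw [elx_nil]
    exact one_mem _
  | z :: l, h => by
    have h1 : ex (z :: l) = pc z.1 z.2 ++ ex l := by simp [ex]
    have h2 := h z List.mem_cons_self
    rw [h1, elx_append, elx_pc h2.1]
    exact mul_mem (pow_mem h2.2 _) (ex_mem fun y hy => h y (List.mem_cons_of_mem _ hy))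

/-- three conjugates generate -/
def G3 (x : Spor.Fi22) : Prop := ∃ c d : Spor.Fi22, ∀ K : Subgroup Spor.Fi22, x ∈ K → c * x * c⁻¹ ∈ K → d * x * d⁻¹ ∈ K → K = ⊤

theorem G3.map {x : Spor.Fi22} (h : G3 x) (θ : MulAut Spor.Fi22) : G3 (θ x) := by
  obtain ⟨c, d, h⟩ := h
  refine ⟨θ c, θ d, fun K h1 h2 h3 => ?_⟩
  have h4 := h (K.comap (θ : Spor.Fi22 →* Spor.Fi22)) h1
    (by rw [mem_comap]; show θ (c * x * c⁻¹) ∈ K; rw [map_mul, map_mul, map_inv]; exact h2)
    (by rw [mem_comap]; show θ (d * x * d⁻¹) ∈ K; rw [map_mul, map_mul, map_inv]; exact h3)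
  rw [eq_top_iff]
  intro t _
  have h5 : θ.symm t ∈ K.comap (θ : Spor.Fi22 →* Spor.Fi22) := by rw [h4]; trivial
  have h6 : θ (θ.symm t) ∈ K := h5
  rwa [MulEquiv.apply_symm_apply] at h6

/-- check of the letters and conjugators -/
def chkl (c d : List ℕ) (l : List (List ℕ × ℕ)) : Bool :=
  l.all fun z => decide (z.1 = [] ∨ z.1 = c ∨ z.1 = d) && z.1.all fun n => Nat.blt n 9

/-! ### the same check on a base -/

section

open Cfsg.Agent.H895.RG.Fi22 (Rel rel_of_chk chkSup tau tau_of_rel tau_conj)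

/-- the points of the nine generators -/
def bsP : List ℕ := [0, 14, 12, 10, 154, 215, 256, 243, 1965]

theorem bsP_ok : ∀ x < 9, nth bsP x < 3510 ∧ nth bsP x ∈ bsP ∧ chkSup (nth gens x) (nth bsP x) = true := by
  decide +kernel

theorem eq_one_of_bsP {g : Spor.Fi22} (h : ∀ p : Fin 3510, (p : ℕ) ∈ bsP → rho g p = p) : g = 1 := by
  have h1 : ∀ s : Gen, g * gen s = gen s * g := by
    intro s
    obtain ⟨x, hx, rfl⟩ : ∃ x < 9, gn x = s := by cases s <;> decide
    obtain ⟨h2, h3, h4⟩ := bsP_ok x hx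
    have h5 : tau ⟨nth bsP x, h2⟩ = gen (gn x) :=
      tau_of_rel (Cfsg.Agent.R01.Fi22Facts.gen_mem _) (rel_of_chk hx h2 h4)
    have h6 := tau_conj g ⟨nth bsP x, h2⟩
    rw [h _ h3, h5, mul_inv_eq_iff_eq_mul] at h6
    exact h6
  have h2 : Subgroup.centralizer ({g} : Set Spor.Fi22) = ⊤ := by
    rw [eq_top_iff, ← Cfsg.Agent.Fischer.Fi22PtsRep.closure_gen, Subgroup.closure_le]
    rintro _ ⟨s, rfl⟩
    exact Subgroup.mem_centralizer_singleton_iff.2 (h1 s).symm
  have h3 : g ∈ Subgroup.center Spor.Fi22 := Subgroup.mem_center_iff.2 fun y =>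
    Subgroup.mem_centralizer_singleton_iff.1 (by rw [h2]; trivial)
  haveI : IsSimpleGroup Spor.Fi22 := Cfsg.Agent.R01.Fi22Facts.isSimple
  rcases IsSimpleGroup.eq_bot_or_eq_top_of_normal (Subgroup.center Spor.Fi22) inferInstance with h4 | h4
  · rw [h4] at h3
    exact Subgroup.mem_bot.1 h3
  · exfalso
    apply Cfsg.Agent.Fischer.Fi22Order.ab_ne
    exact (Subgroup.mem_center_iff.1 (by rw [h4]; trivial) _)

/-- the powers of a word at a point -/
noncomputable def itw (P : ℕ) (L : List ℕ) (j p : ℕ) : ℕ :=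
  Nat.rec (motive := fun _ => ℕ) p (fun _ r => evw 12 (gens ++ [P]) L r) j

/-- the check -/
noncomputable def chkV (P : ℕ) (L : List ℕ) : Bool :=
  band (chkL 10 L) (band (bsP.all fun p => Nat.beq (itw P L 22 p) p) (band (!(Nat.beq (itw P L 2 0) 0))
      (!(Nat.beq (lk 12 P (itw P L 11 0)) (itw P L 11 (lk 12 P 0))))))

theorem chkV_spec {x : Spor.Fi22} {P : ℕ} {L : List ℕ} (hx : Tb x P) (h : chkV P L = true) :
    orderOf (elx x L) = 22 ∧ x * elx x L ^ 11 ≠ elx x L ^ 11 * x := by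
  obtain ⟨hL, h⟩ := band_true h
  obtain ⟨h22, h⟩ := band_true h
  obtain ⟨h2, h11⟩ := band_true h
  rw [Bool.not_eq_true', ← Bool.not_eq_true, Nat.beq_eq] at h2 h11
  have hit : ∀ (j : ℕ) (p : Fin 3510), itw P L j p = (rho (elx x L ^ j) p : ℕ) := by
    intro j p
    induction j with
    | zero => rw [pow_zero, map_one]; rfl
    | succ j ih =>
      rw [pow_succ', map_mul, Equiv.Perm.mul_apply, elx_tab hx L (chkL_iff _ L hL), ← ih]
      rfl
  generalize elx x L = u at hit ⊢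
  have h0 : ∀ j : ℕ, itw P L j 0 = (rho (u ^ j) 0 : ℕ) := fun j => hit j 0
  have h4 : x * u ^ 11 ≠ u ^ 11 * x := by
    intro h5
    apply h11
    have h6 : (rho (x * u ^ 11) 0 : ℕ) = (rho (u ^ 11 * x) 0 : ℕ) := by rw [h5]
    rw [map_mul, map_mul, Equiv.Perm.mul_apply, Equiv.Perm.mul_apply, hx, ← hit, ← hit, hx] at h6
    exact h6
  refine ⟨?_, h4⟩
  have h5 : u ^ 22 = 1 := eq_one_of_bsP fun p hp => Fin.ext (by
    rw [← hit]
    exact Nat.eq_of_beq_eq_true (List.all_eq_true.1 h22 p hp))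
  have h6 : orderOf u ∣ 22 := orderOf_dvd_of_pow_eq_one h5
  have h7 : ¬ orderOf u ∣ 2 := by
    intro h8
    rw [orderOf_dvd_iff_pow_eq_one] at h8
    apply h2
    rw [h0, h8, map_one]
    rfl
  have h8 : ¬ orderOf u ∣ 11 := by
    intro h8
    rw [orderOf_dvd_iff_pow_eq_one] at h8
    exact h4 (by rw [h8, mul_one, one_mul])
  have h9 : orderOf u ∈ Nat.divisors 22 := Nat.mem_divisors.2 ⟨h6, by norm_num⟩
  have h10 : Nat.divisors 22 = {1, 2, 11, 22} := by decide
  rw [h10] at h9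
  simp only [Finset.mem_insert, Finset.mem_singleton] at h9
  rcases h9 with h | h | h | h
  · exact absurd (h ▸ one_dvd _) h7
  · exact absurd (h ▸ dvd_rfl) h7
  · exact absurd (h ▸ dvd_rfl) h8
  · exact h

theorem top_of_chkV {x : Spor.Fi22} {P : ℕ} {L : List ℕ} {l : List (List ℕ × ℕ)} (hx : Tb x P) (h : chkV P L = true)
    (hL : ex l = L) {K : Subgroup Spor.Fi22} (h0 : x ∈ K)
    (hK : ∀ z ∈ l, (∀ n ∈ z.1, n < 9) ∧ el z.1 * x * (el z.1)⁻¹ ∈ K) : K = ⊤ := by
  obtain ⟨h1, h2⟩ := chkV_spec hx h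
  exact Cfsg.Agent.H867.Gen.FiTwentyTwo.top_of_order (by rw [← hL]; exact ex_mem hK) h0 h1 h2

theorem G3.of_chkV {x : Spor.Fi22} {P : ℕ} {L : List ℕ} {c d : List ℕ} {l : List (List ℕ × ℕ)} (hx : Tb x P)
    (h : chkV P L = true) (hL : ex l = L) (hl : chkl c d l = true) : G3 x := by
  refine ⟨el c, el d, fun K h1 h2 h3 => top_of_chkV hx h hL h1 fun z hz => ?_⟩
  have h4 := List.all_eq_true.1 hl z hz
  rw [Bool.and_eq_true] at h4
  refine ⟨fun n hn => Nat.blt_eq.mp (List.all_eq_true.1 h4.2 n hn), ?_⟩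
  rcases of_decide_eq_true h4.1 with h5 | h5 | h5
  · rw [h5]
    show 1 * x * 1⁻¹ ∈ K
    rwa [one_mul, inv_one, mul_one]
  · rwa [h5]
  · rwa [h5]

end

/-- an element of the class `3D` -/
noncomputable def xD : Spor.Fi22 := el [1, 8, 6] * el [2, 5, 7] * (el [1, 8, 6])⁻¹ * (el [2, 5, 7])⁻¹

/-- an element of order nine -/
noncomputable def gD : Spor.Fi22 := el [0, 2, 3, 1, 7, 5, 8, 5, 4]

end Cfsg.Agent.H272.RG.FiZ
end

private theorem dce_40f6d9e4d2cd : _root_.True := by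
  try have : _root_.True := by simp only [_root_.Cfsg.Agent.H272.RG.FiZ.ex.eq_1]
  try have : _root_.True := by simp only [_root_.Cfsg.Agent.H272.RG.FiZ.pc.eq_1]
  try have : _root_.True := by simp only [_root_.Cfsg.Agent.H272.RG.FiZ.cm.eq_1]
  try have : _root_.True := by simp only [_root_.Cfsg.Agent.H895.RG.Fi22.r21.eq_1]
  try have : _root_.True := by simp only [_root_.Cfsg.Agent.H272.RG.FiZ.elx.eq_1]
  exact _root_.True.intro
end
end
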